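import Cfsg.Agent.Lib.Spor.MTwelve.OrderFront.Core

/-!
The two-core of the centraliser of the central involution: fixed points, commutators and squares.
-/

set_option autoImplicit false

namespace Cfsg.Agent.MTwelve.OrderFront

universe u

variable {G : Type u} [Group G] [Finite G]

omit [Finite G] in
theorem zpowers_two {z x : G} (hz : orderOf z = 2) (hx : x ∈ Subgroup.zpowers z) : x = 1 ∨ x = z := by
  obtain ⟨k, rfl⟩ := Subgroup.mem_zpowers_iff.1 hx
  have hzz : z ^ (2 : ℤ) = 1 := by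
    rw [show (2 : ℤ) = ((2 : ℕ) : ℤ) from rfl, zpow_natCast, ← hz, pow_orderOf_eq_one]
  rcases Int.emod_two_eq k with h | h
  · left
    rw [← Int.emod_add_mul_ediv k 2, h, zero_add, zpow_mul, hzz, one_zpow]
  · right
    rw [← Int.emod_add_mul_ediv k 2, h, zpow_add, zpow_one, zpow_mul, hzz, one_zpow, mul_one]

theorem card_mul_card_le {A B S : Subgroup G} (hA : A ≤ S) (hB : B ≤ S) :
    Nat.card A * Nat.card B ≤ Nat.card ↥(A ⊓ B) * Nat.card S := by
  have h1 := Subgroup.card_mul_index (B.subgroupOf A)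
  rw [Nat.card_congr (show ↥(B.subgroupOf A) ≃ ↥(A ⊓ B) from
    { toFun := fun x => ⟨(x : A), (x : A).2, x.2⟩
      invFun := fun x => ⟨⟨x, x.2.1⟩, x.2.2⟩
      left_inv := fun x => rfl
      right_inv := fun x => rfl })] at h1
  have h2 := Subgroup.card_mul_index (B.subgroupOf S)
  rw [Nat.card_congr (Subgroup.subgroupOfEquivOfLe hB).toEquiv] at h2
  have h3 : (B.subgroupOf A).index ≤ (B.subgroupOf S).index :=
    Subgroup.relIndex_le_of_le_right hA Subgroup.index_ne_zero_of_finite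
  rw [← h1, ← h2]
  calc Nat.card ↥(A ⊓ B) * (B.subgroupOf A).index * Nat.card B
      ≤ Nat.card ↥(A ⊓ B) * (B.subgroupOf S).index * Nat.card B :=
        Nat.mul_le_mul_right _ (Nat.mul_le_mul_left _ h3)
    _ = _ := by ring

namespace Core

variable {z : G} (K : Core z)

omit [Finite G] in
include K in
theorem z_ne : z ≠ 1 := fun e => by
  have h := K.order
  rw [e, orderOf_one] at h
  omega

omit [Finite G] in
include K in
theorem zz : z * z = 1 := by rw [← sq, ← K.order, pow_orderOf_eq_one]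

omit [Finite G] in
include K in
theorem z_inv : z⁻¹ = z := inv_eq_of_mul_eq_one_right K.zz

variable (hyp : K.Six) {v t : G} (hp : K.Pair v t)

include hp in
theorem v_comm : v * z = z * v := Subgroup.mem_centralizer_singleton_iff.1 hp.v_mem

include hp in
theorem v_cube : v ^ 3 = 1 := hp.order ▸ pow_orderOf_eq_one v

include hp in
theorem v_sq : v * v = v⁻¹ := eq_inv_of_mul_eq_one_left (by rw [← pow_three']; exact K.v_cube hp)

include hp in
theorem vQ {q : G} (hq : q ∈ K.Q) : v * q * v⁻¹ ∈ K.Q := K.conj_mem hp.v_mem hq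

include hp in
theorem vQ' {q : G} (hq : q ∈ K.Q) : v⁻¹ * q * v ∈ K.Q := by
  simpa using K.conj_mem (inv_mem hp.v_mem) hq

include hyp hp in
/-- A two-element outside the two-core cannot centralise much of it. -/
theorem no_fix {s : G} (hs : s ∈ Subgroup.centralizer ({z} : Set G)) (hsQ : s ∉ K.Q) (hs2 : s ^ 64 = 1)
    {A : Subgroup G} (hA : A ≤ K.Q) (hA2 : 2 < Nat.card A)
    (h1 : ∀ a ∈ A, s * a = a * s) (h2 : ∀ a ∈ A, s * (v⁻¹ * a * v) = v⁻¹ * a * v * s) : False := by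
  set y := s * v * s⁻¹ * v⁻¹ with hy
  have hyL : y ∈ Subgroup.centralizer ({z} : Set G) :=
    mul_mem (mul_mem (mul_mem hs hp.v_mem) (inv_mem hs)) (inv_mem hp.v_mem)
  set a0 := K.π ⟨s, hs⟩ with ha0
  set b0 := K.π ⟨v, hp.v_mem⟩ with hb0
  have hπy : K.π ⟨y, hyL⟩ = a0 * b0 * a0⁻¹ * b0⁻¹ := by
    rw [ha0, hb0, ← map_inv, ← map_inv, ← map_mul, ← map_mul, ← map_mul]
    exact congrArg _ (Subtype.ext rfl)
  have hne : K.π ⟨y, hyL⟩ ≠ 1 := by
    rw [hπy]
    refine perm_three_comm a0 b0 (perm_three_sq _ ?_) (fun h => hsQ (K.mem_Q.2 ⟨hs, h⟩)) ?_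
      (fun h => K.v_not_mem hyp hp.order (K.mem_Q.2 ⟨hp.v_mem, h⟩))
    · rw [ha0, ← map_pow, ← map_one K.π]
      exact congrArg _ (Subtype.ext (by simpa using hs2))
    · rw [hb0, ← map_mul, ← map_mul, ← map_one K.π]
      exact congrArg _ (Subtype.ext (by
        show v * v * v = 1
        rw [← pow_three']; exact K.v_cube hp))
  have h3 : 3 ∣ orderOf y := by
    have hsgn : ∀ a b : Equiv.Perm (Fin 3), (a * b * a⁻¹ * b⁻¹) * (a * b * a⁻¹ * b⁻¹) * (a * b * a⁻¹ * b⁻¹) = 1 := by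
      decide +kernel
    haveI : Fact (Nat.Prime 3) := ⟨Nat.prime_three⟩
    have h : orderOf (K.π ⟨y, hyL⟩) = 3 := orderOf_eq_prime (by rw [hπy, pow_three']; exact hsgn a0 b0) hne
    rw [← h, ← Subgroup.orderOf_mk y hyL]
    exact orderOf_map_dvd K.π _
  obtain ⟨x, hx⟩ : ∃ x : G, x = y ^ (orderOf y / 3) := ⟨_, rfl⟩
  have hxo : orderOf x = 3 := by rw [hx, orderOf_pow_orderOf_div (orderOf_pos y).ne' h3]
  have hxz : x * z = z * x :=
    Subgroup.mem_centralizer_singleton_iff.1 (hx ▸ pow_mem hyL _)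
  have hall : ∀ a ∈ A, a = 1 ∨ a = z := by
    intro a ha
    refine K.fix hyp hxo hxz (hA ha) ?_
    rw [hx]
    refine (Commute.pow_right ?_ _).eq
    have e2 : Commute a (v * s⁻¹ * v⁻¹) := by
      have h : Commute (v⁻¹ * a * v) s⁻¹ := (show Commute s (v⁻¹ * a * v) from h2 a ha).symm.inv_right
      show a * (v * s⁻¹ * v⁻¹) = v * s⁻¹ * v⁻¹ * a
      calc a * (v * s⁻¹ * v⁻¹) = v * (v⁻¹ * a * v * s⁻¹) * v⁻¹ := by group
        _ = v * (s⁻¹ * (v⁻¹ * a * v)) * v⁻¹ := by rw [h.eq]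
        _ = v * s⁻¹ * v⁻¹ * a := by group
    rw [hy, show s * v * s⁻¹ * v⁻¹ = s * (v * s⁻¹ * v⁻¹) by group]
    exact Commute.mul_right (h1 a ha).symm e2
  have : Nat.card A ≤ 2 := by
    refine le_trans (Subgroup.card_le_of_le (show A ≤ Subgroup.zpowers z from fun a ha => ?_))
      (by rw [Nat.card_zpowers, K.order])
    rcases hall a ha with rfl | rfl
    exacts [one_mem _, Subgroup.mem_zpowers _]
  omega

include hyp hp in
/-- The two-core modulo the involution: elements fixed, products of orbits, commutators. -/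
theorem mod_z :
    (∀ q ∈ K.Q, q⁻¹ * (v * q * v⁻¹) ∈ Subgroup.zpowers z → q = 1 ∨ q = z) ∧
    (∀ q ∈ K.Q, q * (v * q * v⁻¹) * (v⁻¹ * q * v) ∈ Subgroup.zpowers z) ∧
    (∀ a ∈ K.Q, ∀ b ∈ K.Q, a * b * a⁻¹ * b⁻¹ ∈ Subgroup.zpowers z) := by
  have hfix : ∀ q ∈ K.Q, q⁻¹ * (v * q * v⁻¹) ∈ Subgroup.zpowers z → q = 1 ∨ q = z := by
    intro q hq h
    rcases zpowers_two K.order h with h | h
    · refine K.fix hyp hp.order (K.v_comm hp) hq ?_
      have := inv_mul_eq_one.1 h
      calc q * v = v * q * v⁻¹ * v := by rw [← this]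
        _ = v * q := by group
    · exfalso
      refine K.z_ne ?_
      have hc : ∀ x, v * (x * z) * v⁻¹ = v * x * v⁻¹ * z := fun x => by
        calc v * (x * z) * v⁻¹ = v * x * (z * v⁻¹) := by group
          _ = v * x * (v⁻¹ * z) := by
            rw [((show Commute v z from K.v_comm hp).inv_left).eq]
          _ = v * x * v⁻¹ * z := by group
      have e1 : v * q * v⁻¹ = q * z := inv_mul_eq_iff_eq_mul.1 h
      have e2 : v * (v * q * v⁻¹) * v⁻¹ = q := by
        rw [e1, hc, e1, mul_assoc, K.zz, mul_one]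
      have e3 : v * (v * (v * q * v⁻¹) * v⁻¹) * v⁻¹ = q := by
        calc v * (v * (v * q * v⁻¹) * v⁻¹) * v⁻¹ = v ^ 3 * q * (v ^ 3)⁻¹ := by rw [pow_three']; group
          _ = q := by rw [K.v_cube hp]; group
      rw [e2, e1] at e3
      exact mul_eq_left.1 e3
  have hzQ : (⟨z, K.z_mem⟩ : K.Q) ∈ Subgroup.center K.Q :=
    Subgroup.mem_center_iff.2 fun a => Subtype.ext (K.comm_z a.2)
  set N : Subgroup K.Q := Subgroup.zpowers ⟨z, K.z_mem⟩
  haveI : N.Normal := ⟨fun n hn g => by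
    rw [Subgroup.mem_center_iff.1 (Subgroup.zpowers_le.2 hzQ hn) g, mul_inv_cancel_right]
    exact hn⟩
  have hmem : ∀ x : K.Q, x ∈ N ↔ (x : G) ∈ Subgroup.zpowers z := by
    intro x
    simp only [N, Subgroup.mem_zpowers_iff]
    exact ⟨fun ⟨k, hk⟩ => ⟨k, by rw [← hk]; simp⟩, fun ⟨k, hk⟩ => ⟨k, Subtype.ext (by simpa using hk)⟩⟩
  let c : K.Q →* K.Q :=
    { toFun := fun q => ⟨v * q * v⁻¹, K.vQ hp q.2⟩
      map_one' := Subtype.ext (by simp)
      map_mul' := fun a b => Subtype.ext (by simp [mul_assoc]) }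
  have hcN : N ≤ N.comap c := Subgroup.zpowers_le.2 (Subgroup.mem_comap.2 ((hmem _).2 (by
    show v * z * v⁻¹ ∈ _
    rw [K.v_comm hp, mul_inv_cancel_right]
    exact Subgroup.mem_zpowers z)))
  let σ : K.Q ⧸ N →* K.Q ⧸ N := QuotientGroup.map N N c hcN
  have hσ : ∀ q : K.Q, σ (QuotientGroup.mk q) = QuotientGroup.mk (c q) := fun q => rfl
  have hc3 : ∀ q : K.Q, c (c (c q)) = q := fun q => Subtype.ext (by
    show v * (v * (v * q * v⁻¹) * v⁻¹) * v⁻¹ = q
    calc v * (v * (v * q * v⁻¹) * v⁻¹) * v⁻¹ = v ^ 3 * q * (v ^ 3)⁻¹ := by rw [pow_three']; group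
      _ = q := by rw [K.v_cube hp]; group)
  have h3 : ∀ x, σ (σ (σ x)) = x := fun x => by
    induction x using QuotientGroup.induction_on with
    | _ q => rw [hσ, hσ, hσ, hc3]
  have hf : ∀ x, σ x = x → x = 1 := fun x => by
    induction x using QuotientGroup.induction_on with
    | _ q =>
      intro hx
      rw [hσ, eq_comm, QuotientGroup.eq] at hx
      rw [QuotientGroup.eq_one_iff, hmem]
      rcases hfix q q.2 ((hmem _).1 hx) with h | h <;> rw [h]
      exacts [one_mem _, Subgroup.mem_zpowers z]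
  have h16 : Nat.card (K.Q ⧸ N) = 16 := by
    have h := Subgroup.card_mul_index N
    rw [Nat.card_zpowers, Subgroup.orderOf_mk, K.order, K.card_Q, Subgroup.index_eq_card] at h
    omega
  refine ⟨hfix, fun q hq => ?_, fun a ha b hb => ?_⟩
  · have h := fpf_prod σ h3 hf (QuotientGroup.mk ⟨q, hq⟩)
    rw [hσ, hσ, ← QuotientGroup.mk_mul, ← QuotientGroup.mk_mul, QuotientGroup.eq_one_iff, hmem] at h
    have e : v⁻¹ * q * v = v * (v * q * v⁻¹) * v⁻¹ := by
     calc v⁻¹ * q * v = v⁻¹ * q * (v⁻¹)⁻¹ := by rw [inv_inv]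
      _ = v * v * q * (v * v)⁻¹ := by rw [K.v_sq hp]
      _ = v * (v * q * v⁻¹) * v⁻¹ := by group
    rw [e]
    exact h
  · have h := fpf_comm σ h3 hf h16 (QuotientGroup.mk ⟨a, ha⟩) (QuotientGroup.mk ⟨b, hb⟩)
    rw [← QuotientGroup.mk_mul, ← QuotientGroup.mk_mul, QuotientGroup.eq, hmem] at h
    simp only [Subgroup.coe_mul, InvMemClass.coe_inv] at h
    rcases zpowers_two K.order h with e | e
    · rw [inv_mul_eq_one.1 e, mul_inv_cancel_right, mul_inv_cancel]
      exact one_mem _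
    · rw [inv_mul_eq_iff_eq_mul] at e
      have : a * b * a⁻¹ * b⁻¹ = z := by
        have e' : b * a * z⁻¹ = a * b := by rw [e, mul_inv_cancel_right]
        calc a * b * a⁻¹ * b⁻¹ = b * a * z⁻¹ * a⁻¹ * b⁻¹ := by rw [e']
          _ = b * a * (z * a⁻¹) * b⁻¹ := by rw [K.z_inv]; group
          _ = b * a * (a⁻¹ * z) * b⁻¹ := by rw [K.comm_z (inv_mem ha)]
          _ = b * z * b⁻¹ := by group
          _ = z := by rw [K.comm_z hb, mul_inv_cancel_right]
      rw [this]
      exact Subgroup.mem_zpowers z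

include hyp hp in
theorem comm_cases {a b : G} (ha : a ∈ K.Q) (hb : b ∈ K.Q) : a * b = b * a ∨ a * b = b * a * z := by
  rcases zpowers_two K.order ((K.mod_z hyp hp).2.2 a ha b hb) with h | h
  · left
    calc a * b = a * b * a⁻¹ * b⁻¹ * (b * a) := by group
      _ = b * a := by rw [h, one_mul]
  · right
    calc a * b = a * b * a⁻¹ * b⁻¹ * (b * a) := by group
      _ = z * (b * a) := by rw [h]
      _ = b * a * z := (K.comm_z (mul_mem hb ha)).symm

/-- the centre of the two-core -/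
def E : Subgroup G := K.Q ⊓ Subgroup.centralizer (K.Q : Set G)

omit [Finite G] in
theorem mem_E {x : G} : x ∈ K.E ↔ x ∈ K.Q ∧ ∀ q ∈ K.Q, q * x = x * q :=
  ⟨fun h => ⟨h.1, fun q hq => Subgroup.mem_centralizer_iff.1 h.2 q hq⟩,
    fun h => ⟨h.1, Subgroup.mem_centralizer_iff.2 h.2⟩⟩

omit [Finite G] in
theorem z_mem_E : z ∈ K.E := K.mem_E.2 ⟨K.z_mem, fun _ hq => K.comm_z hq⟩

include hyp hp in
theorem sq_mem_E {a : G} (ha : a ∈ K.Q) : a * a ∈ K.E := by
  refine K.mem_E.2 ⟨mul_mem ha ha, fun b hb => ?_⟩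
  rcases K.comm_cases hyp hp hb ha with h | h
  · rw [← mul_assoc, h, mul_assoc, h, ← mul_assoc]
  · calc b * (a * a) = b * a * a := by group
      _ = a * b * z * a := by rw [h]
      _ = a * b * (z * a) := by group
      _ = a * b * (a * z) := by rw [K.comm_z ha]
      _ = a * (b * a) * z := by group
      _ = a * (a * b * z) * z := by rw [h]
      _ = a * a * b * (z * z) := by group
      _ = a * a * b := by rw [K.zz, mul_one]

end Core

end Cfsg.Agent.MTwelve.OrderFront
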