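import Cfsg.Agent.Lib.Spor.MTwelve.OrderFront.Extra

/-!
The central involution is not weakly closed in the two-core of its centraliser.
-/

set_option autoImplicit false

namespace Cfsg.Agent.MTwelve.OrderFront

open scoped commutatorElement

universe u

variable {G : Type u} [Group G] [Finite G]

/-- the commutator used below -/
def kf (a b : G) : G := a * b * a⁻¹ * b⁻¹

namespace Core

variable {z : G} (K : Core z) (hyp : LocalHyp G) {v t : G} (hp : K.Pair v t)

include hyp hp in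
theorem kf_cases {a b : G} (ha : a ∈ K.Q) (hb : b ∈ K.Q) : kf a b = 1 ∨ kf a b = z :=
  zpowers_two K.order ((K.mod_z (K.six_of_local hyp) hp).2.2 a ha b hb)

include hyp hp in
theorem kf_central {a b : G} (ha : a ∈ K.Q) (hb : b ∈ K.Q) {q : G} (hq : q ∈ K.Q) : q * kf a b = kf a b * q := by
  rcases K.kf_cases hyp hp ha hb with h | h <;> rw [h]
  · simp
  · exact K.comm_z hq

include hyp hp in
theorem kf_sq {a b : G} (ha : a ∈ K.Q) (hb : b ∈ K.Q) : kf a b * kf a b = 1 := by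
  rcases K.kf_cases hyp hp ha hb with h | h <;> rw [h]
  · simp
  · exact K.zz

include hyp hp in
theorem kf_symm {a b : G} (ha : a ∈ K.Q) (hb : b ∈ K.Q) : kf b a = kf a b := by
  rw [show kf b a = (kf a b)⁻¹ by simp [kf, mul_assoc],
    inv_eq_of_mul_eq_one_right (K.kf_sq hyp hp ha hb)]

include hyp hp in
theorem kf_mul_left {a b c : G} (ha : a ∈ K.Q) (hb : b ∈ K.Q) (hc : c ∈ K.Q) : kf (a * b) c = kf a c * kf b c := by
  calc kf (a * b) c = a * kf b c * a⁻¹ * kf a c := by simp [kf, mul_assoc]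
    _ = kf b c * kf a c := by rw [K.kf_central hyp hp hb hc ha, mul_inv_cancel_right]
    _ = kf a c * kf b c := (K.kf_central hyp hp ha hc (by
      rcases K.kf_cases hyp hp hb hc with h | h <;> rw [h]
      exacts [one_mem _, K.z_mem]))

include hyp hp in
theorem kf_mul_right {a b c : G} (ha : a ∈ K.Q) (hb : b ∈ K.Q) (hc : c ∈ K.Q) : kf a (b * c) = kf a b * kf a c := by
  rw [K.kf_symm hyp hp (mul_mem hb hc) ha, K.kf_mul_left hyp hp hb hc ha, K.kf_symm hyp hp ha hb,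
    K.kf_symm hyp hp ha hc]

include hyp hp in
theorem kf_inv_left {a c : G} (ha : a ∈ K.Q) (hc : c ∈ K.Q) : kf a⁻¹ c = kf a c := by
  have h := K.kf_mul_left hyp hp (inv_mem ha) ha hc
  rw [inv_mul_cancel, show kf 1 c = (1 : G) by simp [kf]] at h
  rw [eq_inv_of_mul_eq_one_left h.symm, inv_eq_of_mul_eq_one_right (K.kf_sq hyp hp ha hc)]

include hyp hp in
theorem sq_z {a : G} (ha : a ∈ K.Q) : a * a = 1 ∨ a * a = z := K.center_two hyp hp (K.sq_mem_E (K.six_of_local hyp) hp ha)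

include hp in
theorem tQ {q : G} (hq : q ∈ K.Q) : t * q * t⁻¹ ∈ K.Q := K.conj_mem hp.t_mem hq

include hyp hp in
/-- The two-element squares into the two-core. -/
theorem t_sq_mem : t * t ∈ K.Q := by
  refine K.mem_Q.2 ⟨mul_mem hp.t_mem hp.t_mem, ?_⟩
  have h := perm_three_sq (K.π ⟨t, hp.t_mem⟩) (by
    rw [← map_pow, ← map_one K.π]
    exact congrArg _ (Subtype.ext (by simpa using hp.pow)))
  rw [← h, ← map_mul]
  rfl

include hyp hp in
theorem exists_conj : ∃ g : G, g * z * g⁻¹ ∈ K.Q ∧ g * z * g⁻¹ ≠ z := by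
  classical
  haveI : Fact (Nat.Prime 2) := ⟨Nat.prime_two⟩
  obtain ⟨hfix, hprod, hcom⟩ := K.mod_z (K.six_of_local hyp) hp
  set Z := Subgroup.zpowers z with hZ
  have hzQ : ∀ {c : G}, c ∈ Z → c ∈ K.Q := fun hc => Subgroup.zpowers_le.2 K.z_mem hc
  have hzc : ∀ {c : G}, c ∈ Z → ∀ q ∈ K.Q, q * c = c * q := by
    intro c hc q hq
    rcases zpowers_two K.order hc with rfl | rfl
    · simp
    · exact K.comm_z hq
  have htz : t * z = z * t := Subgroup.mem_centralizer_singleton_iff.1 hp.t_mem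
  have htZ : ∀ {c : G}, c ∈ Z → t * c * t⁻¹ = c := by
    intro c hc
    rcases zpowers_two K.order hc with rfl | rfl
    · simp
    · rw [htz, mul_inv_cancel_right]
  -- the quotient
  set N : Subgroup K.Q := Z.subgroupOf K.Q with hN
  haveI : N.Normal := ⟨fun n hn g => by
    show (g : G) * n * (g : G)⁻¹ ∈ Z
    rw [hzc (c := (n : G)) hn g g.2, mul_inv_cancel_right]
    exact hn⟩
  have hmk : ∀ a b : K.Q, (QuotientGroup.mk a : K.Q ⧸ N) * QuotientGroup.mk b = QuotientGroup.mk b * QuotientGroup.mk a := by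
    intro a b
    rw [← QuotientGroup.mk_mul, ← QuotientGroup.mk_mul, QuotientGroup.eq]
    show (((a : G) * b)⁻¹ * ((b : G) * a)) ∈ Z
    rw [show ((a : G) * b)⁻¹ * ((b : G) * a) = kf (b : G)⁻¹ (a : G)⁻¹ by simp [kf, mul_assoc]]
    exact hcom _ (inv_mem b.2) _ (inv_mem a.2)
  let τ : K.Q → K.Q := fun q => ⟨t * q * t⁻¹, K.tQ hp q.2⟩
  let f : K.Q →* K.Q ⧸ N := MonoidHom.mk' (fun y => (QuotientGroup.mk y)⁻¹ * QuotientGroup.mk (τ y)) fun a b => by
    have e : τ (a * b) = τ a * τ b := Subtype.ext (by simp [τ, mul_assoc])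
    rw [e, QuotientGroup.mk_mul, QuotientGroup.mk_mul, mul_inv_rev]
    calc (QuotientGroup.mk b : K.Q ⧸ N)⁻¹ * (QuotientGroup.mk a)⁻¹ * (QuotientGroup.mk (τ a) * QuotientGroup.mk (τ b))
        = (QuotientGroup.mk b)⁻¹ * ((QuotientGroup.mk a)⁻¹ * QuotientGroup.mk (τ a)) * QuotientGroup.mk (τ b) := by
          simp [mul_assoc]
      _ = _ := by
          rw [show (QuotientGroup.mk b : K.Q ⧸ N)⁻¹ * ((QuotientGroup.mk a)⁻¹ * QuotientGroup.mk (τ a)) =
            (QuotientGroup.mk a)⁻¹ * QuotientGroup.mk (τ a) * (QuotientGroup.mk b)⁻¹ by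
              rw [← QuotientGroup.mk_inv, ← QuotientGroup.mk_inv, ← QuotientGroup.mk_mul]; exact hmk _ _]
          simp [mul_assoc]
  let D : Subgroup K.Q := f.ker
  have hD : ∀ x : K.Q, x ∈ D ↔ (x : G)⁻¹ * (t * x * t⁻¹) ∈ Z := by
    intro x
    show (QuotientGroup.mk x : K.Q ⧸ N)⁻¹ * QuotientGroup.mk (τ x) = 1 ↔ _
    rw [← QuotientGroup.mk_inv, ← QuotientGroup.mk_mul, QuotientGroup.eq_one_iff]
    exact Iff.rfl
  -- the image lies in the fixed points
  have hrange : ∀ y : K.Q, y⁻¹ * τ y ∈ D := by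
    intro y
    rw [hD]
    show ((y : G)⁻¹ * (t * y * t⁻¹))⁻¹ * (t * ((y : G)⁻¹ * (t * y * t⁻¹)) * t⁻¹) ∈ Z
    set q := t * t
    have hqQ : q ∈ K.Q := K.t_sq_mem hyp hp
    set a := t * (y : G) * t⁻¹ with ha
    have haQ : a ∈ K.Q := K.tQ hp y.2
    have e : t * ((y : G)⁻¹ * a) * t⁻¹ = a⁻¹ * (q * y * q⁻¹) := by simp [ha, q, mul_assoc]
    rw [e]
    rw [show q * (y : G) * q⁻¹ = kf q y * y by simp [kf, mul_assoc]]
    set k := kf q (y : G)
    have hk : k ∈ Z := hcom q hqQ y y.2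
    rw [show ((y : G)⁻¹ * a)⁻¹ * (a⁻¹ * (k * y)) = (a⁻¹ * (y : G)) * a⁻¹ * k * y by simp [mul_assoc],
      mul_assoc _ k (y : G), ← hzc hk y y.2]
    rw [show a⁻¹ * (y : G) * a⁻¹ * (y * k) = (a⁻¹ * y) * (a⁻¹ * y) * k by simp [mul_assoc]]
    refine mul_mem ?_ hk
    rcases K.sq_z hyp hp (mul_mem (inv_mem haQ) y.2) with h | h <;> rw [h]
    exacts [one_mem _, Subgroup.mem_zpowers z]
  have hcard : 8 ≤ Nat.card D := by
    have h := Subgroup.card_mul_index f.ker
    rw [Subgroup.index_ker, K.card_Q] at h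
    have hle : Nat.card f.range ≤ Nat.card D := by
      refine le_trans (Nat.card_le_card_of_injective
        (fun c : f.range => (⟨QuotientGroup.mk c.2.choose⁻¹ * QuotientGroup.mk (τ c.2.choose),
          ⟨⟨c.2.choose⁻¹ * τ c.2.choose, hrange _⟩, by simp⟩⟩ :
            ((fun d : D => (QuotientGroup.mk (d : K.Q) : K.Q ⧸ N)) '' Set.univ : Set _)))
        fun c d e => Subtype.ext ?_) ?_
      · have e' := congrArg Subtype.val e
        rw [← c.2.choose_spec, ← d.2.choose_spec]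
        simpa [f] using e'
      · rw [Nat.card_coe_set_eq]
        exact le_trans (Set.ncard_image_le (Set.toFinite _)) (by rw [Set.ncard_univ])
    have hd : Nat.card D ∣ 32 := K.card_Q ▸ Subgroup.card_subgroup_dvd_card D
    obtain ⟨i, hi, e⟩ := (Nat.dvd_prime_pow Nat.prime_two).1 (show Nat.card D ∣ 2 ^ 5 by simpa using hd)
    have hsq : 32 ≤ Nat.card D * Nat.card D := h ▸ Nat.mul_le_mul_left (Nat.card D) hle
    rw [e] at hsq ⊢
    interval_cases i <;> norm_num at hsq <;> norm_num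
  -- it is abelian
  have hform : ∀ x : K.Q, x ∈ D → ∃ y ∈ K.Q, ∃ c ∈ Z, (x : G) = y⁻¹ * (t * y * t⁻¹) * c := by
    intro x hx
    refine ⟨v * x * v⁻¹, K.vQ hp x.2, _, ?_, (mul_inv_cancel_left ((v * (x : G) * v⁻¹)⁻¹ * (t * (v * x * v⁻¹) * t⁻¹)) (x : G)).symm⟩
    set d := (x : G)⁻¹ * (t * x * t⁻¹) with hd
    have hdZ : d ∈ Z := (hD x).1 hx
    set a := v * (x : G) * v⁻¹ with ha
    have haQ : a ∈ K.Q := K.vQ hp x.2
    have e : t * a * t⁻¹ = v⁻¹ * x * v * d := by
      have hdv : d * v = v * d := by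
        rcases zpowers_two K.order hdZ with h | h <;> rw [h]
        · simp
        · exact (K.v_comm hp).symm
      have i2 : t⁻¹ * v⁻¹ = v * t⁻¹ := by
        calc t⁻¹ * v⁻¹ = t⁻¹ * (t * v * t⁻¹) := by rw [hp.inv]
          _ = v * t⁻¹ := by group
      have i1 : t * v = v⁻¹ * t := by rw [← hp.inv, inv_mul_cancel_right]
      calc t * a * t⁻¹ = t * v * x * (v⁻¹ * t⁻¹) := by simp [ha, mul_assoc]
        _ = v⁻¹ * (t * x * t⁻¹) * v := by
          rw [i1, show v⁻¹ * t⁻¹ = t⁻¹ * v by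
            calc v⁻¹ * t⁻¹ = v⁻¹ * t⁻¹ * v⁻¹ * v := by group
              _ = v⁻¹ * (t⁻¹ * v⁻¹) * v := by group
              _ = t⁻¹ * v := by rw [i2]; group]
          group
        _ = v⁻¹ * (x * d) * v := by rw [hd]; group
        _ = v⁻¹ * x * (d * v) := by group
        _ = v⁻¹ * x * v * d := by rw [hdv]; group
    rw [e]
    set b := v⁻¹ * (x : G) * v with hb
    have hbQ : b ∈ K.Q := K.vQ' hp x.2
    have hp3 : (x : G) * a * b ∈ Z := hprod x x.2
    rw [show (a⁻¹ * (b * d))⁻¹ * (x : G) = d⁻¹ * (b⁻¹ * a * x) by group]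
    refine mul_mem (inv_mem hdZ) ?_
    have e1 : b⁻¹ * a * (x : G) = (b * b)⁻¹ * (kf b a * kf (a * b) x) * (x * a * b) := by simp [kf, mul_assoc]
    rw [e1]
    refine mul_mem (mul_mem (inv_mem ?_) (mul_mem (hcom _ hbQ _ haQ) (hcom _ (mul_mem haQ hbQ) _ x.2))) hp3
    rcases K.sq_z hyp hp hbQ with h | h <;> rw [h]
    exacts [one_mem _, Subgroup.mem_zpowers z]
  have hDcomm : ∀ x x' : K.Q, x ∈ D → x' ∈ D → (x : G) * x' = x' * x := by
    intro x x' hx hx'
    obtain ⟨y, hy, c, hc, e⟩ := hform x hx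
    obtain ⟨y', hy', c', hc', e'⟩ := hform x' hx'
    set a := t * y * t⁻¹ with ha
    set a' := t * y' * t⁻¹ with ha'
    have haQ : a ∈ K.Q := K.tQ hp hy
    have haQ' : a' ∈ K.Q := K.tQ hp hy'
    suffices h : kf (x : G) x' = 1 by
      calc (x : G) * x' = kf (x : G) x' * (x' * x) := by simp [kf, mul_assoc]
        _ = x' * x := by rw [h, one_mul]
    have hk1 : ∀ {c q : G}, c ∈ Z → q ∈ K.Q → kf c q = 1 := fun {c q} hc hq => by
      rw [kf, ← hzc hc q hq]; simp [mul_assoc]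
    rw [e, e', K.kf_mul_left hyp hp (mul_mem (inv_mem hy) haQ) (hzQ hc)
        (mul_mem (mul_mem (inv_mem hy') haQ') (hzQ hc')),
      hk1 hc (mul_mem (mul_mem (inv_mem hy') haQ') (hzQ hc')), mul_one,
      K.kf_mul_right hyp hp (mul_mem (inv_mem hy) haQ) (mul_mem (inv_mem hy') haQ') (hzQ hc'),
      ← K.kf_symm hyp hp (mul_mem (inv_mem hy) haQ) (hzQ hc'), hk1 hc' (mul_mem (inv_mem hy) haQ), mul_one,
      K.kf_mul_left hyp hp (inv_mem hy) haQ (mul_mem (inv_mem hy') haQ'),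
      K.kf_inv_left hyp hp hy (mul_mem (inv_mem hy') haQ'),
      K.kf_mul_right hyp hp hy (inv_mem hy') haQ', K.kf_mul_right hyp hp haQ (inv_mem hy') haQ',
      ← K.kf_symm hyp hp hy (inv_mem hy'), K.kf_inv_left hyp hp hy' hy, K.kf_symm hyp hp hy hy',
      ← K.kf_symm hyp hp haQ (inv_mem hy'), K.kf_inv_left hyp hp hy' haQ, K.kf_symm hyp hp haQ hy']
    have htt : kf a a' = kf y y' := by
      rw [ha, ha', show kf (t * y * t⁻¹) (t * y' * t⁻¹) = t * kf y y' * t⁻¹ by simp [kf, mul_assoc]]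
      exact htZ (hcom y hy y' hy')
    have hty : kf y a' = kf a y' := by
      have hq : t * t ∈ K.Q := K.t_sq_mem hyp hp
      have e1 : t * a' * t⁻¹ = kf (t * t) y' * y' := by simp [ha', kf, mul_assoc]
      have hk : kf (t * t) y' ∈ Z := hcom _ hq y' hy'
      calc kf y a' = t * kf y a' * t⁻¹ := (htZ (hcom y hy a' haQ')).symm
        _ = kf a (t * a' * t⁻¹) := by simp [kf, ha, mul_assoc]
        _ = kf a y' := by
          rw [e1, K.kf_mul_right hyp hp haQ (hzQ hk) hy', ← K.kf_symm hyp hp haQ (hzQ hk), hk1 hk haQ, one_mul]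
    rw [htt, hty]
    have s1 := K.kf_sq hyp hp hy hy'
    have s2 := K.kf_sq hyp hp haQ hy'
    calc kf y y' * kf a y' * (kf a y' * kf y y') = kf y y' * (kf a y' * kf a y') * kf y y' := by group
      _ = 1 := by rw [s2, mul_one, s1]
  -- an involution
  obtain ⟨b, hbQ, hbD, hb1, hbz, hb2⟩ : ∃ (b : G) (hb : b ∈ K.Q), (⟨b, hb⟩ : K.Q) ∈ D ∧ b ≠ 1 ∧ b ≠ z ∧ b * b = 1 := by
    set zQ : K.Q := ⟨z, K.z_mem⟩
    have hbound : ∀ s : Finset K.Q, s.card ≤ 4 → ∃ x ∈ D, x ∉ s := by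
      intro s hs
      by_contra h
      push Not at h
      have : Nat.card D ≤ s.card := by
        rw [← Nat.card_eq_finsetCard s]
        exact Nat.card_le_card_of_injective (fun d : D => (⟨d, h d d.2⟩ : s))
          fun a b e => Subtype.ext (congrArg (fun q : (s : Finset K.Q) => (q : K.Q)) e)
      omega
    obtain ⟨x, hxD, hx⟩ := hbound {1, zQ} (le_trans Finset.card_le_two (by norm_num))
    obtain ⟨y, hyD, hy⟩ := hbound {1, zQ, x, x * zQ} (le_trans Finset.card_le_four le_rfl)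
    simp only [Finset.mem_insert, Finset.mem_singleton, not_or] at hx hy
    have hx' : (x : G) ≠ 1 ∧ (x : G) ≠ z := ⟨fun h => hx.1 (Subtype.ext h), fun h => hx.2 (Subtype.ext h)⟩
    rcases K.sq_z hyp hp x.2 with h2 | h2
    · exact ⟨x, x.2, hxD, hx'.1, hx'.2, h2⟩
    rcases K.sq_z hyp hp y.2 with h3 | h3
    · exact ⟨y, y.2, hyD, fun h => hy.1 (Subtype.ext h), fun h => hy.2.1 (Subtype.ext h), h3⟩
    have hxy := hDcomm x y hxD hyD
    have hxi : (x : G)⁻¹ = x * z := inv_eq_of_mul_eq_one_right (by rw [← mul_assoc, h2, K.zz])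
    refine ⟨(x : G) * y, mul_mem x.2 y.2, mul_mem hxD hyD, fun h => ?_, fun h => ?_, ?_⟩
    · exact hy.2.2.2 (Subtype.ext (by show (y : G) = x * z; rw [← hxi]; exact eq_inv_of_mul_eq_one_right h))
    · exact hy.2.2.1 (Subtype.ext (mul_left_cancel (h.trans h2.symm)))
    · rw [(show Commute (y : G) x from hxy.symm).mul_mul_mul_comm, h2, h3, K.zz]
  -- its centraliser
  obtain ⟨hSc, hSL, -, -, hScase⟩ := K.S_facts hp
  set T := K.S t hp.t_mem
  have hTcomm : ∀ s ∈ T, s * b * s⁻¹ * b⁻¹ ∈ Z := by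
    intro s hs
    have hq : ∀ q ∈ K.Q, q * b * q⁻¹ * b⁻¹ ∈ Z := fun q hq => hcom q hq b hbQ
    rcases hScase s hs with h | h
    · exact hq s h
    · have hd : b⁻¹ * (t * b * t⁻¹) ∈ Z := (hD _).1 hbD
      set d := b⁻¹ * (t * b * t⁻¹)
      have e : t * b * t⁻¹ = b * d := by simp [d]
      set q := s * t⁻¹ with hqdef
      have : s * b * s⁻¹ * b⁻¹ = kf q b * d := by
        calc s * b * s⁻¹ * b⁻¹ = q * (t * b * t⁻¹) * q⁻¹ * b⁻¹ := by simp [hqdef, mul_assoc]
          _ = q * (b * d) * q⁻¹ * b⁻¹ := by rw [e]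
          _ = q * b * (d * q⁻¹) * b⁻¹ := by group
          _ = q * b * (q⁻¹ * d) * b⁻¹ := by rw [hzc hd _ (inv_mem h)]
          _ = q * b * q⁻¹ * (d * b⁻¹) := by group
          _ = q * b * q⁻¹ * (b⁻¹ * d) := by rw [hzc hd _ (inv_mem hbQ)]
          _ = kf q b * d := by simp [kf, mul_assoc]
      rw [this]
      exact mul_mem (hq q h) hd
  have h32 : 32 ∣ Nat.card (Subgroup.centralizer ({b} : Set G)) := by
    set C := (Subgroup.centralizer ({b} : Set G)).subgroupOf T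
    have hidx : C.index ≤ 2 := by
      rw [Subgroup.index_eq_card, ← show Nat.card Z = 2 by rw [hZ, Nat.card_zpowers, K.order]]
      refine Nat.card_le_card_of_injective
        (fun c : T ⧸ C => (⟨(c.out : G) * b * (c.out : G)⁻¹ * b⁻¹, hTcomm _ c.out.2⟩ : Z)) fun c d h => ?_
      have h' : (c.out : G) * b * (c.out : G)⁻¹ = (d.out : G) * b * (d.out : G)⁻¹ :=
        mul_right_cancel (congrArg Subtype.val h)
      rw [← QuotientGroup.out_eq' c, ← QuotientGroup.out_eq' d, QuotientGroup.eq]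
      refine Subgroup.mem_subgroupOf.2 (Subgroup.mem_centralizer_singleton_iff.2 ?_)
      show (c.out : G)⁻¹ * d.out * b = b * ((c.out : G)⁻¹ * d.out)
      calc (c.out : G)⁻¹ * d.out * b = (c.out : G)⁻¹ * ((d.out : G) * b * (d.out : G)⁻¹) * d.out := by group
        _ = (c.out : G)⁻¹ * ((c.out : G) * b * (c.out : G)⁻¹) * d.out := by rw [h']
        _ = b * ((c.out : G)⁻¹ * d.out) := by group
    have hmul := Subgroup.card_mul_index C
    rw [hSc] at hmul
    have hne : C.index ≠ 0 := Subgroup.index_ne_zero_of_finite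
    have hCe : 32 ∣ Nat.card C := by
      interval_cases hi : C.index <;> omega
    refine hCe.trans ?_
    have e : Nat.card C = Nat.card (C.map T.subtype) := (Subgroup.card_map_of_injective T.subtype_injective).symm
    rw [e]
    refine Subgroup.card_dvd_of_le ?_
    rintro _ ⟨a, ha, rfl⟩
    exact ha
  have hbo : orderOf b = 2 := orderOf_eq_prime (by rw [sq]; exact hb2) hb1
  obtain ⟨g, hg⟩ := isConj_iff.1 (hyp.h2 z b K.order hbo K.card_cent (hyp.h1 b hbo h32))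
  exact ⟨g, hg ▸ hbQ, hg ▸ hbz⟩

end Core

end Cfsg.Agent.MTwelve.OrderFront
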