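import Cfsg.Agent.Lib.Spor.MTwelve.OrderFront.Centralisers
import Cfsg.Agent.Lib.Spor.MTwelve.OrderFront.NotWeak

/-!
A simple group of the order of the Mathieu group of degree twelve satisfies the hypotheses of the recognition
theorem by the centraliser of an involution.
-/

set_option autoImplicit false
set_option linter.style.haveILetI false

namespace Cfsg.Agent.MTwelve

open OrderFront

universe u

theorem OrderFront.local_hyp {G : Type u} [Group G] [Finite G] [IsSimpleGroup G] (hG : Nat.card G = 95040) :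
    OrderFront.LocalHyp G := by
  haveI := Fintype.ofFinite G
  obtain ⟨F⟩ := exists_front hG
  exact ⟨hG, fun t ht h32 => (F.invol_192 ht h32).1,
    fun s t hs ht h1 h2 => F.invol_conj hs ht (by rw [h1]; norm_num) (by rw [h2]; norm_num),
    fun z v hz hC hv hc => F.cent_six hz (by rw [hC]; norm_num) hv hc⟩

/-- The front end of the recognition by order. -/
theorem s3344_hyps_of_card {G : Type u} [Group G] [Finite G] (hS : IsSimpleGroup G) (hG : Nat.card G = 95040) :
    ∃ (s : G) (L Q : Subgroup G), orderOf s = 2 ∧ L = Subgroup.centralizer ({s} : Set G) ∧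
      Nat.card L = 192 ∧
      Q = (Cfsg.pCore 2 L).map L.subtype ∧ Cfsg.IsExtraspecial 2 Q ∧ Nat.card Q = 32 ∧
      Nonempty (L ⧸ Cfsg.pCore 2 L ≃* Equiv.Perm (Fin 3)) ∧
      (∀ X : Sylow 3 L, Q ⊓ Subgroup.centralizer (((X : Subgroup L).map L.subtype : Subgroup G) : Set G) =
        Subgroup.zpowers s) ∧
      ∃ g : G, g * s * g⁻¹ ∈ Q ∧ g * s * g⁻¹ ≠ s := by
  haveI := hS
  have hyp := OrderFront.local_hyp (G := G) hG
  haveI : Fact (Nat.Prime 2) := ⟨Nat.prime_two⟩
  haveI := Fintype.ofFinite G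
  obtain ⟨z, hz, h64⟩ := exists_central_elt (G := G) 2 (n := 4) (by rw [hG]; norm_num)
  obtain ⟨K⟩ := hyp.exists_core hz h64
  obtain ⟨v, t, hp⟩ := K.exists_pair (K.six_of_local hyp)
  set L := Subgroup.centralizer ({z} : Set G) with hL
  refine ⟨z, L, K.Q, hz, rfl, K.card_cent, by rw [Core.Q, K.pCore_eq], K.extraspecial hyp hp, K.card_Q,
    ⟨?_⟩, fun X => ?_, K.exists_conj hyp hp⟩
  · exact (QuotientGroup.quotientMulEquivOfEq K.pCore_eq).trans
      (QuotientGroup.quotientKerEquivOfSurjective K.π K.surj)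
  · haveI : Fact (Nat.Prime 3) := ⟨Nat.prime_three⟩
    have hXc : Nat.card X = 3 := by
      rw [X.card_eq_multiplicity, K.card_cent, show (192 : ℕ) = 64 * 3 from rfl,
        Nat.factorization_mul (by norm_num) (by norm_num), Finsupp.add_apply, Nat.prime_three.factorization_self,
        Nat.factorization_eq_zero_of_not_dvd (by norm_num : ¬ 3 ∣ 64)]
      norm_num
    obtain ⟨x, hx⟩ := exists_prime_orderOf_dvd_card' (G := X) 3 (dvd_of_eq hXc.symm)
    have hxo : orderOf ((x : L) : G) = 3 := by rw [Subgroup.orderOf_coe, Subgroup.orderOf_coe, hx]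
    refine le_antisymm (fun q hq => ?_) (Subgroup.zpowers_le.2 ⟨K.z_mem, Subgroup.mem_centralizer_iff.2 ?_⟩)
    · rcases K.fix (K.six_of_local hyp) hxo (Subgroup.mem_centralizer_singleton_iff.1 (x : L).2) hq.1
        (Subgroup.mem_centralizer_iff.1 hq.2 _ ⟨x, x.2, rfl⟩).symm with rfl | rfl
      exacts [one_mem _, Subgroup.mem_zpowers _]
    · rintro _ ⟨a, -, rfl⟩
      exact Subgroup.mem_centralizer_singleton_iff.1 a.2

end Cfsg.Agent.MTwelve
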