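import Mathlib

/-!
The numerical facts for the recognition of the Mathieu group of degree twelve by its order.
-/

set_option autoImplicit false
set_option maxRecDepth 100000

namespace Cfsg.Agent.MTwelve.OrderFront

/-- candidate degrees: divisors of `8640` between `2` and `308` -/
def degList : List ℕ := (List.range 309).filter fun d => decide (2 ≤ d) && decide (8640 % d = 0)

theorem mem_degList {d : ℕ} (h2 : 2 ≤ d) (hd : d ∣ 8640) (h : d < 309) : d ∈ degList :=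
  List.mem_filter.2 ⟨List.mem_range.2 h, by simp [h2, Nat.dvd_iff_mod_eq_zero.1 hd]⟩

theorem sylow_options : ∀ i < 786, ∀ e ∈ [2, 5, 10], (11 * i + 1) * e ∣ 8640 → i ≠ 0 → (i = 157 ∧ e = 5) ∨ i = 1 ∨ (e = 2 ∧ 2 ∣ 8640 / ((11 * i + 1) * e)) ∨ (i = 13 ∧ (e = 5 ∨ e = 10)) := by
  decide +kernel

theorem two_degree : ∀ d ∈ degList, ∀ g ∈ degList, ∀ a ∈ ([1, -1] : List ℤ), ∀ δ ∈ ([1, -1] : List ℤ),
    ((d : ℤ) - a) % 11 = 0 → ((g : ℤ) - δ * 2) % 11 = 0 → δ * g = 1 + a * d → d = 10 := by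
  decide +kernel

/-- integers strictly inside a symmetric interval -/
def intRange (d : ℕ) : List ℤ := (List.range (2 * d - 1)).map fun i : ℕ => (i : ℤ) - ((d : ℤ) - 1)

theorem mem_intRange {d : ℕ} {z : ℤ} (h : z.natAbs < d) : z ∈ intRange d :=
  List.mem_map.2 ⟨(z + (d - 1)).toNat, List.mem_range.2 (by omega), by omega⟩

/-- the possible orders of the centraliser -/
def cList : List ℕ := ((List.range 73).map fun j => 110 * j).filter fun C => decide (0 < C) && (95040 % C == 0)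

theorem mem_cList {C : ℕ} (hC : C ∣ 95040) (h110 : 110 ∣ C) (h : C ≤ 7920) : C ∈ cList := by
  obtain ⟨j, rfl⟩ := h110
  refine List.mem_filter.2 ⟨List.mem_map.2 ⟨j, List.mem_range.2 (by omega), rfl⟩, ?_⟩
  have : 0 < 110 * j := Nat.pos_of_dvd_of_pos hC (by norm_num)
  simp [this, Nat.dvd_iff_mod_eq_zero.1 hC]

/-- degree and value allowed at an involution commuting with elements of order five and eleven -/
def Adm (C d : ℕ) (z : ℤ) : Prop :=
  (4 : ℤ) ∣ d - z ∧ (22 : ℤ) ∣ d - z ∧ z * z < C ∧ (d : ℤ) ∣ ((95040 / C : ℕ) : ℤ) * z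

instance (C d : ℕ) (z : ℤ) : Decidable (Adm C d z) := by unfold Adm; infer_instance

theorem adm_X : ∀ C ∈ cList, ∀ d ∈ degList, d % 11 = 1 ∨ d % 11 = 10 →
    ∀ z ∈ intRange d, Adm C d z → 2 ∣ d := by
  decide +kernel

theorem adm_Y : ∀ C ∈ cList, ∀ d ∈ degList, d % 11 = 5 ∨ d % 11 = 6 →
    ∀ z ∈ intRange d, Adm C d z → 2 ∣ d ∨ (d = 27 ∧ z = -17) := by
  decide +kernel

/-- the signed pairs allowed in the rows of the block -/
def xRow (C : ℕ) : List (ℤ × ℤ) :=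
  degList.flatMap fun d => if d % 11 = 1 ∨ d % 11 = 10 then
    ((intRange d).filter fun z => decide (Adm C d z)).map fun z : ℤ =>
      if d % 11 = 1 then ((d : ℤ), z) else (-(d : ℤ), -z) else []

theorem mem_xRow {C d : ℕ} {z a : ℤ} (hd : d ∈ degList) (ha : (d % 11 = 1 ∧ a = 1) ∨ (d % 11 = 10 ∧ a = -1))
    (hz : z.natAbs < d) (h : Adm C d z) : (a * d, a * z) ∈ xRow C := by
  refine List.mem_flatMap.2 ⟨d, hd, ?_⟩
  rw [if_pos (ha.imp And.left And.left)]
  refine List.mem_map.2 ⟨z, List.mem_filter.2 ⟨mem_intRange hz, decide_eq_true h⟩, ?_⟩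
  rcases ha with ⟨h1, rfl⟩ | ⟨h1, rfl⟩ <;> simp [h1]

theorem no_quad : ∀ C ∈ cList, ∀ p ∈ xRow C, ∀ q ∈ xRow C, ∀ r ∈ xRow C,
    ∀ s ∈ xRow C, p.1 + q.1 + r.1 + s.1 = 26 → p.2 + q.2 + r.2 + s.2 ≠ -18 := by
  decide +kernel

end Cfsg.Agent.MTwelve.OrderFront
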