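import Cfsg.Agent.Lib.Spor.MTwelve.OrderFront.ArithDeg

/-!
The finite searches for the centralisers in a simple group of the order of the Mathieu group of degree twelve.
-/

set_option autoImplicit false
set_option maxRecDepth 100000

namespace Cfsg.Agent.MTwelve.OrderFront

/-- orders of centralisers of involutions, divisible by thirty-two -/
def cThirtyTwo : List ℕ :=
  [32, 64, 96, 160, 192, 288, 320, 480, 576, 864, 960, 1440, 1728, 2880, 4320, 8640]

/-- orders of centralisers of elements of order three commuting with an involution -/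
def cEighteen : List ℕ :=
  [18, 36, 54, 72, 90, 108, 144, 180, 216, 270, 288, 360, 432, 540, 576, 720, 864, 1080, 1440, 1728,
    2160, 2880, 4320, 8640]

/-- orders of centralisers of elements of order six, other than six -/
def cSix (C : ℕ) : List ℕ := [12, 24, 48, 96, 192].filter fun K => C % K == 0

/-- the values on the class of the central involution -/
def isInv (va vb vc ve w : ℤ) : Bool :=
  va == -3 && (vb == 6 && (vc == -8 && (ve == 0 && w == 0)))

/-- the values on an element with centraliser of order 1440 -/
def isBig (va vb vc ve w : ℤ) : Bool :=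
  va == -15 && (vb == 18 && (vc == 0 && (ve == 24 && w == -8)))

theorem invol_search : search5 cThirtyTwo 4 45 54 120 144 16 (fun C va vb vc ve w =>
    pairs5 45 54 120 144 16 va vb vc ve w va vb vc ve w == 0 &&
      !((C == 192 && isInv va vb vc ve w) || (C == 1440 && isBig va vb vc ve w))) = false := by
  decide +kernel

/-- the four multiplicity conditions at an element of order six -/
def six4 (d : ℕ) (a b c : ℤ) : Bool :=
  ((d : ℤ) + 2 * a + 2 * b + c) % 6 == 0 && (((d : ℤ) + a - b - c) % 6 == 0 &&
    (((d : ℤ) - 2 * a + 2 * b - c) % 6 == 0 && ((d : ℤ) - a - b + c) % 6 == 0))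

theorem three_search : search5 cEighteen 3 45 54 120 144 16 (fun C ub uc ud ue uw =>
    (decide (0 ≤ pairs5 45 54 120 144 16 ub uc ud ue uw ub uc ud ue uw) &&
      (pairs5 45 54 120 144 16 ub uc ud ue uw ub uc ud ue uw % ((C : ℤ) * C) == 0)) &&
    ((decide (0 ≤ pairs5 45 54 120 144 16 (-3) 6 (-8) 0 0 ub uc ud ue uw) &&
      (pairs5 45 54 120 144 16 (-3) 6 (-8) 0 0 ub uc ud ue uw % ((192 : ℤ) * C) == 0)) &&
    (!(C == 1440 && isBig ub uc ud ue uw) &&
    search5 (cSix C) 1 45 54 120 144 16 (fun _ va vb vc ve w =>
      six4 45 va ub (-3) && (six4 54 vb uc 6 && (six4 120 vc ud (-8) && (six4 144 ve ue 0 && six4 16 w uw 0))))))) =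
    false := by
  decide +kernel

end Cfsg.Agent.MTwelve.OrderFront
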