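import Cfsg.Agent.Lib.Spor.MTwelve.OrderFront.Front

/-!
The finite searches for the degrees of the principal block.
-/

set_option autoImplicit false
set_option maxRecDepth 100000

namespace Cfsg.Agent.MTwelve.OrderFront

/-- a value allowed on an element with centraliser of order `C`, congruent to the degree modulo `m` -/
def chk (d C m : ℕ) (z : ℤ) : Bool :=
  decide (z.natAbs < d) && (((d : ℤ) - z) % (m : ℤ) == 0) && decide (z * z < (C : ℤ)) &&
    ((((95040 / C : ℕ) : ℤ) * z) % (d : ℤ) == 0)

/-- the allowed values -/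
def rng (d C m : ℕ) : List ℤ := (intRange d).filter (chk d C m)

theorem mem_rng {d C m : ℕ} {z : ℤ} (h1 : z.natAbs < d) (h2 : (m : ℤ) ∣ (d : ℤ) - z) (h3 : z * z < (C : ℤ))
    (h4 : (d : ℤ) ∣ ((95040 / C : ℕ) : ℤ) * z) : z ∈ rng d C m :=
  List.mem_filter.2 ⟨mem_intRange h1, by
    simp only [chk, Bool.and_eq_true, decide_eq_true_eq, beq_iff_eq]
    exact ⟨⟨⟨h1, Int.emod_eq_zero_of_dvd h2⟩, h3⟩, Int.emod_eq_zero_of_dvd h4⟩⟩

/-- the pair number for explicit values -/
def pairs5 (a b c e g : ℕ) (va vb vc ve w va' vb' vc' ve' w' : ℤ) : ℤ :=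
  95040 + (sgn a * va * va' * ((95040 / a : ℕ) : ℤ) + sgn b * vb * vb' * ((95040 / b : ℕ) : ℤ) +
    sgn c * vc * vc' * ((95040 / c : ℕ) : ℤ) + sgn e * ve * ve' * ((95040 / e : ℕ) : ℤ)) -
    sgnY g * w * w' * ((95040 / g : ℕ) : ℤ)

/-- the square sum for explicit values -/
def sq5 (va vb vc ve w : ℤ) : ℤ := 1 + (va * va + vb * vb + vc * vc + ve * ve) + 2 * (w * w)

/-- the fourth value from the linear relation -/
def fourth (a b c e g : ℕ) (va vb vc w : ℤ) : ℤ :=
  sgn e * (sgnY g * w - 1 - sgn a * va - sgn b * vb - sgn c * vc)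

/-- search for the values at an element, tested by `leaf` -/
def search5 (Cs : List ℕ) (m : ℕ) (a b c e g : ℕ) (leaf : ℕ → ℤ → ℤ → ℤ → ℤ → ℤ → Bool) : Bool :=
  Cs.any fun C => (rng a C m).any fun va => (rng b C m).any fun vb => (rng c C m).any fun vc =>
    (rng g C m).any fun w => chk e C m (fourth a b c e g va vb vc w) &&
      decide (sq5 va vb vc (fourth a b c e g va vb vc w) w ≤ (C : ℤ)) &&
      leaf C va vb vc (fourth a b c e g va vb vc w) w

theorem search5_sound {Cs : List ℕ} {m a b c e g C : ℕ} {leaf : ℕ → ℤ → ℤ → ℤ → ℤ → ℤ → Bool}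
    {va vb vc ve w : ℤ} (hC : C ∈ Cs) (ha : va ∈ rng a C m) (hb : vb ∈ rng b C m) (hc : vc ∈ rng c C m)
    (he : ve ∈ rng e C m) (hw : w ∈ rng g C m)
    (hlin : sgnY g * w = 1 + (sgn a * va + sgn b * vb + sgn c * vc + sgn e * ve))
    (hsq : sq5 va vb vc ve w ≤ (C : ℤ)) (hleaf : leaf C va vb vc ve w = true) :
    search5 Cs m a b c e g leaf = true := by
  have h4 : fourth a b c e g va vb vc w = ve := by
    have : sgn e * sgn e = 1 := by unfold sgn; split <;> norm_num
    rw [fourth, hlin]
    linear_combination ve * this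
  simp only [search5, List.any_eq_true, Bool.and_eq_true, decide_eq_true_eq]
  exact ⟨C, hC, va, ha, vb, hb, vc, hc, w, hw, h4.symm ▸ ⟨⟨(List.mem_filter.1 he).2, hsq⟩, hleaf⟩⟩

/-- degrees of the non-exceptional characters -/
def dX : List ℕ := [10, 12, 32, 45, 54, 120, 144]

/-- degrees of the exceptional characters -/
def dY : List ℕ := [5, 6, 16, 27, 60, 72, 160, 192, 270]

theorem mem_dX : ∀ d ∈ degList, d % 11 = 1 ∨ d % 11 = 10 → d ∈ dX := by decide +kernel

theorem mem_dY : ∀ d ∈ degList, d % 11 = 5 ∨ d % 11 = 6 → d ∈ dY := by decide +kernel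

/-- orders of centralisers of central involutions -/
def cTwo : List ℕ := [64, 192, 320, 576, 960, 1728, 2880, 8640]

/-- a central involution can exist -/
def zExists (a b c e g : ℕ) : Bool :=
  search5 cTwo 4 a b c e g fun _ va vb vc ve w => pairs5 a b c e g va vb vc ve w va vb vc ve w == 0

/-- the surviving possibilities -/
def good (a b c e g : ℕ) : Bool :=
  g == 5 || (a == 10 && c != 10) || (a == 10 && b == 10 && c == 10 && e == 45 && g == 16) ||
    (a == 45 && b == 54 && c == 120 && e == 144 && g == 16) ||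
    (a == 32 && b == 45 && c == 54 && e == 120 && g == 160)

theorem classify : (dX.all fun a => dX.all fun b => dX.all fun c => dX.all fun e => dY.all fun g =>
    !(decide (a ≤ b) && decide (b ≤ c) && decide (c ≤ e) &&
      decide (sgnY g * (g : ℤ) = 1 + (sgn a * a + sgn b * b + sgn c * c + sgn e * e)) &&
      decide (sq5 a b c e g ≤ 95040)) || (!(zExists a b c e g) || good a b c e g)) = true := by
  decide +kernel

/-- orders of centralisers of elements centralised by a Sylow 3-subgroup -/
def cThree : List ℕ :=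
  [27, 54, 108, 135, 216, 270, 432, 540, 864, 1080, 1728, 2160, 4320, 8640]

theorem no_160 : search5 cThree 3 32 45 54 120 160 (fun C va vb vc ve w =>
    decide (0 ≤ pairs5 32 45 54 120 160 va vb vc ve w va vb vc ve w) &&
      (pairs5 32 45 54 120 160 va vb vc ve w va vb vc ve w % ((C : ℤ) * C) == 0)) = false := by
  decide +kernel

/-- orders of centralisers of elements commuting with groups of order forty-five -/
def cFortyFive : List ℕ :=
  [45, 90, 135, 180, 270, 360, 540, 720, 1080, 1440, 2160, 2880, 4320, 8640]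

theorem no_three_tens : (cFortyFive.all fun C => (rng 45 C 15).all fun v => (rng 16 C 1).all fun w =>
    !(chk 10 C 15 (-5) && decide (sgnY 16 * w = 1 + (sgn 10 * -5 + sgn 10 * -5 + sgn 10 * -5 + sgn 45 * v)) &&
      decide (sq5 (-5) (-5) (-5) v w ≤ (C : ℤ)) &&
      decide (0 ≤ pairs5 10 10 10 45 16 (-5) (-5) (-5) v w (-5) (-5) (-5) v w))) = true := by
  decide +kernel

end Cfsg.Agent.MTwelve.OrderFront
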