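import Cfsg.Agent.Lib.Char.SmallOrderGraph.Block
import Cfsg.Agent.Lib.Char.BSW.Eqs
import Cfsg.Agent.Lib.Char.BrauerTuan.Pairs

/-!
Values of characters on elements of small order, for the recognition of the Mathieu group of degree twelve by order.
-/

set_option autoImplicit false
set_option linter.unusedSectionVars false

namespace Cfsg.Agent.MTwelve.OrderFront

open Cfsg Cfsg.Agent.Char Cfsg.Agent.Small.Order459648
open scoped ComplexConjugate

universe u

variable {G : Type u} [Group G] [Fintype G]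

/-- The multiplicity of an eigenvalue. -/
theorem mult_nat {χ : G → ℂ} (h : IsCharacter G χ) {g : G} {n : ℕ} (hn : n ≠ 0) (hg : g ^ n = 1)
    {ζ : ℂ} (hζ : ζ ^ n = 1) :
    ∃ m : ℕ, ∑ i ∈ Finset.range n, ζ ^ i * χ (g ^ i) = (n : ℂ) * m := by
  classical
  obtain ⟨d, ρ, rfl⟩ := h
  obtain ⟨μ, hμ, htr, -⟩ := exists_eigenvalues ρ g
  refine ⟨(Finset.univ.filter fun j => ζ * μ j = 1).card, ?_⟩
  simp only [htr, Finset.mul_sum, ← mul_pow]
  rw [Finset.sum_comm]
  have key : ∀ j, ∑ i ∈ Finset.range n, (ζ * μ j) ^ i = if ζ * μ j = 1 then (n : ℂ) else 0 := by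
    intro j
    split
    · rename_i h1; simp [h1]
    · rename_i h1
      have hμn : μ j ^ n = 1 := by
        obtain ⟨k, hk⟩ := orderOf_dvd_of_pow_eq_one hg
        rw [hk, pow_mul, hμ j, one_pow]
      rw [geom_sum_eq h1, mul_pow, hζ, hμn, one_mul, sub_self, zero_div]
  rw [Finset.sum_congr rfl fun j _ => key j, ← Finset.sum_filter, Finset.sum_const, nsmul_eq_mul, mul_comm]

/-- An integral multiplicity statement. -/
theorem mult_int {χ : G → ℂ} (h : IsCharacter G χ) {g : G} {n : ℕ} (hn : n ≠ 0) (hg : g ^ n = 1)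
    {ζ : ℂ} (hζ : ζ ^ n = 1) {T : ℤ} (hT : ∑ i ∈ Finset.range n, ζ ^ i * χ (g ^ i) = (T : ℂ)) :
    (n : ℤ) ∣ T ∧ 0 ≤ T := by
  obtain ⟨m, hm⟩ := mult_nat h hn hg hζ
  rw [hT] at hm
  have : T = (n : ℤ) * m := by exact_mod_cast hm
  exact ⟨⟨m, this⟩, this ▸ by positivity⟩

theorem val_one (χ : IrrCharacter G) : (χ : G → ℂ) 1 = ((charDegree (χ : G → ℂ) : ℤ) : ℂ) := by
  rw [char_one_eq_deg (irr_isCharacter χ.2), charDegree_eq_deg]; push_cast; rfl

variable [IsSimpleGroup G]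

/-- A scalar element is trivial. -/
theorem eq_one_of_abs (hna : ¬ IsMulCommutative G) {χ : IrrCharacter G} (hne : χ ≠ oneChar) {g : G} {z : ℤ}
    (hz : (χ : G → ℂ) g = z) (h : z.natAbs = charDegree (χ : G → ℂ)) : g = 1 := by
  by_contra hg
  refine SmallOrderGraph.norm_ne_deg hna hne hg ?_
  rw [hz, Complex.norm_intCast, ← h, Nat.cast_natAbs, Int.cast_abs]

theorem natAbs_le {χ : IrrCharacter G} {g : G} {z : ℤ} (hz : (χ : G → ℂ) g = z) :
    z.natAbs ≤ charDegree (χ : G → ℂ) := by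
  have h := char_norm_le (irr_isCharacter χ.2) g
  rw [hz, char_one_eq_deg (irr_isCharacter χ.2), Complex.norm_intCast, Complex.natCast_re] at h
  rw [charDegree_eq_deg]
  have h2 : |z| ≤ (deg (χ : G → ℂ) : ℤ) := by exact_mod_cast h
  have := abs_le.1 h2
  omega

theorem natAbs_lt (hna : ¬ IsMulCommutative G) {χ : IrrCharacter G} (hne : χ ≠ oneChar) {g : G} (hg : g ≠ 1)
    {z : ℤ} (hz : (χ : G → ℂ) g = z) : z.natAbs < charDegree (χ : G → ℂ) :=
  lt_of_le_of_ne (natAbs_le hz) fun h => hg (eq_one_of_abs hna hne hz h)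

omit [IsSimpleGroup G] in
/-- The central character is an algebraic integer, on rational values. -/
theorem class_dvd (χ : IrrCharacter G) {g : G} {z : ℤ} (hz : (χ : G → ℂ) g = z) {C : ℕ}
    (hC : Nat.card (Subgroup.centralizer ({g} : Set G)) = C) {N : ℕ} (hN : Nat.card G = N) :
    (charDegree (χ : G → ℂ) : ℤ) ∣ ((N / C : ℕ) : ℤ) * z := by
  have h := omega_isIntegral χ.2 g
  rw [omega, hz, char_one_eq_deg (irr_isCharacter χ.2), ← charDegree_eq_deg] at h
  have hcls : Nat.card {x : G // IsConj g x} = N / C := by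
    have hC0 : 0 < C := hC ▸ Nat.card_pos
    have h1 := Subgroup.card_mul_index (Subgroup.centralizer ({g} : Set G))
    rw [hC, hN] at h1
    rw [card_conjClass_eq_index, ← h1, Nat.mul_div_cancel_left _ hC0]
  rw [hcls] at h
  obtain ⟨w, hw⟩ := isIntegral_rat_cast_imp
    (q := ((N / C : ℕ) : ℚ) * z / (charDegree (χ : G → ℂ) : ℚ)) (by push_cast; exact h)
  have hd0 : (charDegree (χ : G → ℂ) : ℚ) ≠ 0 := Nat.cast_ne_zero.2 (deg_pos χ.2).ne'
  rw [eq_div_iff hd0] at hw
  generalize N / C = q at hw ⊢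
  exact ⟨w, by rw [mul_comm _ w]; exact_mod_cast hw.symm⟩

omit [IsSimpleGroup G] in
/-- The value at an element fixed under powers. -/
theorem int_value (χ : IrrCharacter G) {g : G}
    (hfix : ∀ k : ℕ, k.Coprime (Nat.card G) → (χ : G → ℂ) (g ^ k) = (χ : G → ℂ) g) :
    ∃ z : ℤ, (χ : G → ℂ) g = z :=
  SmallOrderGraph.int_of_pow_fixed (irr_isCharacter χ.2) hfix

end Cfsg.Agent.MTwelve.OrderFront
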