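import Cfsg.Agent.Lib.Spor.MTwelve.OrderFront.Arith
import Cfsg.Agent.Lib.Spor.MTwelve.OrderFront.Values
import Cfsg.Agent.Lib.Char.PrimeSylowCount
import Cfsg.Agent.Lib.Solv.BrauerReynoldsBlock

/-!
The principal block of a group of the order of the Mathieu group of degree twelve for the prime eleven.
-/

set_option autoImplicit false
set_option linter.unusedSectionVars false

namespace Cfsg.Agent.MTwelve.OrderFront

open Cfsg Cfsg.Agent.Char Cfsg.Agent.Small.Order459648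
open scoped ComplexConjugate

universe u

variable {G : Type u} [Group G] [Fintype G] [IsSimpleGroup G]

theorem na (hG : Nat.card G = 95040) : ¬ IsMulCommutative G :=
  Lead.BlockDeg.not_comm (p := 11) (m := 8640) (by norm_num) (by rw [hG]) (by norm_num)

theorem column_eq (g : G) :
    ∑ χ : IrrCharacter G, ‖(χ : G → ℂ) g‖ ^ 2 = (Nat.card (Subgroup.centralizer ({g} : Set G)) : ℝ) := by
  have h := second_orth g g
  rw [if_pos (IsConj.refl g)] at h
  have hcls := Subgroup.card_mul_index (Subgroup.centralizer ({g} : Set G))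
  rw [← card_conjClass_eq_index] at hcls
  have e : ((∑ χ : IrrCharacter G, ‖(χ : G → ℂ) g‖ ^ 2 : ℝ) : ℂ) =
      (Nat.card (Subgroup.centralizer ({g} : Set G)) : ℂ) := by
    push_cast
    simp only [← Complex.mul_conj']
    rw [h, div_eq_iff (Nat.cast_ne_zero.2 (card_conjClass_ne_zero g)), ← hcls]
    push_cast
    ring
  exact_mod_cast e

theorem column_le (g : G) (s : Finset (IrrCharacter G)) :
    ∑ χ ∈ s, ‖(χ : G → ℂ) g‖ ^ 2 ≤ (Nat.card (Subgroup.centralizer ({g} : Set G)) : ℝ) := by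
  rw [← column_eq g]
  exact Finset.sum_le_sum_of_subset_of_nonneg (Finset.subset_univ s) fun χ _ _ => by positivity

theorem one_add_sq_le {g : G} {χ : IrrCharacter G} (hne : χ ≠ oneChar) {z : ℤ} (hz : (χ : G → ℂ) g = z) :
    1 + z * z ≤ (Nat.card (Subgroup.centralizer ({g} : Set G)) : ℤ) := by
  classical
  have h := column_le g {oneChar, χ}
  rw [Finset.sum_pair (Ne.symm hne), hz, Complex.norm_intCast, sq_abs] at h
  simp only [oneChar, norm_one, one_pow] at h
  have : ((1 + z * z : ℤ) : ℝ) ≤ ((Nat.card (Subgroup.centralizer ({g} : Set G)) : ℤ) : ℝ) := by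
    push_cast; linarith [sq (z : ℝ)]
  exact_mod_cast this

theorem deg_mem (hG : Nat.card G = 95040) {χ : IrrCharacter G} (hne : χ ≠ oneChar)
    (h11 : ¬ 11 ∣ charDegree (χ : G → ℂ)) : charDegree (χ : G → ℂ) ∈ degList := by
  have hd : charDegree (χ : G → ℂ) ∣ 11 * 8640 := by
    rw [show 11 * 8640 = Nat.card G from hG.symm]; exact deg_dvd_card χ.2
  refine mem_degList (one_lt_degree (na hG) hne)
    (((Nat.prime_iff.2 (Nat.prime_iff.1 (by norm_num : Nat.Prime 11))).coprime_iff_not_dvd.2 h11).symm.dvd_of_dvd_mul_left hd) ?_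
  have h := one_add_sq_le (g := (1 : G)) hne (val_one χ)
  have hC : Nat.card (Subgroup.centralizer ({1} : Set G)) ≤ Nat.card G := Subgroup.card_le_card_group _
  rw [hG] at hC
  nlinarith

theorem signed_deg {d : ℕ} {a : ℤ} (ha : a = 1 ∨ a = -1) (h : (d : ℤ) ≡ a [ZMOD 11]) :
    (d % 11 = 1 ∧ a = 1) ∨ (d % 11 = 10 ∧ a = -1) := by
  have := h.eq
  rcases ha with rfl | rfl <;> omega

/-- The data of the block. -/
structure Blk (P : Sylow 11 G) (e : ℕ) (M : Ideal AlgInt) (X Y : Finset (IrrCharacter G))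
    (a : IrrCharacter G → ℤ) (δ : ℤ) : Prop where
  modular : IsPModular 11 M
  frob : FrobSylow P e
  pp : PrimePrincipal M P e X Y a δ
  one_mem : (oneChar : IrrCharacter G) ∈ X
  one_sign : a oneChar = 1
  degX : ∀ χ ∈ X, χ ≠ oneChar → charDegree (χ : G → ℂ) ∈ degList
  degY : ∀ θ ∈ Y, charDegree (θ : G → ℂ) ∈ degList
  Yne : ∀ θ ∈ Y, θ ≠ oneChar
  Ynonempty : Y.Nonempty

theorem exists_blk (hG : Nat.card G = 95040) (P : Sylow 11 G) (hP : Nat.card P = 11) {e t : ℕ}
    (he : (Subgroup.centralizer ((P : Subgroup G) : Set G)).relIndex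
      (Subgroup.normalizer ((P : Subgroup G) : Set G)) = e) (he2 : 2 ≤ e) (ht : 0 < t) (het : e * t + 1 = 11) :
    ∃ (M : Ideal AlgInt) (X Y : Finset (IrrCharacter G)) (a : IrrCharacter G → ℤ) (δ : ℤ),
      Blk P e M X Y a δ ∧ X.card = e ∧ Y.card = t := by
  have : Fact (Nat.Prime 11) := ⟨by norm_num⟩
  obtain ⟨M, hM⟩ := exists_pModular (show Nat.Prime 11 by norm_num)
  obtain ⟨X, Y, a, δ, h, h1X, hone, hYc⟩ := Solv.BReyn.exists_principal_one_mem hM hP he he2 ht het
  have hYne : ∀ θ ∈ Y, θ ≠ oneChar := fun θ hθ e1 => Finset.disjoint_left.1 h.disj h1X (by subst e1; exact hθ)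
  have het' : e ≤ 10 := by
    have : e ≤ e * t := Nat.le_mul_of_pos_right e ht
    omega
  refine ⟨M, X, Y, a, δ, ⟨hM, he ▸ frobSylow_of_prime hP, h, h1X, hone,
    fun χ hχ hne => deg_mem hG hne fun hd => ?_, fun θ hθ => deg_mem hG (hYne θ hθ) fun hd => ?_, hYne,
    Finset.card_pos.1 (by omega)⟩, h.cardX, hYc⟩
  · have := signed_deg (h.a_sign χ hχ) (h.a_congr χ hχ)
    omega
  · have := (h.congrY θ hθ).eq
    rcases h.sign with rfl | rfl <;> omega

variable {P : Sylow 11 G} {e : ℕ} {M : Ideal AlgInt} {X Y : Finset (IrrCharacter G)}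
  {a : IrrCharacter G → ℤ} {δ : ℤ}

/-- The degree relation. -/
theorem Blk.deg_rel (B : Blk P e M X Y a δ) {θ : IrrCharacter G} (hθ : θ ∈ Y) :
    δ * (charDegree (θ : G → ℂ) : ℤ) = 1 + ∑ χ ∈ X.erase oneChar, a χ * (charDegree (χ : G → ℂ) : ℤ) := by
  classical
  have h2 := B.pp.rel θ hθ 1 (by simp)
  rw [← Finset.add_sum_erase X _ B.one_mem, B.one_sign] at h2
  simp only [val_one] at h2
  have h3 : ((δ * (charDegree (θ : G → ℂ) : ℤ) : ℤ) : ℂ) =
      ((1 + ∑ χ ∈ X.erase oneChar, a χ * (charDegree (χ : G → ℂ) : ℤ) : ℤ) : ℂ) := by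
    push_cast at h2 ⊢
    simp only [oneChar, charDegree] at h2 ⊢
    simpa using h2
  exact_mod_cast h3

/-- The split of a character of the block on an element of order twenty-two. -/
theorem Blk.split (B : Blk P e M X Y a δ) (hP : Nat.card P = 11) {χ : IrrCharacter G}
    (hχ : χ ∈ X ∨ χ ∈ Y) {y : G} (hy : y ∈ (P : Subgroup G)) (hy1 : y ≠ 1) {v : G} (hv : v ^ 2 = 1)
    (hc : v * y = y * v) {z : ℤ} (hz : (χ : G → ℂ) v = z) :
    (22 : ℤ) ∣ (charDegree (χ : G → ℂ) : ℤ) - z := by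
  have : Fact (Nat.Prime 11) := ⟨by norm_num⟩
  have hcy : Commute y v := hc.symm
  have hy11 : y ^ 11 = 1 := by
    rw [← hP]; exact congrArg Subtype.val (pow_card_eq_one' (x := (⟨y, hy⟩ : ↥(P : Subgroup G))))
  have hconst : ∀ i j : ℕ, ¬ 11 ∣ i → (χ : G → ℂ) (y ^ i * v ^ j) = (χ : G → ℂ) (y ^ i) := by
    intro i j hi
    have hyi : y ^ i ≠ 1 := fun h => by
      have ho : orderOf y = 11 := orderOf_eq_prime hy11 hy1
      exact hi (ho ▸ orderOf_dvd_of_pow_eq_one h)
    have hm : v ^ j ∈ Subgroup.centralizer ({y ^ i} : Set G) :=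
      Subgroup.mem_centralizer_singleton_iff.2 (hcy.symm.pow_pow j i).eq
    refine B.frob.principal_const B.modular ((B.pp.mem_iff χ).2 hχ) (y := ⟨y ^ i, pow_mem hy i⟩) hyi
      ⟨v ^ j, hm⟩ ?_
    rw [Subgroup.orderOf_mk]
    intro h11
    have h2 : orderOf (v ^ j) ∣ 2 := orderOf_dvd_of_pow_eq_one (by rw [← pow_mul, mul_comm, pow_mul, hv, one_pow])
    have := Nat.le_of_dvd (by norm_num) (h11.trans h2)
    omega
  have hg : (y * v) ^ 22 = 1 := by
    rw [hcy.mul_pow, show 22 = 11 * 2 from rfl, pow_mul, hy11, one_pow, one_mul, mul_comm 11, pow_mul, hv, one_pow]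
  refine (mult_int (irr_isCharacter χ.2) (n := 22) (by norm_num) hg (ζ := -1) (by norm_num) ?_).1
  rw [show 22 = 11 + 11 from rfl, Finset.sum_range_add, ← Finset.sum_add_distrib, Finset.sum_range_succ']
  have hzero : ∀ i ∈ Finset.range 10, (-1 : ℂ) ^ (i + 1) * (χ : G → ℂ) ((y * v) ^ (i + 1)) +
      (-1) ^ (11 + (i + 1)) * (χ : G → ℂ) ((y * v) ^ (11 + (i + 1))) = 0 := by
    intro i hi
    have hi' := Finset.mem_range.1 hi
    have h1 : ¬ 11 ∣ i + 1 := fun h => by have := Nat.le_of_dvd (by omega) h; omega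
    rw [hcy.mul_pow, hcy.mul_pow, pow_add y 11, hy11, one_mul, hconst _ _ h1, hconst _ _ h1, pow_add (-1 : ℂ) 11]
    norm_num
  rw [Finset.sum_eq_zero hzero]
  simp only [pow_zero, one_mul, zero_add, add_zero, hcy.mul_pow, hy11, val_one]
  rw [show v ^ 11 = v by rw [show 11 = 2 * 5 + 1 from rfl, pow_succ, pow_mul, hv, one_pow, one_mul], hz]
  push_cast
  norm_num
  ring

end Cfsg.Agent.MTwelve.OrderFront
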