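import Cfsg.Agent.Lib.Spor.MTwelve.OrderFront.Front

/-!
Irreducible characters of degree five or ten in a simple group of the order of the Mathieu group of degree twelve.
-/

set_option autoImplicit false
set_option linter.unusedSectionVars false

namespace Cfsg.Agent.MTwelve.OrderFront

open Cfsg Cfsg.Agent.Char Cfsg.Agent.Small.Order459648
open scoped ComplexConjugate

universe u

variable {G : Type u} [Group G] [Fintype G] [IsSimpleGroup G]

local instance fact_prime_five : Fact (Nat.Prime 5) := ⟨by norm_num⟩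

/-- a primitive cube root of unity -/
noncomputable def cw : ℂ := Complex.exp (2 * Real.pi * Complex.I / 3)

theorem cw_prim : IsPrimitiveRoot cw 3 := by
  simpa [cw] using Complex.isPrimitiveRoot_exp 3 (by norm_num)

theorem cw_cube : cw ^ 3 = 1 := cw_prim.pow_eq_one

theorem cw_sum : 1 + cw + cw ^ 2 = 0 := by
  have := cw_prim.geom_sum_eq_zero (by norm_num)
  simpa [Finset.sum_range_succ] using this

theorem vanish_five (hG : Nat.card G = 95040) {χ : IrrCharacter G}
    (hd : 5 ∣ charDegree (χ : G → ℂ)) {g : G} (hg : 5 ∣ orderOf g) : (χ : G → ℂ) g = 0 := by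
  refine BSW.defect_zero_vanish (p := 5) (by norm_num) ?_ hg
  rw [hG, show (95040 : ℕ) = 5 * 19008 from rfl, Nat.factorization_mul (by norm_num) (by norm_num),
    Finsupp.add_apply, (by norm_num : Nat.Prime 5).factorization_self,
    Nat.factorization_eq_zero_of_not_dvd (by norm_num : ¬ 5 ∣ 19008), pow_one, ← charDegree_eq_deg]
  exact hd

theorem ne_one_of_deg {χ : IrrCharacter G} (hd : charDegree (χ : G → ℂ) ≠ 1) : χ ≠ oneChar := by
  rintro rfl
  exact hd (by simp [charDegree, oneChar])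

/-- No involution commutes with an element of order five. -/
theorem small_no_invol (hG : Nat.card G = 95040) {χ : IrrCharacter G}
    (hd : charDegree (χ : G → ℂ) = 5 ∨ charDegree (χ : G → ℂ) = 10) {f t : G} (hf : orderOf f = 5)
    (ht : orderOf t = 2) : f * t ≠ t * f := by
  intro hc
  have hne : χ ≠ oneChar := ne_one_of_deg (by omega)
  obtain ⟨z, hz, h4, hlt⟩ := SmallOrderGraph.invol_value (na hG) hne ht
  have hcm : Commute f t := hc
  have hord : orderOf (f * t) = 10 := by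
    rw [hcm.orderOf_mul_eq_mul_orderOf_of_coprime (by rw [hf, ht]; norm_num), hf, ht]
  have hg : (f * t) ^ 10 = 1 := hord ▸ pow_orderOf_eq_one _
  have hv : ∀ i, ¬ 5 ∣ i → (χ : G → ℂ) ((f * t) ^ i) = 0 := by
    intro i hi
    refine vanish_five hG (by omega) ?_
    rw [orderOf_pow, hord]
    have h5 : Nat.gcd 10 i ∣ 2 := by
      refine (Nat.Coprime.dvd_of_dvd_mul_left ?_ (show Nat.gcd 10 i ∣ 5 * 2 from Nat.gcd_dvd_left 10 i))
      exact ((Nat.prime_five.coprime_iff_not_dvd).2 fun h => hi (h.trans (Nat.gcd_dvd_right _ _))).symm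
    rcases (Nat.dvd_prime Nat.prime_two).1 h5 with h | h <;> rw [h] <;> norm_num
  have h5 : (f * t) ^ 5 = t := by
    rw [hcm.mul_pow, ← hf, pow_orderOf_eq_one, one_mul, hf, show 5 = 2 * 2 + 1 from rfl, pow_succ, pow_mul,
      ← ht, pow_orderOf_eq_one, one_pow, one_mul]
  have hsum : ∑ i ∈ Finset.range 10, (-1 : ℂ) ^ i * (χ : G → ℂ) ((f * t) ^ i) =
      (((charDegree (χ : G → ℂ) : ℤ) - z : ℤ) : ℂ) := by
    simp only [Finset.sum_range_succ, Finset.sum_range_zero, pow_zero, one_mul, val_one, zero_add,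
      hv 1 (by norm_num), hv 2 (by norm_num), hv 3 (by norm_num), hv 4 (by norm_num), hv 6 (by norm_num),
      hv 7 (by norm_num), hv 8 (by norm_num), hv 9 (by norm_num), h5, hz, mul_zero, add_zero]
    push_cast
    ring
  have h10 := (mult_int (irr_isCharacter χ.2) (n := 10) (by norm_num) hg (ζ := -1) (by norm_num) hsum).1
  omega

/-- eigenvalue counts of an element of order three -/
theorem eig_three (hG : Nat.card G = 95040) (χ : IrrCharacter G) {w : G} (hw : w ^ 3 = 1) :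
    ∃ n0 n1 n2 : ℕ, n0 + n1 + n2 = charDegree (χ : G → ℂ) ∧ 3 ∣ n1 + 2 * n2 ∧
      (χ : G → ℂ) w = n0 + n1 * cw + n2 * cw ^ 2 ∧ (χ : G → ℂ) (w ^ 2) = n0 + n1 * cw ^ 2 + n2 * cw := by
  classical
  obtain ⟨n, ρ, hρ, he⟩ := χ.2
  obtain ⟨μ, hμ, htr, hdet⟩ := exists_eigenvalues ρ w
  have hμ3 : ∀ i, μ i ^ 3 = 1 := fun i => by
    obtain ⟨k, hk⟩ := orderOf_dvd_of_pow_eq_one hw
    rw [hk, pow_mul, hμ i, one_pow]
  choose b hb hb' using fun i => cw_prim.eq_pow_of_pow_eq_one (hμ3 i)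
  have hcnt : ∀ g : ℕ → ℂ, ∑ i, g (b i) = ((Finset.univ.filter fun i => b i = 0).card : ℂ) * g 0 +
      ((Finset.univ.filter fun i => b i = 1).card : ℂ) * g 1 +
      ((Finset.univ.filter fun i => b i = 2).card : ℂ) * g 2 := by
    intro g
    simp only [Finset.card_filter, Nat.cast_sum, Finset.sum_mul, ← Finset.sum_add_distrib]
    refine Finset.sum_congr rfl fun i _ => ?_
    have := hb i
    interval_cases b i <;> simp
  set m0 := (Finset.univ.filter fun i => b i = 0).card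
  set m1 := (Finset.univ.filter fun i => b i = 1).card
  set m2 := (Finset.univ.filter fun i => b i = 2).card
  refine ⟨m0, m1, m2, ?_, ?_, ?_, ?_⟩
  · have h := hcnt fun _ => 1
    have h1 := val_one χ
    rw [← he, Representation.char_one] at h1
    simp only [mul_one, Finset.sum_const, Finset.card_univ, Fintype.card_fin, nsmul_eq_mul] at h
    push_cast at h1
    rw [he] at h1
    have h2 : ((m0 + m1 + m2 : ℕ) : ℂ) = ((charDegree (χ : G → ℂ) : ℕ) : ℂ) := by
      push_cast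
      rw [← h, ← h1]
    exact_mod_cast h2
  · have h1 : LinearMap.det (ρ w) = 1 := by
      let f : G →* ℂ := LinearMap.det.comp ρ
      have h1 : commutator G ≤ f.toHomUnits.ker := Abelianization.commutator_subset_ker _
      rw [perfect (na hG)] at h1
      exact congrArg Units.val (MonoidHom.mem_ker.1 (h1 (Subgroup.mem_top w)))
    have h2 := hdet 1
    simp only [pow_one] at h2
    rw [h1, Finset.prod_congr rfl (g := fun i => cw ^ b i) fun i _ => (hb' i).symm,
      Finset.prod_pow_eq_pow_sum] at h2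
    have h3 := (cw_prim.pow_eq_one_iff_dvd _).1 h2.symm
    have e : ∑ i, b i = m1 + 2 * m2 := by
      have := hcnt fun j => (j : ℂ)
      have e' : ((∑ i, b i : ℕ) : ℂ) = ((m1 + 2 * m2 : ℕ) : ℂ) := by
        push_cast
        rw [this]
        push_cast
        ring
      exact_mod_cast e'
    rwa [e] at h3
  · rw [← he]
    have := htr 1
    rw [pow_one] at this
    rw [this]
    simp only [pow_one, ← hb']
    rw [hcnt fun j => cw ^ j]
    ring
  · rw [← he, htr 2]
    simp only [← hb', ← pow_mul]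
    rw [hcnt fun j => cw ^ (j * 2)]
    have h4 : cw ^ (2 * 2) = cw := by rw [show 2 * 2 = 3 + 1 from rfl, pow_succ, cw_cube, one_mul]
    rw [h4]
    ring

/-- The value at an element of order three commuting with one of order five. -/
theorem small_three (hG : Nat.card G = 95040) {χ : IrrCharacter G}
    (hd : charDegree (χ : G → ℂ) = 5 ∨ charDegree (χ : G → ℂ) = 10) {f w : G} (hf : orderOf f = 5)
    (hw : orderOf w = 3) (hc : f * w = w * f) :
    charDegree (χ : G → ℂ) = 10 ∧ (χ : G → ℂ) w = -5 := by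
  have hne : χ ≠ oneChar := ne_one_of_deg (by omega)
  have hw3 : w ^ 3 = 1 := hw ▸ pow_orderOf_eq_one w
  have hw1 : w ≠ 1 := fun e => by rw [e, orderOf_one] at hw; omega
  obtain ⟨n0, n1, n2, hn, hdet, hval, hval2⟩ := eig_three hG χ hw3
  have hcm : Commute f w := hc
  have hord : orderOf (f * w) = 15 := by
    rw [hcm.orderOf_mul_eq_mul_orderOf_of_coprime (by rw [hf, hw]; norm_num), hf, hw]
  have hv : ∀ i, ¬ 5 ∣ i → (χ : G → ℂ) ((f * w) ^ i) = 0 := by
    intro i hi
    refine vanish_five hG (by omega) ?_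
    rw [orderOf_pow, hord]
    have h3 : Nat.gcd 15 i ∣ 3 := by
      refine (Nat.Coprime.dvd_of_dvd_mul_left ?_ (show Nat.gcd 15 i ∣ 5 * 3 from Nat.gcd_dvd_left 15 i))
      exact ((Nat.prime_five.coprime_iff_not_dvd).2 fun h => hi (h.trans (Nat.gcd_dvd_right _ _))).symm
    rcases (Nat.dvd_prime Nat.prime_three).1 h3 with h | h <;> rw [h] <;> norm_num
  have hf5 : f ^ 5 = 1 := hf ▸ pow_orderOf_eq_one f
  have h5 : (f * w) ^ 5 = w ^ 2 := by
    rw [hcm.mul_pow, hf5, one_mul, show 5 = 3 + 2 from rfl, pow_add, hw3, one_mul]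
  have h10 : (f * w) ^ 10 = w := by
    rw [hcm.mul_pow, show 10 = 5 * 2 from rfl, pow_mul f, hf5, one_pow, one_mul, show 5 * 2 = 3 * 3 + 1 from rfl,
      pow_succ, pow_mul, hw3, one_pow, one_mul]
  have key : ∀ ζ : ℂ, ζ ^ 3 = 1 → ∑ i ∈ Finset.range 15, ζ ^ i * (χ : G → ℂ) ((f * w) ^ i) =
      (n0 : ℂ) * (1 + ζ + ζ ^ 2) + n1 * (1 + ζ ^ 2 * cw ^ 2 + ζ * cw) +
        n2 * (1 + ζ ^ 2 * cw + ζ * cw ^ 2) := by
    intro ζ hζ
    simp only [Finset.sum_range_succ, Finset.sum_range_zero, hv 1 (by norm_num), hv 2 (by norm_num),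
      hv 3 (by norm_num), hv 4 (by norm_num), hv 6 (by norm_num), hv 7 (by norm_num), hv 8 (by norm_num),
      hv 9 (by norm_num), hv 11 (by norm_num), hv 12 (by norm_num), hv 13 (by norm_num), hv 14 (by norm_num),
      h5, h10, hval, hval2, pow_zero, val_one, ← hn, mul_zero, add_zero, zero_add, one_mul]
    rw [show ζ ^ 5 = ζ ^ 2 by rw [show 5 = 3 + 2 from rfl, pow_add, hζ, one_mul],
      show ζ ^ 10 = ζ by rw [show 10 = 3 * 3 + 1 from rfl, pow_succ, pow_mul, hζ, one_pow, one_mul]]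
    push_cast
    ring
  have hg : (f * w) ^ 15 = 1 := hord ▸ pow_orderOf_eq_one _
  have h15 : ∀ ζ : ℂ, ζ ^ 3 = 1 → ∀ m : ℕ,
      (n0 : ℂ) * (1 + ζ + ζ ^ 2) + n1 * (1 + ζ ^ 2 * cw ^ 2 + ζ * cw) +
        n2 * (1 + ζ ^ 2 * cw + ζ * cw ^ 2) = ((3 * m : ℕ) : ℂ) → 5 ∣ m := by
    intro ζ hζ m hm
    obtain ⟨k, hk⟩ := mult_nat (irr_isCharacter χ.2) (n := 15) (by norm_num) hg (ζ := ζ)
      (by rw [show 15 = 3 * 5 from rfl, pow_mul, hζ, one_pow])
    rw [key ζ hζ, hm] at hk
    have : 3 * m = 15 * k := by exact_mod_cast hk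
    omega
  have e0 : 5 ∣ n0 := h15 1 (one_pow _) n0 (by
    push_cast
    linear_combination (n1 : ℂ) * cw_sum + (n2 : ℂ) * cw_sum)
  have e2 : 5 ∣ n2 := h15 cw cw_cube n2 (by
    push_cast
    linear_combination (n0 : ℂ) * cw_sum + (n1 : ℂ) * cw_sum + (2 * n2 + n1 * cw) * cw_cube)
  have hcase : (n0 = 0 ∧ n1 = 5 ∧ n2 = 5) ∨
      (n0 = charDegree (χ : G → ℂ) ∧ n1 = 0 ∧ n2 = 0) ∨ (n0 = 0 ∧ n1 = 0 ∧ n2 = charDegree (χ : G → ℂ)) ∨
      (n0 = 0 ∧ n2 = 0 ∧ n1 = charDegree (χ : G → ℂ)) := by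
    obtain ⟨a, rfl⟩ := e0
    obtain ⟨b, rfl⟩ := e2
    obtain ⟨q, hq⟩ := hdet
    clear hval hval2 key h15
    have ha : a ≤ 2 := by rcases hd with h | h <;> omega
    have hb : b ≤ 2 := by rcases hd with h | h <;> omega
    interval_cases a <;> interval_cases b <;> rcases hd with h | h <;> omega
  rcases hcase with ⟨rfl, rfl, rfl⟩ | ⟨h0, rfl, rfl⟩ | ⟨rfl, rfl, h2⟩ | ⟨rfl, rfl, h1⟩
  · refine ⟨by omega, ?_⟩
    rw [hval]
    push_cast
    linear_combination (5 : ℂ) * cw_sum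
  · exfalso
    refine hw1 (eq_one_of_abs (na hG) hne (z := (n0 : ℤ)) (by rw [hval]; simp) ?_)
    simpa using h0
  · exfalso
    refine SmallOrderGraph.norm_ne_deg (na hG) hne hw1 ?_
    rw [hval]
    simp [cw_prim.norm'_eq_one (by norm_num), ← h2]
  · exfalso
    refine SmallOrderGraph.norm_ne_deg (na hG) hne hw1 ?_
    rw [hval]
    simp [cw_prim.norm'_eq_one (by norm_num), ← h1]

/-- The local data at five given a character of degree five or ten. -/
theorem small_local (hG : Nat.card G = 95040)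
    (hself : ∀ g : G, ∀ x : G, orderOf x = 11 → g * x = x * g → orderOf g ∣ 11)
    {χ : IrrCharacter G} (hd : charDegree (χ : G → ℂ) = 5 ∨ charDegree (χ : G → ℂ) = 10) :
    charDegree (χ : G → ℂ) = 10 ∧ ∃ f u w : G, orderOf f = 5 ∧ orderOf u = 3 ∧ f * u = u * f ∧
      45 ∣ Nat.card (Subgroup.centralizer ({u} : Set G)) ∧ orderOf w = 9 ∧ f * w = w * f := by
  classical
  obtain ⟨Q, n, e, k, hQ, -, hk, hnek, hn1, -, he, he1, -⟩ :=
    PrimeSylowCount.data (G := G) (p := 5) (m := 19008) (by rw [hG]) (by norm_num) (by norm_num)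
  obtain ⟨f, hfQ⟩ := SmallOrderGraph.nonOne_nonempty Q hQ
  have hf1 : (f : G) ≠ 1 := mem_nonOne.1 hfQ
  have hzp := eq_zpowers_of_prime_sylow hQ f.2 hf1
  have hf : orderOf (f : G) = 5 := by rw [← Nat.card_zpowers, hzp, hQ]
  set C := Subgroup.centralizer ({(f : G)} : Set G) with hCdef
  have hC : Nat.card C = 5 * k := by
    rw [hCdef, ← centralizer_zpowers_eq, hzp]; exact hk
  have hodd : ¬ 2 ∣ k := fun h => by
    obtain ⟨t, htC, ht⟩ := exists_invol C (hC ▸ dvd_mul_of_dvd_right h 5)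
    exact small_no_invol hG hd hf ht (Subgroup.mem_centralizer_singleton_iff.1 htC).symm
  have h11 : ¬ 11 ∣ k := fun h => by
    haveI : Fact (Nat.Prime 11) := ⟨by norm_num⟩
    obtain ⟨x, hx⟩ := exists_prime_orderOf_dvd_card' (G := C) 11 (hC ▸ dvd_mul_of_dvd_right h 5)
    have hcx := hself (f : G) (x : G) (by rw [Subgroup.orderOf_coe, hx])
      (Subgroup.mem_centralizer_singleton_iff.1 x.2).symm
    rw [hf] at hcx
    omega
  have hcop : k.Coprime (2 ^ 6 * 11) := Nat.Coprime.mul_right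
    (Nat.Coprime.pow_right _ (Nat.prime_two.coprime_iff_not_dvd.2 hodd).symm)
    ((show Nat.Prime 11 by norm_num).coprime_iff_not_dvd.2 h11).symm
  have hk27 : k ∣ 27 := hcop.dvd_of_dvd_mul_left ⟨n * e, by rw [← mul_comm (n * e) k, hnek]; norm_num⟩
  have hk9 : k = 9 ∨ k = 27 := by
    have hd27 : k ∈ ([1, 3, 9, 27] : List ℕ) := by
      have hmem : k ∈ Nat.divisors 27 := Nat.mem_divisors.2 ⟨hk27, by norm_num⟩
      have key : ∀ k ∈ Nat.divisors 27, k ∈ ([1, 3, 9, 27] : List ℕ) := by decide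
      exact key k hmem
    have : e ≤ 4 := Nat.le_of_dvd (by norm_num) he
    simp only [List.mem_cons, List.not_mem_nil, or_false] at hd27
    interval_cases e <;> rcases hd27 with rfl | rfl | rfl | rfl <;> omega
  haveI : Fact (Nat.Prime 3) := ⟨by norm_num⟩
  obtain ⟨j, hj, hjk⟩ : ∃ j, k = 3 ^ (j + 2) ∧ j ≤ 1 := by
    rcases hk9 with rfl | rfl
    · exact ⟨0, rfl, by norm_num⟩
    · exact ⟨1, rfl, le_rfl⟩
  obtain ⟨T, hT⟩ := Sylow.exists_subgroup_card_pow_prime (G := C) 3 (n := j + 2) (by rw [hC, ← hj]; exact dvd_mul_left _ _)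
  have hTp : IsPGroup 3 T := IsPGroup.of_card hT
  haveI : Nontrivial T := Finite.one_lt_card_iff_nontrivial.1 (by rw [hT]; exact Nat.one_lt_pow (by omega) (by norm_num))
  haveI := hTp.center_nontrivial
  obtain ⟨u, hu⟩ : ∃ u : Subgroup.center T, orderOf u = 3 := by
    refine exists_prime_orderOf_dvd_card' 3 ?_
    obtain ⟨m, hm⟩ := (IsPGroup.iff_card.1 (hTp.to_subgroup (Subgroup.center T)))
    have : 1 < Nat.card (Subgroup.center T) := Finite.one_lt_card_iff_nontrivial.2 inferInstance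
    rcases m with _ | m
    · rw [hm, pow_zero] at this; omega
    · rw [hm]; exact dvd_pow_self _ (Nat.succ_ne_zero _)
  have hcm : ∀ x : T, (f : G) * ((x : C) : G) = ((x : C) : G) * f := fun x =>
    (Subgroup.mem_centralizer_singleton_iff.1 (x : C).2).symm
  have huo : orderOf (((u : T) : C) : G) = 3 := by
    rw [Subgroup.orderOf_coe, Subgroup.orderOf_coe, Subgroup.orderOf_coe, hu]
  have h45 : 45 ∣ Nat.card (Subgroup.centralizer ({(((u : T) : C) : G)} : Set G)) := by
    set H := Subgroup.centralizer ({(((u : T) : C) : G)} : Set G)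
    have h5 : 5 ∣ Nat.card H := hf ▸ H.orderOf_dvd_natCard (Subgroup.mem_centralizer_singleton_iff.2 (hcm u))
    have hTle : T.map C.subtype ≤ H := by
      rintro _ ⟨x, hx, rfl⟩
      rw [Subgroup.mem_centralizer_singleton_iff]
      exact congrArg (fun y : T => ((y : C) : G)) (Subgroup.mem_center_iff.1 u.2 ⟨x, hx⟩)
    have h := Subgroup.card_dvd_of_le hTle
    rw [Subgroup.card_map_of_injective C.subtype_injective, hT, pow_add] at h
    have h9 : 9 ∣ Nat.card H := (dvd_mul_left (3 ^ 2) _).trans h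
    omega
  obtain ⟨hd10, -⟩ := small_three hG hd hf huo (hcm u)
  obtain ⟨w, hw⟩ : ∃ w : T, orderOf w = 9 := by
    by_contra hno
    push Not at hno
    have hexp : ∀ x : T, x ≠ 1 → orderOf x = 3 := by
      intro x hx
      obtain ⟨m, hm⟩ := (IsPGroup.iff_orderOf.1 hTp) x
      rcases m with _ | _ | m
      · exact absurd (orderOf_eq_one_iff.1 (by simpa using hm)) hx
      · simpa using hm
      · exfalso
        refine hno (x ^ (3 ^ m)) ?_
        rw [orderOf_pow' x (pow_ne_zero _ (by norm_num)), hm,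
          Nat.gcd_eq_right (pow_dvd_pow 3 (by omega)), Nat.pow_div (by omega) (by norm_num),
          show m + 1 + 1 - m = 2 by omega]
    let φ : T →* G := C.subtype.comp T.subtype
    obtain ⟨c, hc⟩ := classInner_natCast (isCharacter_comp φ (irr_isCharacter χ.2))
      (irr_isCharacter (isIrrCharacter_one (G := T)))
    have hval : ∀ x : T, (χ : G → ℂ) (φ x) * conj ((fun _ : T => (1 : ℂ)) x) = if x = 1 then (10 : ℂ) else -5 := by
      intro x
      rw [map_one, mul_one]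
      split
      · rename_i h1
        rw [h1, map_one, val_one, hd10]
        norm_num
      · rename_i h1
        exact (small_three hG hd hf (by
          rw [Subgroup.orderOf_coe, Subgroup.orderOf_coe, hexp x h1]) (hcm x)).2
    rw [classInner, Finset.sum_congr rfl (g := fun x : T => if x = 1 then (10 : ℂ) else -5) fun x _ => by
        simpa using hval x] at hc
    rw [← Finset.add_sum_erase _ _ (Finset.mem_univ (1 : T)), if_pos rfl,
      Finset.sum_congr rfl (g := fun _ => (-5 : ℂ)) fun x hx => if_neg (Finset.ne_of_mem_erase hx),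
      Finset.sum_const, Finset.card_erase_of_mem (Finset.mem_univ _), Finset.card_univ, ← Nat.card_eq_fintype_card,
      hT, nsmul_eq_mul, inv_mul_eq_iff_eq_mul₀ (Nat.cast_ne_zero.2 (pow_ne_zero _ (by norm_num)))] at hc
    interval_cases j <;> norm_num at hc
    · have : ((-30 : ℤ) : ℂ) = ((9 * (c : ℤ) : ℤ) : ℂ) := by push_cast; linear_combination hc
      have : (-30 : ℤ) = 9 * (c : ℤ) := by exact_mod_cast this
      omega
    · have : ((-120 : ℤ) : ℂ) = ((27 * (c : ℤ) : ℤ) : ℂ) := by push_cast; linear_combination hc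
      have : (-120 : ℤ) = 27 * (c : ℤ) := by exact_mod_cast this
      omega
  exact ⟨hd10, (f : G), (((u : T) : C) : G), ((w : C) : G), hf, huo, hcm u, h45,
    by rw [Subgroup.orderOf_coe, Subgroup.orderOf_coe, hw], hcm w⟩

/-- There cannot be just one or two characters of degree ten. -/
theorem few_tens (hG : Nat.card G = 95040)
    (hself : ∀ g : G, ∀ x : G, orderOf x = 11 → g * x = x * g → orderOf g ∣ 11)
    {χ : IrrCharacter G} (hd : charDegree (χ : G → ℂ) = 10)
    (hfew : ∀ χ₁ χ₂ χ₃ : IrrCharacter G, charDegree (χ₁ : G → ℂ) = 10 → charDegree (χ₂ : G → ℂ) = 10 →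
      charDegree (χ₃ : G → ℂ) = 10 → χ₁ = χ₂ ∨ χ₁ = χ₃ ∨ χ₂ = χ₃) : False := by
  obtain ⟨-, f, -, w, hf, -, -, -, hw, hc⟩ := small_local hG hself (Or.inr hd)
  have hk : (47 : ℕ).Coprime (Nat.card G) := by rw [hG]; norm_num
  set χ₁ := SmallOrderGraph.galConj χ hk with hχ₁
  set χ₂ := SmallOrderGraph.galConj χ₁ hk with hχ₂
  have hw9 : w ^ 9 = 1 := hw ▸ pow_orderOf_eq_one w
  have red : ∀ i : ℕ, (χ : G → ℂ) (w ^ i) = (χ : G → ℂ) (w ^ (i % 9)) := fun i => by
    conv_lhs => rw [← Nat.div_add_mod i 9, pow_add, pow_mul, hw9, one_pow, one_mul]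
  have e1 : ∀ i, (χ₁ : G → ℂ) (w ^ i) = (χ : G → ℂ) (w ^ (2 * i % 9)) := fun i => by
    rw [hχ₁, SmallOrderGraph.galConj_apply, ← pow_mul, red]
    rw [show i * 47 % 9 = 2 * i % 9 by omega]
  have e2 : ∀ i, (χ₂ : G → ℂ) (w ^ i) = (χ : G → ℂ) (w ^ (4 * i % 9)) := fun i => by
    rw [hχ₂, SmallOrderGraph.galConj_apply, ← pow_mul, e1, show 2 * (i * 47) % 9 = 4 * i % 9 by omega]
  set A := fun i : ℕ => (χ : G → ℂ) (w ^ i) with hA
  have hd1 : charDegree (χ₁ : G → ℂ) = 10 := (SmallOrderGraph.charDegree_galConj χ hk).trans hd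
  have hd2 : charDegree (χ₂ : G → ℂ) = 10 := (SmallOrderGraph.charDegree_galConj χ₁ hk).trans hd1
  have h47 : A 4 = A 1 ∧ A 7 = A 1 := by
    rcases hfew χ χ₁ χ₂ hd hd1 hd2 with h | h | h
    · have ev : ∀ i, A i = A (2 * i % 9) := fun i =>
        (congrFun (congrArg Subtype.val h) (w ^ i)).trans (e1 i)
      have a1 := ev 1; have a2 := ev 2; have a4 := ev 4; have a8 := ev 8
      norm_num at a1 a2 a4 a8
      exact ⟨(a1.trans a2).symm, (a1.trans (a2.trans (a4.trans a8))).symm⟩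
    · have ev : ∀ i, A i = A (4 * i % 9) := fun i =>
        (congrFun (congrArg Subtype.val h) (w ^ i)).trans (e2 i)
      have a1 := ev 1; have a4 := ev 4
      norm_num at a1 a4
      exact ⟨a1.symm, (a1.trans a4).symm⟩
    · have ev : ∀ i, A (2 * i % 9) = A (4 * i % 9) := fun i =>
        (e1 i).symm.trans ((congrFun (congrArg Subtype.val h) (w ^ i)).trans (e2 i))
      have a5 := ev 5; have a1 := ev 1; have a2 := ev 2; have a4 := ev 4; have a8 := ev 8
      norm_num at a1 a2 a4 a5 a8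
      exact ⟨(a5.trans a1).symm, (a5.trans (a1.trans (a2.trans a4))).symm⟩
  obtain ⟨h4, h7⟩ := h47
  have hconj : ∀ i j : ℕ, (i + j) % 9 = 0 → A i = conj (A j) := fun i j hij => by
    show (χ : G → ℂ) (w ^ i) = conj ((χ : G → ℂ) (w ^ j))
    rw [← char_inv (irr_isCharacter χ.2)]
    have hinv : w ^ i * w ^ j = 1 := by
      rw [← pow_add]
      obtain ⟨q, hq⟩ := Nat.dvd_of_mod_eq_zero hij
      rw [hq, pow_mul, hw9, one_pow]
    rw [eq_inv_of_mul_eq_one_left hinv]
  have h8 := hconj 8 1 rfl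
  have h5 := (hconj 5 4 rfl).trans (by rw [h4])
  have h2 := (hconj 2 7 rfl).trans (by rw [h7])
  have h3 : A 3 = -5 := by
    refine (small_three hG (Or.inr hd) hf (w := w ^ 3) ?_ ?_).2
    · rw [orderOf_pow' w (by norm_num), hw]; norm_num
    · exact ((show Commute f w from hc).pow_right 3).eq
  have h6 : A 6 = -5 := by rw [hconj 6 3 rfl, h3]; simp [map_ofNat]
  have key : ∀ ζ : ℂ, ζ ^ 9 = 1 → ∃ m : ℕ, 10 - 5 * (ζ ^ 3 + ζ ^ 6) + A 1 * (ζ + ζ ^ 4 + ζ ^ 7) +
      conj (A 1) * (ζ ^ 2 + ζ ^ 5 + ζ ^ 8) = 9 * (m : ℂ) := by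
    intro ζ hζ
    obtain ⟨m, hm⟩ := mult_nat (irr_isCharacter χ.2) (n := 9) (by norm_num) hw9 hζ
    refine ⟨m, ?_⟩
    have h0 : A 0 = 10 := by simp only [hA, pow_zero, val_one, hd]; norm_num
    have hsum : ∑ i ∈ Finset.range 9, ζ ^ i * A i = (9 : ℕ) * (m : ℂ) := hm
    simp only [Finset.sum_range_succ, Finset.sum_range_zero, h0, h2, h3, h4, h5, h6, h7, h8] at hsum
    push_cast at hsum
    linear_combination hsum
  have hc9 : cw ^ 9 = 1 := by rw [show 9 = 3 * 3 from rfl, pow_mul, cw_cube, one_pow]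
  obtain ⟨m0, hm0⟩ := key 1 (one_pow _)
  obtain ⟨m1, hm1⟩ := key cw hc9
  obtain ⟨m2, hm2⟩ := key (cw ^ 2) (by rw [← pow_mul, show 2 * 9 = 3 * 6 from rfl, pow_mul, cw_cube, one_pow])
  have c4 : cw ^ 4 = cw := by rw [show 4 = 3 + 1 from rfl, pow_succ, cw_cube, one_mul]
  simp only [one_pow] at hm0
  rw [show cw ^ 5 = cw ^ 2 by rw [show 5 = 3 + 2 from rfl, pow_add, cw_cube, one_mul],
    show cw ^ 6 = 1 by rw [show 6 = 3 * 2 from rfl, pow_mul, cw_cube, one_pow],
    show cw ^ 7 = cw by rw [show 7 = 3 * 2 + 1 from rfl, pow_succ, pow_mul, cw_cube, one_pow, one_mul],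
    show cw ^ 8 = cw ^ 2 by rw [show 8 = 3 * 2 + 2 from rfl, pow_add, pow_mul, cw_cube, one_pow, one_mul],
    c4, cw_cube] at hm1
  have p2 : ∀ i, (cw ^ 2) ^ i = cw ^ (2 * i % 3) := fun i => by
    rw [← pow_mul]
    conv_lhs => rw [← Nat.div_add_mod (2 * i) 3, pow_add, pow_mul, cw_cube, one_pow, one_mul]
  simp only [p2] at hm2
  norm_num at hm2
  have hzero : m0 + m1 + m2 = 0 := by
    have : ((m0 + m1 + m2 : ℕ) : ℂ) = 0 := by
      push_cast
      linear_combination (-1 / 9 : ℂ) * (hm0 + hm1 + hm2) + ((A 1 + conj (A 1)) / 3) * cw_sum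
    exact_mod_cast this
  obtain ⟨r0, r1, r2⟩ : m0 = 0 ∧ m1 = 0 ∧ m2 = 0 := by omega
  subst r0 r1 r2
  push_cast at hm0 hm1
  have ha : A 1 = 0 := by
    have h : A 1 * (cw - cw ^ 2) = 0 := by
      linear_combination (1 / 3 : ℂ) * hm1 - (cw ^ 2 / 3) * hm0
    refine (mul_eq_zero.1 h).resolve_right fun e => ?_
    have h3' : (1 : ℂ) + cw + cw = 0 := by linear_combination cw_sum + e
    have e3 : cw = -1 / 2 := by linear_combination (1 / 2 : ℂ) * h3'
    rw [e3] at e
    norm_num at e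
  set z9 : ℂ := Complex.exp (2 * Real.pi * Complex.I / 9) with hz9
  have hz3 : z9 ^ 3 = cw := by
    rw [hz9, cw, ← Complex.exp_nat_mul]
    congr 1
    push_cast
    ring
  obtain ⟨m, hm⟩ := key z9 (by rw [show 9 = 3 * 3 from rfl, pow_mul, hz3, cw_cube])
  rw [ha, map_zero, show z9 ^ 6 = cw ^ 2 by rw [show 6 = 3 * 2 from rfl, pow_mul, hz3], hz3] at hm
  have : ((15 : ℕ) : ℂ) = ((9 * m : ℕ) : ℂ) := by
    push_cast
    linear_combination hm + (5 : ℂ) * cw_sum
  have : 15 = 9 * m := by exact_mod_cast this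
  omega

end Cfsg.Agent.MTwelve.OrderFront
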