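import Cfsg.Agent.Lib.Spor.MTwelve.OrderFront.ArithDeg
import Cfsg.Agent.Lib.Spor.MTwelve.OrderFront.SmallDeg

/-!
The degrees in the principal block for eleven are `1, 45, 54, 120, 144` and twice `16`.
-/

set_option autoImplicit false
set_option linter.unusedSectionVars false

namespace Cfsg.Agent.MTwelve.OrderFront

open Cfsg Cfsg.Agent.Char Cfsg.Agent.Small.Order459648
open scoped ComplexConjugate

universe u

variable {G : Type u} [Group G] [Fintype G] [IsSimpleGroup G]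

theorem exists_central_elt (p : ℕ) [Fact p.Prime] {n : ℕ} (hdvd : p ^ (n + 1) ∣ Nat.card G) :
    ∃ u : G, orderOf u = p ∧ p ^ (n + 1) ∣ Nat.card (Subgroup.centralizer ({u} : Set G)) := by
  obtain ⟨T, hT⟩ := Sylow.exists_subgroup_card_pow_prime (G := G) p (n := n + 1) hdvd
  have hTp : IsPGroup p T := IsPGroup.of_card hT
  haveI : Nontrivial T := Finite.one_lt_card_iff_nontrivial.1
    (by rw [hT]; exact Nat.one_lt_pow (by omega) (Fact.out : p.Prime).one_lt)
  haveI := hTp.center_nontrivial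
  obtain ⟨m, hm⟩ := IsPGroup.iff_card.1 (hTp.to_subgroup (Subgroup.center T))
  have h1 : 1 < Nat.card (Subgroup.center T) := Finite.one_lt_card_iff_nontrivial.2 inferInstance
  obtain ⟨u, hu⟩ : ∃ u : Subgroup.center T, orderOf u = p := by
    refine exists_prime_orderOf_dvd_card' p ?_
    rcases m with _ | m
    · rw [hm, pow_zero] at h1; omega
    · rw [hm]; exact dvd_pow_self _ (Nat.succ_ne_zero _)
  refine ⟨((u : T) : G), by rw [Subgroup.orderOf_coe, Subgroup.orderOf_coe, hu], ?_⟩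
  rw [← hT]
  refine Subgroup.card_dvd_of_le fun x hx => Subgroup.mem_centralizer_singleton_iff.2 ?_
  exact congrArg (fun y : T => (y : G)) (Subgroup.mem_center_iff.1 u.2 ⟨x, hx⟩)

/-- rationality gives a congruence at elements of order three -/
theorem mod_three {χ : IrrCharacter G} {u : G} (hu : orderOf u = 3) {v : ℤ} (hv : (χ : G → ℂ) u = v) :
    (3 : ℤ) ∣ (charDegree (χ : G → ℂ) : ℤ) - v := by
  have hu3 : u ^ 3 = 1 := hu ▸ pow_orderOf_eq_one u
  have h2 : (χ : G → ℂ) (u ^ 2) = v := by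
    rw [eq_inv_of_mul_eq_one_left (show u ^ 2 * u = 1 by rw [← pow_succ]; exact hu3),
      char_inv (irr_isCharacter χ.2), hv, map_intCast]
  have h := (mult_int (irr_isCharacter χ.2) (n := 3) (by norm_num) hu3 (ζ := 1) (one_pow _)
    (T := (charDegree (χ : G → ℂ) : ℤ) + 2 * v) (by
      simp only [Finset.sum_range_succ, Finset.sum_range_zero, one_pow, one_mul, pow_zero, pow_one, val_one, hv, h2]
      push_cast
      ring)).1
  omega

namespace Front

variable (F : Front G)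

include F in
theorem hself (g x : G) (hx : orderOf x = 11) (hc : g * x = x * g) : orderOf g ∣ 11 := by
  haveI : Fact (Nat.Prime 11) := ⟨by norm_num⟩
  obtain ⟨Q, hQ⟩ := (IsPGroup.of_card (n := 1) (by rw [Nat.card_zpowers, hx, pow_one]) :
    IsPGroup 11 (Subgroup.zpowers x)).exists_le_sylow
  have hQc : Nat.card Q = 11 := by rw [Q.card_eq_multiplicity, ← F.P.card_eq_multiplicity, F.cardP]
  have hQx : Subgroup.zpowers x = (Q : Subgroup G) :=
    Subgroup.eq_of_le_of_card_ge hQ (by rw [Nat.card_zpowers, hx]; exact hQc.le)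
  have hC : Nat.card (Subgroup.centralizer ((Q : Subgroup G) : Set G)) = 11 :=
    (PrimeSylowCount.centCard_eq Q F.P).trans F.cent
  rw [← hC]
  refine Subgroup.orderOf_dvd_natCard _ ?_
  rw [← hQx, centralizer_zpowers_eq, Subgroup.mem_centralizer_singleton_iff]
  exact hc

include F in
theorem cent_dvd {g : G} (hg : g ≠ 1) (h11 : ¬ 11 ∣ orderOf g) :
    Nat.card (Subgroup.centralizer ({g} : Set G)) ∣ 8640 := by
  haveI : Fact (Nat.Prime 11) := ⟨by norm_num⟩
  set H := Subgroup.centralizer ({g} : Set G)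
  have hd : Nat.card H ∣ 11 * 8640 := by
    rw [show 11 * 8640 = Nat.card G from F.card.symm]; exact Subgroup.card_subgroup_dvd_card H
  refine (((by norm_num : Nat.Prime 11).coprime_iff_not_dvd).2 fun h => ?_).symm.dvd_of_dvd_mul_left hd
  obtain ⟨x, hx⟩ := exists_prime_orderOf_dvd_card' (G := H) 11 h
  have hcx : (x : G) * g = g * x := Subgroup.mem_centralizer_singleton_iff.1 x.2
  rcases (Nat.dvd_prime (by norm_num : Nat.Prime 11)).1
    (F.hself g x (by rw [Subgroup.orderOf_coe, hx]) hcx.symm) with h1 | h1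
  · exact hg (orderOf_eq_one_iff.1 h1)
  · exact h11 (by rw [h1])

theorem c_ne (i : Fin 4) : F.c i ≠ oneChar := (F.c_mem i).2

theorem θ_ne : F.θ ≠ oneChar := F.blk.Yne _ F.memY

include F in
/-- membership in the range of allowed values -/
theorem mem_rng_val {χ : IrrCharacter G} (hne : χ ≠ oneChar) {g : G} (hg : g ≠ 1) {v : ℤ} (hv : (χ : G → ℂ) g = v)
    {m : ℕ} (hm : (m : ℤ) ∣ (charDegree (χ : G → ℂ) : ℤ) - v) :
    v ∈ rng (charDegree (χ : G → ℂ)) (Nat.card (Subgroup.centralizer ({g} : Set G))) m := by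
  refine mem_rng (natAbs_lt (na F.card) hne hg hv) hm ?_ (class_dvd χ hv rfl F.card)
  have := one_add_sq_le hne hv
  omega

theorem invol_vals {t : G} (ht : orderOf t = 2) :
    ∃ (v : Fin 4 → ℤ) (w : ℤ), F.Vals t v w ∧
      (∀ i, v i ∈ rng (F.d i) (Nat.card (Subgroup.centralizer ({t} : Set G))) 4) ∧
      w ∈ rng F.g0 (Nat.card (Subgroup.centralizer ({t} : Set G))) 4 ∧
      pairsNum F.d F.g0 v v w w = 0 := by
  have ht1 : t ≠ 1 := fun e => by rw [e, orderOf_one] at ht; omega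
  choose v hv hv4 hvlt using fun i => SmallOrderGraph.invol_value (na F.card) (F.c_ne i) ht
  obtain ⟨w, hw, hw4, -⟩ := SmallOrderGraph.invol_value (na F.card) F.θ_ne ht
  have hV : F.Vals t v w := ⟨by rw [ht]; norm_num, hv, hw⟩
  exact ⟨v, w, hV, fun i => F.mem_rng_val (F.c_ne i) ht1 (hv i) (hv4 i),
    F.mem_rng_val F.θ_ne ht1 hw hw4, (F.pairs hV hV).2.2 ht ht⟩

theorem pairsNum_eq (v v' : Fin 4 → ℤ) (w w' : ℤ) : pairsNum F.d F.g0 v v' w w' =
    pairs5 (F.d 0) (F.d 1) (F.d 2) (F.d 3) F.g0 (v 0) (v 1) (v 2) (v 3) w (v' 0) (v' 1) (v' 2) (v' 3) w' := by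
  simp only [pairsNum, pairs5, Fin.sum_univ_four]

theorem sq_le5 {g : G} {v : Fin 4 → ℤ} {w : ℤ} (h : F.Vals g v w) :
    sq5 (v 0) (v 1) (v 2) (v 3) w ≤ (Nat.card (Subgroup.centralizer ({g} : Set G)) : ℤ) := by
  have := F.sq_le h
  simpa only [sqNum, Fin.sum_univ_four, sq5] using this

theorem linear5 {g : G} {v : Fin 4 → ℤ} {w : ℤ} (h : F.Vals g v w) :
    sgnY F.g0 * w = 1 + (sgn (F.d 0) * v 0 + sgn (F.d 1) * v 1 + sgn (F.d 2) * v 2 + sgn (F.d 3) * v 3) := by
  rw [F.linear h, Fin.sum_univ_four]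

theorem search {g : G} {v : Fin 4 → ℤ} {w : ℤ} (h : F.Vals g v w) {Cs : List ℕ} {m : ℕ}
    {leaf : ℕ → ℤ → ℤ → ℤ → ℤ → ℤ → Bool}
    (hC : Nat.card (Subgroup.centralizer ({g} : Set G)) ∈ Cs)
    (hv : ∀ i, v i ∈ rng (F.d i) (Nat.card (Subgroup.centralizer ({g} : Set G))) m)
    (hw : w ∈ rng F.g0 (Nat.card (Subgroup.centralizer ({g} : Set G))) m)
    (hleaf : leaf (Nat.card (Subgroup.centralizer ({g} : Set G))) (v 0) (v 1) (v 2) (v 3) w = true) :
    search5 Cs m (F.d 0) (F.d 1) (F.d 2) (F.d 3) F.g0 leaf = true :=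
  search5_sound hC (hv 0) (hv 1) (hv 2) (hv 3) hw (F.linear5 h) (F.sq_le5 h) hleaf

theorem zExists_true : zExists (F.d 0) (F.d 1) (F.d 2) (F.d 3) F.g0 = true := by
  haveI : Fact (Nat.Prime 2) := ⟨Nat.prime_two⟩
  obtain ⟨z, hz, h64⟩ := exists_central_elt (G := G) 2 (n := 5) (by rw [F.card]; norm_num)
  have hz1 : z ≠ 1 := fun e => by rw [e, orderOf_one] at hz; omega
  obtain ⟨v, w, hV, hv, hw, hp⟩ := F.invol_vals hz
  refine F.search hV ?_ hv hw (by rw [← F.pairsNum_eq, hp]; rfl)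
  have hd := F.cent_dvd hz1 (by rw [hz]; norm_num)
  have key : ∀ k < 136, 64 * k ∣ 8640 → 64 * k ∈ cTwo := by decide +kernel
  obtain ⟨k, hk⟩ := h64
  rw [hk] at hd ⊢
  have := Nat.le_of_dvd (by norm_num) hd
  exact key k (by norm_num at this ⊢; omega) hd

theorem good_true : good (F.d 0) (F.d 1) (F.d 2) (F.d 3) F.g0 = true := by
  have h := classify
  simp only [List.all_eq_true] at h
  have hX : ∀ i, F.d i ∈ dX := fun i => mem_dX _ (F.d_mem i) (F.d_mod i)
  have h' := h _ (hX 0) _ (hX 1) _ (hX 2) _ (hX 3) _ (mem_dY _ F.g0_mem F.g0_mod.1)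
  have hlin := F.linear5 F.vals_one
  have hsq := F.sq_le5 F.vals_one
  have hC1 : (Nat.card (Subgroup.centralizer ({(1 : G)} : Set G)) : ℤ) ≤ 95040 := by
    have := Subgroup.card_le_card_group (Subgroup.centralizer ({(1 : G)} : Set G))
    rw [F.card] at this
    exact_mod_cast this
  have h01 : F.d 0 ≤ F.d 1 := F.mono (by decide : (0 : Fin 4) ≤ 1)
  have h12 : F.d 1 ≤ F.d 2 := F.mono (by decide : (1 : Fin 4) ≤ 2)
  have h23 : F.d 2 ≤ F.d 3 := F.mono (by decide : (2 : Fin 4) ≤ 3)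
  simpa [h01, h12, h23, hlin, hsq.trans hC1, F.zExists_true] using h'

theorem deg_ten_cases {χ : IrrCharacter G} (h : charDegree (χ : G → ℂ) = 10) : ∃ i, F.c i = χ ∧ F.d i = 10 := by
  rcases F.mem_cases (ne_one_of_deg (χ := χ) (by omega)) (by rw [h]; norm_num) with ⟨i, hi⟩ | hY
  · exact ⟨i, hi, by simp only [d, hi, h]⟩
  · have h5 := (F.blk.pp.congrY _ hY).eq
    rw [h] at h5
    rcases F.blk.pp.sign with h' | h' <;> rw [h'] at h5 <;> omega

theorem not_five : F.g0 ≠ 5 := fun h => by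
  have := (small_local F.card F.hself (χ := F.θ) (Or.inl h)).1
  simp only [g0] at h
  omega

theorem not_few (h0 : F.d 0 = 10) (h2 : F.d 2 ≠ 10) : False := by
  have h01 : F.d 0 ≤ F.d 1 := F.mono (by decide : (0 : Fin 4) ≤ 1)
  have h12 : F.d 1 ≤ F.d 2 := F.mono (by decide : (1 : Fin 4) ≤ 2)
  have h23 : F.d 2 ≤ F.d 3 := F.mono (by decide : (2 : Fin 4) ≤ 3)
  refine few_tens F.card F.hself (χ := F.c 0) h0 fun χ₁ χ₂ χ₃ e1 e2 e3 => ?_
  obtain ⟨i, rfl, hi⟩ := F.deg_ten_cases e1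
  obtain ⟨j, rfl, hj⟩ := F.deg_ten_cases e2
  obtain ⟨k, rfl, hk⟩ := F.deg_ten_cases e3
  have hs : ∀ l : Fin 4, F.d l = 10 → l = 0 ∨ l = 1 := by
    intro l hl
    fin_cases l <;> simp at hl ⊢ <;> omega
  rcases hs i hi with rfl | rfl <;> rcases hs j hj with rfl | rfl <;> rcases hs k hk with rfl | rfl <;> tauto

theorem not_three (h0 : F.d 0 = 10) (h1 : F.d 1 = 10) (h2 : F.d 2 = 10) (h3 : F.d 3 = 45) (hg : F.g0 = 16) :
    False := by
  obtain ⟨-, f, u, -, hf, hu, hfu, h45, -, -⟩ := small_local F.card F.hself (χ := F.c 0) (Or.inr h0)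
  have hu1 : u ≠ 1 := fun e => by rw [e, orderOf_one] at hu; omega
  have hten : ∀ i, F.d i = 10 → (F.c i : G → ℂ) u = ((-5 : ℤ) : ℂ) := fun i hi => by
    rw [(small_three F.card (χ := F.c i) (Or.inr hi) hf hu hfu).2]; norm_num
  obtain ⟨v, hv⟩ := F.c_int 3 (fun j hj => by fin_cases j <;> simp_all) u
  have h11 : ¬ 11 ∣ orderOf u := by rw [hu]; norm_num
  obtain ⟨w, hw⟩ := F.theta_int u h11
  have hV : F.Vals u ![-5, -5, -5, v] w := ⟨h11, fun i => by
    fin_cases i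
    · simpa using hten 0 h0
    · simpa using hten 1 h1
    · simpa using hten 2 h2
    · simpa using hv, hw⟩
  set C := Nat.card (Subgroup.centralizer ({u} : Set G)) with hCdef
  have hC : C ∈ cFortyFive := by
    have hd := F.cent_dvd hu1 h11
    rw [← hCdef] at hd
    have key : ∀ k < 193, 45 * k ∣ 8640 → 45 * k ∈ cFortyFive := by decide +kernel
    obtain ⟨k, hk⟩ := h45
    rw [hk] at hd ⊢
    have := Nat.le_of_dvd (by norm_num) hd
    exact key k (by omega) hd
  have hv15 : (15 : ℤ) ∣ 45 - v := by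
    have hu3 : u ^ 3 = 1 := hu ▸ pow_orderOf_eq_one u
    have hf5 : f ^ 5 = 1 := hf ▸ pow_orderOf_eq_one f
    have hcm : Commute f u := hfu
    have hord : orderOf (f * u) = 15 := by
      rw [hcm.orderOf_mul_eq_mul_orderOf_of_coprime (by rw [hf, hu]; norm_num), hf, hu]
    have hz : ∀ i, ¬ 5 ∣ i → (F.c 3 : G → ℂ) ((f * u) ^ i) = 0 := by
      intro i hi
      refine vanish_five F.card (show 5 ∣ F.d 3 by rw [h3]; norm_num) ?_
      rw [orderOf_pow, hord]
      have h3' : Nat.gcd 15 i ∣ 3 := by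
        refine (Nat.Coprime.dvd_of_dvd_mul_left ?_ (show Nat.gcd 15 i ∣ 5 * 3 from Nat.gcd_dvd_left 15 i))
        exact ((Nat.prime_five.coprime_iff_not_dvd).2 fun h => hi (h.trans (Nat.gcd_dvd_right _ _))).symm
      rcases (Nat.dvd_prime Nat.prime_three).1 h3' with h | h <;> rw [h] <;> norm_num
    have e5 : (F.c 3 : G → ℂ) ((f * u) ^ 5) = v := by
      rw [hcm.mul_pow, hf5, one_mul, show 5 = 3 + 2 from rfl, pow_add, hu3, one_mul,
        eq_inv_of_mul_eq_one_left (show u ^ 2 * u = 1 by rw [← pow_succ]; exact hu3),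
        char_inv (irr_isCharacter (F.c 3).2), hv, map_intCast]
    have e10 : (F.c 3 : G → ℂ) ((f * u) ^ 10) = v := by
      rw [hcm.mul_pow, show 10 = 5 * 2 from rfl, pow_mul f, hf5, one_pow, one_mul,
        show 5 * 2 = 3 * 3 + 1 from rfl, pow_succ, pow_mul, hu3, one_pow, one_mul, hv]
    have h := (mult_int (irr_isCharacter (F.c 3).2) (n := 15) (by norm_num) (g := f * u)
      (by rw [← hord, pow_orderOf_eq_one]) (ζ := 1) (one_pow _) (T := (F.d 3 : ℤ) + 2 * v) (by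
        simp only [Finset.sum_range_succ, Finset.sum_range_zero, one_pow, one_mul, pow_zero, val_one, e5, e10,
          hz 1 (by norm_num), hz 2 (by norm_num), hz 3 (by norm_num), hz 4 (by norm_num), hz 6 (by norm_num),
          hz 7 (by norm_num), hz 8 (by norm_num), hz 9 (by norm_num), hz 11 (by norm_num), hz 12 (by norm_num),
          hz 13 (by norm_num), hz 14 (by norm_num), d]
        push_cast
        ring)).1
    rw [h3] at h
    omega
  have hrv : v ∈ rng 45 C 15 := h3 ▸ F.mem_rng_val (m := 15) (F.c_ne 3) hu1 hv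
    (show (15 : ℤ) ∣ (F.d 3 : ℤ) - v by rw [h3]; exact hv15)
  have hrw : w ∈ rng 16 C 1 := hg ▸ F.mem_rng_val (m := 1) F.θ_ne hu1 hw (one_dvd _)
  have hr5 : (-5 : ℤ) ∈ rng 10 C 15 := h0 ▸ F.mem_rng_val (m := 15) (F.c_ne 0) hu1 (hten 0 h0)
    (show (15 : ℤ) ∣ (F.d 0 : ℤ) - (-5) by rw [h0]; norm_num)
  have hlin := F.linear5 hV
  have hsq := F.sq_le5 hV
  have hp := (F.pairs hV hV).1
  rw [F.pairsNum_eq] at hp
  simp only [h0, h1, h2, h3, hg, Matrix.cons_val_zero, Matrix.cons_val_one, Matrix.cons_val] at hlin hsq hp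
  have hh := no_three_tens
  simp only [List.all_eq_true] at hh
  have := hh C hC v hrv w hrw
  simp [(List.mem_filter.1 hr5).2, hlin, hp] at this
  rw [← hCdef] at hsq
  omega

theorem not_160 (h0 : F.d 0 = 32) (h1 : F.d 1 = 45) (h2 : F.d 2 = 54) (h3 : F.d 3 = 120) (hg : F.g0 = 160) :
    False := by
  haveI : Fact (Nat.Prime 3) := ⟨Nat.prime_three⟩
  obtain ⟨u, hu, h27⟩ := exists_central_elt (G := G) 3 (n := 2) (by rw [F.card]; norm_num)
  have hu1 : u ≠ 1 := fun e => by rw [e, orderOf_one] at hu; omega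
  have h11 : ¬ 11 ∣ orderOf u := by rw [hu]; norm_num
  choose v hv using fun i => F.c_int i (fun j hj => by fin_cases i <;> fin_cases j <;> simp_all) u
  obtain ⟨w, hw⟩ := F.theta_int u h11
  have hV : F.Vals u v w := ⟨h11, hv, hw⟩
  set C := Nat.card (Subgroup.centralizer ({u} : Set G)) with hCdef
  have hC : C ∈ cThree := by
    have hd := F.cent_dvd hu1 h11
    rw [← hCdef] at hd
    have key : ∀ k < 321, 27 * k ∣ 8640 → 27 * k ∈ cThree := by decide +kernel
    obtain ⟨k, hk⟩ := h27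
    rw [hk] at hd ⊢
    have := Nat.le_of_dvd (by norm_num) hd
    exact key k (by norm_num at this ⊢; omega) hd
  obtain ⟨hp0, hpd, -⟩ := F.pairs hV hV
  have h := F.search hV (Cs := cThree) (m := 3) (leaf := fun C va vb vc ve w =>
    decide (0 ≤ pairs5 32 45 54 120 160 va vb vc ve w va vb vc ve w) &&
      (pairs5 32 45 54 120 160 va vb vc ve w va vb vc ve w % ((C : ℤ) * C) == 0)) hC
    (fun i => F.mem_rng_val (F.c_ne i) hu1 (hv i) (mod_three hu (hv i)))
    (F.mem_rng_val F.θ_ne hu1 hw (mod_three hu hw)) (by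
      rw [F.pairsNum_eq, h0, h1, h2, h3, hg] at hp0 hpd
      rw [Nat.cast_mul] at hpd
      rw [← hCdef]
      simp [hp0]
      exact hpd)
  rw [h0, h1, h2, h3, hg, no_160] at h
  exact Bool.noConfusion h

/-- The degrees. -/
theorem degrees : F.d 0 = 45 ∧ F.d 1 = 54 ∧ F.d 2 = 120 ∧ F.d 3 = 144 ∧ F.g0 = 16 := by
  have h := F.good_true
  simp only [good, Bool.or_eq_true, Bool.and_eq_true, beq_iff_eq, bne_iff_ne] at h
  rcases h with ((((h | ⟨h0, h2⟩) | ⟨⟨⟨⟨h0, h1⟩, h2⟩, h3⟩, hg⟩) | ⟨⟨⟨⟨h0, h1⟩, h2⟩, h3⟩, hg⟩) |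
    ⟨⟨⟨⟨h0, h1⟩, h2⟩, h3⟩, hg⟩)
  · exact absurd h F.not_five
  · exact (F.not_few h0 h2).elim
  · exact (F.not_three h0 h1 h2 h3 hg).elim
  · exact ⟨h0, h1, h2, h3, hg⟩
  · exact (F.not_160 h0 h1 h2 h3 hg).elim

theorem d_eq : F.d = ![45, 54, 120, 144] := by
  obtain ⟨h0, h1, h2, h3, -⟩ := F.degrees
  funext i
  fin_cases i <;> assumption

theorem g0_eq : F.g0 = 16 := F.degrees.2.2.2.2

theorem c_rat (i : Fin 4) (g : G) : ∃ v : ℤ, (F.c i : G → ℂ) g = v := by
  refine F.c_int i (fun j hj => ?_) g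
  obtain ⟨h0, h1, h2, h3, -⟩ := F.degrees
  fin_cases i <;> fin_cases j <;> simp_all

end Front

end Cfsg.Agent.MTwelve.OrderFront
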