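import Cfsg.Agent.Lib.Spor.MTwelve.OrderFront.ArithCent
import Cfsg.Agent.Lib.Spor.MTwelve.OrderFront.Degrees

/-!
The centralisers of involutions, and of an involution with an element of order three, in a simple group of the
order of the Mathieu group of degree twelve.
-/

set_option autoImplicit false
set_option linter.unusedSectionVars false

namespace Cfsg.Agent.MTwelve.OrderFront

open Cfsg Cfsg.Agent.Char Cfsg.Agent.Small.Order459648
open scoped ComplexConjugate

universe u

/-- values of the four characters on the central involution -/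
def vInv : Fin 4 → ℤ := ![-3, 6, -8, 0]

/-- values of the four characters on the classes with centraliser of order 1440 -/
def vBig : Fin 4 → ℤ := ![-15, 18, 0, 24]

theorem sq_vInv : sqNum vInv 0 = 110 := by simp [sqNum, vInv, Fin.sum_univ_four]

theorem sq_vBig : sqNum vBig (-8) = 1254 := by simp [sqNum, vBig, Fin.sum_univ_four]

theorem eq_vInv {v : Fin 4 → ℤ} {w : ℤ} (h : isInv (v 0) (v 1) (v 2) (v 3) w = true) : v = vInv ∧ w = 0 := by
  simp only [isInv, Bool.and_eq_true, beq_iff_eq] at h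
  obtain ⟨a, b, c, e, hw⟩ := h
  refine ⟨funext fun i => ?_, hw⟩
  fin_cases i <;> assumption

theorem eq_vBig {v : Fin 4 → ℤ} {w : ℤ} (h : isBig (v 0) (v 1) (v 2) (v 3) w = true) : v = vBig ∧ w = -8 := by
  simp only [isBig, Bool.and_eq_true, beq_iff_eq] at h
  obtain ⟨a, b, c, e, hw⟩ := h
  refine ⟨funext fun i => ?_, hw⟩
  fin_cases i <;> assumption

variable {G : Type u} [Group G] [Fintype G] [IsSimpleGroup G]

/-- The multiplicities at an element of order six. -/
theorem mult_six {χ : IrrCharacter G} {g : G} (hg : orderOf g = 6) {a b c : ℤ} (ha : (χ : G → ℂ) g = a)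
    (hb : (χ : G → ℂ) (g ^ 2) = b) (hc : (χ : G → ℂ) (g ^ 3) = c) :
    six4 (charDegree (χ : G → ℂ)) a b c = true := by
  have hg6 : g ^ 6 = 1 := hg ▸ pow_orderOf_eq_one g
  have h4 : (χ : G → ℂ) (g ^ 4) = b := by
    rw [eq_inv_of_mul_eq_one_left (show g ^ 4 * g ^ 2 = 1 by rw [← pow_add]; exact hg6),
      char_inv (irr_isCharacter χ.2), hb, map_intCast]
  have h5 : (χ : G → ℂ) (g ^ 5) = a := by
    rw [eq_inv_of_mul_eq_one_left (show g ^ 5 * g = 1 by rw [← pow_succ]; exact hg6),
      char_inv (irr_isCharacter χ.2), ha, map_intCast]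
  have key : ∀ ζ : ℂ, ζ ^ 6 = 1 → ∀ T : ℤ,
      ((charDegree (χ : G → ℂ) : ℤ) : ℂ) + ζ * a + ζ ^ 2 * b + ζ ^ 3 * c + ζ ^ 4 * b + ζ ^ 5 * a = (T : ℂ) →
        (6 : ℤ) ∣ T := by
    intro ζ hζ T hT
    refine (mult_int (irr_isCharacter χ.2) (n := 6) (by norm_num) hg6 hζ ?_).1
    rw [← hT]
    simp only [Finset.sum_range_succ, Finset.sum_range_zero, pow_zero, pow_one, one_mul, zero_add, val_one, ha, hb,
      hc, h4, h5]
  set d : ℤ := (charDegree (χ : G → ℂ) : ℤ)
  have k1 := key 1 (one_pow _) (d + 2 * a + 2 * b + c) (by push_cast; ring)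
  have k2 := key (-1) (by norm_num) (d - 2 * a + 2 * b - c) (by push_cast; ring)
  have k3 := key cw (by rw [show 6 = 3 * 2 from rfl, pow_mul, cw_cube, one_pow]) (d - a - b + c) (by
    push_cast
    rw [show cw ^ 4 = cw by rw [show 4 = 3 + 1 from rfl, pow_succ, cw_cube, one_mul],
      show cw ^ 5 = cw ^ 2 by rw [show 5 = 3 + 2 from rfl, pow_add, cw_cube, one_mul], cw_cube]
    linear_combination ((a : ℂ) + b) * cw_sum)
  have k4 := key (-cw) (by rw [show 6 = 2 * 3 from rfl, pow_mul, neg_sq, ← pow_mul, mul_comm 2 3, pow_mul, cw_cube,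
      one_pow]) (d + a - b - c) (by
    push_cast
    have e3 := cw_cube
    linear_combination ((b : ℂ) - a) * cw_sum + ((b : ℂ) * cw - c - a * cw ^ 2) * e3)
  simp [six4, d, Int.emod_eq_zero_of_dvd k1, Int.emod_eq_zero_of_dvd k2, Int.emod_eq_zero_of_dvd k3,
    Int.emod_eq_zero_of_dvd k4]

/-- An element of order three is centralised by a group of order nine. -/
theorem nine_dvd_cent (hG : Nat.card G = 95040) {u : G} (hu : orderOf u = 3) :
    9 ∣ Nat.card (Subgroup.centralizer ({u} : Set G)) := by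
  classical
  haveI : Fact (Nat.Prime 3) := ⟨Nat.prime_three⟩
  obtain ⟨T, hT⟩ := (IsPGroup.of_card (n := 1) (by rw [Nat.card_zpowers, hu, pow_one]) :
    IsPGroup 3 (Subgroup.zpowers u)).exists_le_sylow
  have huT : u ∈ (T : Subgroup G) := hT (Subgroup.mem_zpowers u)
  have hTc : Nat.card T = 27 := by
    rw [T.card_eq_multiplicity, hG, show (95040 : ℕ) = 3 ^ 3 * 3520 from rfl,
      Nat.factorization_mul (by norm_num) (by norm_num), Nat.factorization_pow, Finsupp.add_apply,
      Finsupp.smul_apply, Nat.prime_three.factorization_self,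
      Nat.factorization_eq_zero_of_not_dvd (by norm_num : ¬ 3 ∣ 3520)]
    rfl
  set u' : T := ⟨u, huT⟩
  set H := Subgroup.centralizer ({u'} : Set T)
  have hH : Nat.card H ∣ Nat.card (Subgroup.centralizer ({u} : Set G)) := by
    have e : Nat.card ↥(H.map (T : Subgroup G).subtype) = Nat.card H :=
      Subgroup.card_map_of_injective (T : Subgroup G).subtype_injective
    rw [← e]
    refine Subgroup.card_dvd_of_le ?_
    rintro _ ⟨x, hx, rfl⟩
    exact Subgroup.mem_centralizer_singleton_iff.2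
      (congrArg (fun y : T => (y : G)) (Subgroup.mem_centralizer_singleton_iff.1 hx))
  refine dvd_trans ?_ hH
  obtain ⟨m, hm⟩ := IsPGroup.iff_card.1 ((T.isPGroup' : IsPGroup 3 T).to_subgroup H)
  have h2 : 2 ≤ m := by
    by_contra hm2
    have hle : Subgroup.zpowers u' ≤ H :=
      Subgroup.zpowers_le.2 (Subgroup.mem_centralizer_singleton_iff.2 rfl)
    have heq : Subgroup.zpowers u' = H := Subgroup.eq_of_le_of_card_ge hle (by
      rw [Nat.card_zpowers, ← Subgroup.orderOf_coe, show (u' : G) = u from rfl, hu]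
      calc Nat.card H = 3 ^ m := hm
        _ ≤ 3 ^ 1 := Nat.pow_le_pow_right (by norm_num) (by omega)
        _ = 3 := pow_one 3)
    haveI : Nontrivial T := Finite.one_lt_card_iff_nontrivial.1 (by rw [hTc]; norm_num)
    haveI := (T.isPGroup' : IsPGroup 3 T).center_nontrivial
    have hZ : Subgroup.center T = Subgroup.zpowers u' := by
      refine Subgroup.eq_of_le_of_card_ge (heq ▸ Subgroup.center_le_centralizer _) ?_
      rw [Nat.card_zpowers, ← Subgroup.orderOf_coe, show (u' : G) = u from rfl, hu]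
      obtain ⟨k, hk⟩ := IsPGroup.iff_card.1 ((T.isPGroup' : IsPGroup 3 T).to_subgroup (Subgroup.center T))
      have h1 : 1 < Nat.card (Subgroup.center T) := Finite.one_lt_card_iff_nontrivial.2 inferInstance
      rcases k with _ | k
      · rw [hk] at h1; norm_num at h1
      · rw [hk]; exact Nat.le_self_pow (by omega) 3
    have htop : H = ⊤ := eq_top_iff.2 fun x _ => Subgroup.mem_centralizer_singleton_iff.2
      (Subgroup.mem_center_iff.1 (hZ ▸ Subgroup.mem_zpowers u') x)
    rw [htop, Subgroup.card_top, hTc] at hm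
    interval_cases m <;> omega
  rw [hm]
  exact dvd_trans (by norm_num) (pow_dvd_pow 3 h2)

namespace Front

variable (F : Front G)

theorem six4_d (i : Fin 4) {g : G} (hg : orderOf g = 6) {a b c : ℤ} (ha : (F.c i : G → ℂ) g = a)
    (hb : (F.c i : G → ℂ) (g ^ 2) = b) (hc : (F.c i : G → ℂ) (g ^ 3) = c) : six4 (F.d i) a b c = true :=
  mult_six hg ha hb hc

include F in
theorem big_not_conj {z : G} (hz : orderOf z = 2) (hzC : Nat.card (Subgroup.centralizer ({z} : Set G)) = 192)
    (hzv : F.Vals z vInv 0) {g : G} (hg : F.Vals g vBig (-8))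
    (hgC : Nat.card (Subgroup.centralizer ({g} : Set G)) = 1440) : False := by
  have hne : ¬ IsConj z g := fun h => by
    obtain ⟨c, rfl⟩ := isConj_iff.1 h
    have e : Subgroup.centralizer ({c * z * c⁻¹} : Set G) =
        (Subgroup.centralizer ({z} : Set G)).map (MulAut.conj c).toMonoidHom := by
      ext x
      constructor
      · intro hx
        refine ⟨c⁻¹ * x * c, Subgroup.mem_centralizer_singleton_iff.2 ?_, by simp [mul_assoc]⟩
        have hx' := Subgroup.mem_centralizer_singleton_iff.1 hx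
        calc c⁻¹ * x * c * z = c⁻¹ * (x * (c * z * c⁻¹)) * c := by group
          _ = c⁻¹ * (c * z * c⁻¹ * x) * c := by rw [hx']
          _ = z * (c⁻¹ * x * c) := by group
      · rintro ⟨y, hy, rfl⟩
        refine Subgroup.mem_centralizer_singleton_iff.2 ?_
        simp only [MulEquiv.coe_toMonoidHom, MulAut.conj_apply]
        calc c * y * c⁻¹ * (c * z * c⁻¹) = c * (y * z) * c⁻¹ := by group
          _ = c * (z * y) * c⁻¹ := by rw [Subgroup.mem_centralizer_singleton_iff.1 hy]
          _ = c * z * c⁻¹ * (c * y * c⁻¹) := by group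
    rw [e, Subgroup.card_map_of_injective (MulAut.conj c).injective, hzC] at hgC
    omega
  have h := F.orth hzv hg hne
  rw [hzC, hgC, sq_vInv, sq_vBig] at h
  simp [vInv, vBig, Fin.sum_univ_four, Matrix.cons_val] at h

theorem invol_cases {t : G} (ht : orderOf t = 2) (h32 : 32 ∣ Nat.card (Subgroup.centralizer ({t} : Set G))) :
    (Nat.card (Subgroup.centralizer ({t} : Set G)) = 192 ∧ F.Vals t vInv 0) ∨
      (Nat.card (Subgroup.centralizer ({t} : Set G)) = 1440 ∧ F.Vals t vBig (-8)) := by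
  obtain ⟨h0, h1, h2, h3, hg⟩ := F.degrees
  have ht1 : t ≠ 1 := fun e => by rw [e, orderOf_one] at ht; omega
  obtain ⟨v, w, hV, hv, hw, hp⟩ := F.invol_vals ht
  set C := Nat.card (Subgroup.centralizer ({t} : Set G))
  by_contra hcon
  rw [not_or] at hcon
  have hC : C ∈ cThirtyTwo := by
    have hd : C ∣ 8640 := F.cent_dvd ht1 (by rw [ht]; norm_num)
    have key : ∀ k < 271, 32 * k ∣ 8640 → 32 * k ∈ cThirtyTwo := by decide +kernel
    obtain ⟨k, hk⟩ := h32
    rw [hk] at hd ⊢
    have := Nat.le_of_dvd (by norm_num) hd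
    exact key k (by omega) hd
  have h := F.search hV (Cs := cThirtyTwo) (m := 4) (leaf := fun C va vb vc ve w =>
    pairs5 45 54 120 144 16 va vb vc ve w va vb vc ve w == 0 &&
      !((C == 192 && isInv va vb vc ve w) || (C == 1440 && isBig va vb vc ve w))) hC hv hw (by
    rw [F.pairsNum_eq, h0, h1, h2, h3, hg] at hp
    simp only [hp, beq_self_eq_true, Bool.true_and, Bool.not_eq_true', Bool.or_eq_false_iff, Bool.and_eq_false_iff,
      beq_eq_false_iff_ne]
    refine ⟨or_iff_not_imp_left.2 fun e => ?_, or_iff_not_imp_left.2 fun e => ?_⟩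
    · rw [ne_eq, not_not] at e
      refine Bool.eq_false_iff.2 fun hi => hcon.1 ⟨e, ?_⟩
      obtain ⟨rfl, rfl⟩ := eq_vInv hi
      exact hV
    · rw [ne_eq, not_not] at e
      refine Bool.eq_false_iff.2 fun hi => hcon.2 ⟨e, ?_⟩
      obtain ⟨rfl, rfl⟩ := eq_vBig hi
      exact hV)
  rw [h0, h1, h2, h3, hg, invol_search] at h
  exact Bool.noConfusion h

theorem exists_central_invol : ∃ z : G, orderOf z = 2 ∧
    Nat.card (Subgroup.centralizer ({z} : Set G)) = 192 ∧ F.Vals z vInv 0 := by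
  haveI : Fact (Nat.Prime 2) := ⟨Nat.prime_two⟩
  obtain ⟨z, hz, h64⟩ := exists_central_elt (G := G) 2 (n := 5) (by rw [F.card]; norm_num)
  rcases F.invol_cases hz ((by norm_num : 32 ∣ 2 ^ (5 + 1)).trans h64) with h | ⟨h, -⟩
  · exact ⟨z, hz, h⟩
  · rw [h] at h64
    norm_num at h64

theorem invol_192 {t : G} (ht : orderOf t = 2) (h32 : 32 ∣ Nat.card (Subgroup.centralizer ({t} : Set G))) :
    Nat.card (Subgroup.centralizer ({t} : Set G)) = 192 ∧ F.Vals t vInv 0 := by
  obtain ⟨z, hz, hzC, hzv⟩ := F.exists_central_invol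
  rcases F.invol_cases ht h32 with h | ⟨hC, hV⟩
  · exact h
  · exact (F.big_not_conj hz hzC hzv hV hC).elim

include F in
theorem invol_conj {s t : G} (hs : orderOf s = 2) (ht : orderOf t = 2)
    (hs32 : 32 ∣ Nat.card (Subgroup.centralizer ({s} : Set G)))
    (ht32 : 32 ∣ Nat.card (Subgroup.centralizer ({t} : Set G))) : IsConj s t := by
  by_contra hne
  obtain ⟨hsC, hsV⟩ := F.invol_192 hs hs32
  obtain ⟨htC, htV⟩ := F.invol_192 ht ht32
  have h := F.orth hsV htV hne
  rw [hsC, htC, sq_vInv] at h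
  simp [vInv, Fin.sum_univ_four, Matrix.cons_val] at h

include F in
theorem cent_six {z u : G} (hz : orderOf z = 2) (hz32 : 32 ∣ Nat.card (Subgroup.centralizer ({z} : Set G)))
    (hu : orderOf u = 3) (hc : z * u = u * z) :
    Nat.card ↥(Subgroup.centralizer ({z} : Set G) ⊓ Subgroup.centralizer ({u} : Set G)) = 6 := by
  obtain ⟨h0, h1, h2, h3, hg⟩ := F.degrees
  obtain ⟨hzC, hzV⟩ := F.invol_192 hz hz32
  set L := Subgroup.centralizer ({z} : Set G) with hL
  set U := Subgroup.centralizer ({u} : Set G) with hU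
  set C := Nat.card U with hCdef
  set K := Nat.card ↥(L ⊓ U) with hKdef
  by_contra hK6
  have hu1 : u ≠ 1 := fun e => by rw [e, orderOf_one] at hu; omega
  have hcm : Commute z u := hc
  set g := z * u with hgdef
  have hog : orderOf g = 6 := by
    rw [hgdef, hcm.orderOf_mul_eq_mul_orderOf_of_coprime (by rw [hz, hu]; norm_num), hz, hu]
  have hg1 : g ≠ 1 := fun e => by rw [e, orderOf_one] at hog; omega
  have hu3 : u ^ 3 = 1 := hu ▸ pow_orderOf_eq_one u
  have hz2 : z ^ 2 = 1 := hz ▸ pow_orderOf_eq_one z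
  have g2 : g ^ 2 = u ^ 2 := by rw [hgdef, hcm.mul_pow, hz2, one_mul]
  have g3 : g ^ 3 = z := by rw [hgdef, hcm.mul_pow, hu3, mul_one, pow_succ, hz2, one_mul]
  have g4 : g ^ 4 = u := by
    rw [hgdef, hcm.mul_pow, show 4 = 3 + 1 from rfl, pow_succ u, hu3, one_mul,
      show 3 + 1 = 2 * 2 from rfl, pow_mul, hz2, one_pow, one_mul]
  have hcg : Subgroup.centralizer ({g} : Set G) = L ⊓ U := by
    ext x
    simp only [hL, hU, Subgroup.mem_inf, Subgroup.mem_centralizer_singleton_iff]
    refine ⟨fun h => ?_, fun ⟨hxz, hxu⟩ => Commute.mul_right hxz hxu⟩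
    have h' : Commute x g := h
    exact ⟨g3 ▸ (h'.pow_right 3).eq, g4 ▸ (h'.pow_right 4).eq⟩
  have h11u : ¬ 11 ∣ orderOf u := by rw [hu]; norm_num
  have h11g : ¬ 11 ∣ orderOf g := by rw [hog]; norm_num
  choose b hb using fun i => F.c_rat i u
  obtain ⟨bw, hbw⟩ := F.theta_int u h11u
  choose a ha using fun i => F.c_rat i g
  obtain ⟨aw, haw⟩ := F.theta_int g h11g
  have hVu : F.Vals u b bw := ⟨h11u, hb, hbw⟩
  have hVg : F.Vals g a aw := ⟨h11g, ha, haw⟩
  have hC : C ∈ cEighteen := by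
    have hd : C ∣ 8640 := F.cent_dvd hu1 h11u
    have h9 : 9 ∣ C := nine_dvd_cent F.card hu
    have h2' : 2 ∣ C := hz ▸ U.orderOf_dvd_natCard (Subgroup.mem_centralizer_singleton_iff.2 hc)
    have key : ∀ k < 481, 18 * k ∣ 8640 → 18 * k ∈ cEighteen := by decide +kernel
    obtain ⟨k, hk⟩ : 18 ∣ C := by omega
    rw [hk] at hd ⊢
    have := Nat.le_of_dvd (by norm_num) hd
    exact key k (by omega) hd
  have hK : K ∈ cSix C := by
    have hKC : K ∣ C := Subgroup.card_dvd_of_le inf_le_right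
    have hKL : K ∣ 192 := hzC ▸ Subgroup.card_dvd_of_le inf_le_left
    have h6 : 6 ∣ K := by
      have h := Subgroup.orderOf_dvd_natCard _ (hcg ▸ Subgroup.mem_centralizer_singleton_iff.2 rfl : g ∈ L ⊓ U)
      rwa [hog] at h
    have key : ∀ k < 33, 6 * k ∣ 192 → 6 * k ≠ 6 → 6 * k ∈ ([12, 24, 48, 96, 192] : List ℕ) := by decide +kernel
    obtain ⟨k, hk⟩ := h6
    refine List.mem_filter.2 ⟨?_, by simpa using Nat.mod_eq_zero_of_dvd hKC⟩
    rw [hk] at hKL ⊢
    have := Nat.le_of_dvd (by norm_num) hKL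
    exact key k (by omega) hKL (fun e => hK6 (hk.trans e))
  have hu2 : ∀ i, (F.c i : G → ℂ) (g ^ 2) = b i := fun i => by
    rw [g2, eq_inv_of_mul_eq_one_left (show u ^ 2 * u = 1 by rw [← pow_succ]; exact hu3),
      char_inv (irr_isCharacter (F.c i).2), hb, map_intCast]
  have hθ2 : (F.θ : G → ℂ) (g ^ 2) = bw := by
    rw [g2, eq_inv_of_mul_eq_one_left (show u ^ 2 * u = 1 by rw [← pow_succ]; exact hu3),
      char_inv (irr_isCharacter F.θ.2), hbw, map_intCast]
  have hnb : C = 1440 → isBig (b 0) (b 1) (b 2) (b 3) bw = false := fun e => Bool.eq_false_iff.2 fun hi => by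
    obtain ⟨rfl, rfl⟩ := eq_vBig hi
    exact F.big_not_conj hz hzC hzV hVu e
  obtain ⟨hp0, hpd, -⟩ := F.pairs hVu hVu
  obtain ⟨hq0, hqd, -⟩ := F.pairs hzV hVu
  rw [F.pairsNum_eq, h0, h1, h2, h3, hg] at hp0 hpd hq0 hqd
  rw [Nat.cast_mul] at hpd hqd
  rw [hzC] at hqd
  have hinner : search5 (cSix C) 1 (F.d 0) (F.d 1) (F.d 2) (F.d 3) F.g0 (fun _ va vb vc ve w =>
      six4 45 va (b 0) (-3) && (six4 54 vb (b 1) 6 && (six4 120 vc (b 2) (-8) &&
        (six4 144 ve (b 3) 0 && six4 16 w bw 0)))) = true := by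
    refine F.search hVg (hcg ▸ hK) (fun i => F.mem_rng_val (F.c_ne i) hg1 (ha i) (one_dvd _))
      (F.mem_rng_val F.θ_ne hg1 haw (one_dvd _)) ?_
    have s := fun i => F.six4_d i hog (ha i) (hu2 i) (g3.symm ▸ hzV.2.1 i)
    have sθ : six4 F.g0 aw bw 0 = true := mult_six hog haw hθ2 (g3.symm ▸ hzV.2.2)
    have s0 := s 0; have s1 := s 1; have s2 := s 2; have s3 := s 3
    rw [h0] at s0; rw [h1] at s1; rw [h2] at s2; rw [h3] at s3; rw [hg] at sθ
    simp only [vInv, Matrix.cons_val_zero, Matrix.cons_val_one, Matrix.cons_val] at s0 s1 s2 s3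
    simp [s0, s1, s2, s3, sθ]
  rw [h0, h1, h2, h3, hg] at hinner
  have h := F.search hVu (Cs := cEighteen) (m := 3) (leaf := fun C ub uc ud ue uw =>
    (decide (0 ≤ pairs5 45 54 120 144 16 ub uc ud ue uw ub uc ud ue uw) &&
      (pairs5 45 54 120 144 16 ub uc ud ue uw ub uc ud ue uw % ((C : ℤ) * C) == 0)) &&
    ((decide (0 ≤ pairs5 45 54 120 144 16 (-3) 6 (-8) 0 0 ub uc ud ue uw) &&
      (pairs5 45 54 120 144 16 (-3) 6 (-8) 0 0 ub uc ud ue uw % ((192 : ℤ) * C) == 0)) &&
    (!(C == 1440 && isBig ub uc ud ue uw) &&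
    search5 (cSix C) 1 45 54 120 144 16 (fun _ va vb vc ve w =>
      six4 45 va ub (-3) && (six4 54 vb uc 6 && (six4 120 vc ud (-8) && (six4 144 ve ue 0 && six4 16 w uw 0))))))) hC
    (fun i => F.mem_rng_val (F.c_ne i) hu1 (hb i) (mod_three hu (hb i)))
    (F.mem_rng_val F.θ_ne hu1 hbw (mod_three hu hbw)) (by
      simp only [vInv, Matrix.cons_val_zero, Matrix.cons_val_one, Matrix.cons_val] at hq0 hqd
      simp only [Bool.and_eq_true, decide_eq_true_eq, beq_iff_eq]
      refine ⟨⟨hp0, Int.emod_eq_zero_of_dvd hpd⟩, ⟨hq0, Int.emod_eq_zero_of_dvd (by exact_mod_cast hqd)⟩, ?_,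
        hinner⟩
      by_cases e : C = 1440
      · simp [hnb e]
      · have e' : Nat.card (Subgroup.centralizer ({u} : Set G)) ≠ 1440 := e
        simp [e'])
  rw [h0, h1, h2, h3, hg, three_search] at h
  exact Bool.noConfusion h

end Front

end Cfsg.Agent.MTwelve.OrderFront
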