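import Cfsg.Agent.Lib.Spor.MTwelve.OrderFront.Generic
import Cfsg.Prelude

/-!
The centraliser of a central involution as an extension of a group of order thirty-two by the symmetric group of
degree three, from the numerical facts on centralisers.
-/

set_option autoImplicit false

namespace Cfsg.Agent.MTwelve.OrderFront

universe u

/-- The facts on centralisers used in the local analysis. -/
structure LocalHyp (G : Type u) [Group G] : Prop where
  card : Nat.card G = 95040
  h1 : ∀ t : G, orderOf t = 2 → 32 ∣ Nat.card (Subgroup.centralizer ({t} : Set G)) →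
    Nat.card (Subgroup.centralizer ({t} : Set G)) = 192
  h2 : ∀ s t : G, orderOf s = 2 → orderOf t = 2 → Nat.card (Subgroup.centralizer ({s} : Set G)) = 192 →
    Nat.card (Subgroup.centralizer ({t} : Set G)) = 192 → IsConj s t
  h3 : ∀ z v : G, orderOf z = 2 → Nat.card (Subgroup.centralizer ({z} : Set G)) = 192 → orderOf v = 3 →
    z * v = v * z → Nat.card ↥(Subgroup.centralizer ({z} : Set G) ⊓ Subgroup.centralizer ({v} : Set G)) = 6

/-- A central involution with a map of its centraliser onto the symmetric group of degree three. -/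
structure Core {G : Type u} [Group G] (z : G) where
  order : orderOf z = 2
  card_cent : Nat.card (Subgroup.centralizer ({z} : Set G)) = 192
  /-- the map onto the symmetric group -/
  π : ↥(Subgroup.centralizer ({z} : Set G)) →* Equiv.Perm (Fin 3)
  surj : Function.Surjective π

variable {G : Type u} [Group G] [Finite G]

theorem perm_three_central : ∀ a : Equiv.Perm (Fin 3), (∀ b, a * b = b * a) → a = 1 := by decide

theorem perm_three_comm : ∀ a : Equiv.Perm (Fin 3), ∀ b : Equiv.Perm (Fin 3), a * a = 1 → a ≠ 1 →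
    b * b * b = 1 → b ≠ 1 → a * b * a⁻¹ * b⁻¹ ≠ 1 := by decide

theorem perm_three_sq : ∀ a : Equiv.Perm (Fin 3), a ^ 64 = 1 → a * a = 1 := by decide +kernel

theorem pow_three_mod (a : G) (h : a ^ 192 = 1) : (a ^ 3) ^ 64 = 1 := by rw [← pow_mul]; exact h

namespace LocalHyp

variable (hyp : LocalHyp G)

include hyp in
theorem not_normal_sylow {z : G} (hz : orderOf z = 2)
    (hC : Nat.card (Subgroup.centralizer ({z} : Set G)) = 192)
    (T : Subgroup G) (hT : T ≤ Subgroup.centralizer ({z} : Set G))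
    (hnT : ∀ g ∈ Subgroup.centralizer ({z} : Set G), ∀ a ∈ T, g * a * g⁻¹ ∈ T) : Nat.card T ≠ 64 := by
  intro h64
  haveI : Fact (Nat.Prime 3) := ⟨Nat.prime_three⟩
  obtain ⟨v, hv⟩ := exists_prime_orderOf_dvd_card' (G := Subgroup.centralizer ({z} : Set G)) 3
    (by rw [hC]; norm_num)
  have hv' : orderOf (v : G) = 3 := by rw [Subgroup.orderOf_coe, hv]
  have hvz : (v : G) * z = z * v := Subgroup.mem_centralizer_singleton_iff.1 v.2
  have h6 := hyp.h3 z v hz hC hv' hvz.symm
  have hmod := modEq_cent (p := 3) (k := 1) (x := (v : G)) (by rw [pow_one, ← hv', pow_orderOf_eq_one]) T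
    (fun a ha => hnT v v.2 a ha)
  have hle : T ⊓ Subgroup.centralizer ({(v : G)} : Set G) ≤
      Subgroup.centralizer ({z} : Set G) ⊓ Subgroup.centralizer ({(v : G)} : Set G) := inf_le_inf_right _ hT
  have hd6 := Subgroup.card_dvd_of_le hle
  have hd64 := Subgroup.card_dvd_of_le (inf_le_left : T ⊓ Subgroup.centralizer ({(v : G)} : Set G) ≤ T)
  rw [h6] at hd6
  rw [h64] at hd64 hmod
  have h2 : Nat.card ↥(T ⊓ Subgroup.centralizer ({(v : G)} : Set G)) ∣ 2 := by
    simpa using Nat.dvd_gcd hd6 hd64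
  rcases (Nat.dvd_prime Nat.prime_two).1 h2 with h | h
  · -- the involution itself is a fixed point
    haveI : Fact (Nat.Prime 2) := ⟨Nat.prime_two⟩
    obtain ⟨S, hS⟩ := (IsPGroup.of_card (n := 1) (by rw [Nat.card_zpowers, Subgroup.orderOf_mk, hz, pow_one]) :
      IsPGroup 2 (Subgroup.zpowers (⟨z, Subgroup.mem_centralizer_singleton_iff.2 rfl⟩ :
        Subgroup.centralizer ({z} : Set G)))).exists_le_sylow
    have hSc : Nat.card S = 64 := by
      rw [S.card_eq_multiplicity, hC, show (192 : ℕ) = 2 ^ 6 * 3 from rfl,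
        Nat.factorization_mul (by norm_num) (by norm_num), Nat.factorization_pow, Finsupp.add_apply,
        Finsupp.smul_apply, Nat.prime_two.factorization_self,
        Nat.factorization_eq_zero_of_not_dvd (by norm_num : ¬ 2 ∣ 3)]
      rfl
    haveI : (T.subgroupOf (Subgroup.centralizer ({z} : Set G))).Normal := ⟨fun a ha g => hnT g g.2 a ha⟩
    have hTp : IsPGroup 2 (T.subgroupOf (Subgroup.centralizer ({z} : Set G))) := IsPGroup.of_card (n := 6) (by
      rw [Nat.card_congr (Subgroup.subgroupOfEquivOfLe hT).toEquiv, h64]; norm_num)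
    have hTS : T.subgroupOf (Subgroup.centralizer ({z} : Set G)) = (S : Subgroup _) := by
      refine Subgroup.eq_of_le_of_card_ge
        (le_sup_left.trans (S.is_maximal' (IsPGroup.to_sup_of_normal_left hTp S.isPGroup') le_sup_right).le) ?_
      rw [Nat.card_congr (Subgroup.subgroupOfEquivOfLe hT).toEquiv, h64, hSc]
    have hzT : z ∈ T := by
      have := hS (Subgroup.mem_zpowers _)
      rw [← hTS] at this
      exact this
    have hmem : z ∈ T ⊓ Subgroup.centralizer ({(v : G)} : Set G) :=
      ⟨hzT, Subgroup.mem_centralizer_singleton_iff.2 hvz.symm⟩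
    rw [Subgroup.card_eq_one.1 h, Subgroup.mem_bot] at hmem
    rw [hmem, orderOf_one] at hz
    omega
  · rw [h] at hmod
    exact absurd hmod (by decide)

include hyp in
theorem exists_core {z : G} (hz : orderOf z = 2)
    (h32 : 32 ∣ Nat.card (Subgroup.centralizer ({z} : Set G))) : Nonempty (Core z) := by
  classical
  haveI : Fact (Nat.Prime 2) := ⟨Nat.prime_two⟩
  have hC := hyp.h1 z hz h32
  set L := Subgroup.centralizer ({z} : Set G)
  obtain ⟨P⟩ := (Sylow.nonempty : Nonempty (Sylow 2 L))
  have hPc : Nat.card P = 64 := by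
    rw [P.card_eq_multiplicity, hC, show (192 : ℕ) = 2 ^ 6 * 3 from rfl,
      Nat.factorization_mul (by norm_num) (by norm_num), Nat.factorization_pow, Finsupp.add_apply,
      Finsupp.smul_apply, Nat.prime_two.factorization_self,
      Nat.factorization_eq_zero_of_not_dvd (by norm_num : ¬ 2 ∣ 3)]
    rfl
  have hn : Nat.card (Sylow 2 L) = 3 := by
    have hd : Nat.card (Sylow 2 L) ∣ 3 := by
      have h := P.card_dvd_index
      have h2 := Subgroup.card_mul_index (P : Subgroup L)
      rw [hC, show Nat.card (P : Subgroup L) = 64 from hPc] at h2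
      rwa [show (P : Subgroup L).index = 3 by omega] at h
    rcases (Nat.dvd_prime Nat.prime_three).1 hd with h | h
    · exfalso
      haveI : Subsingleton (Sylow 2 L) := (Nat.card_eq_one_iff_unique.1 h).1
      haveI : (P : Subgroup L).Normal := P.normal_of_subsingleton
      refine hyp.not_normal_sylow hz hC ((P : Subgroup L).map L.subtype) (Subgroup.map_subtype_le _) ?_
        (by rw [Subgroup.card_map_of_injective L.subtype_injective]; exact hPc)
      rintro g hg _ ⟨a, ha, rfl⟩
      exact ⟨⟨g, hg⟩ * a * ⟨g, hg⟩⁻¹, Subgroup.Normal.conj_mem inferInstance a ha _, rfl⟩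
    · exact h
  let e : Sylow 2 L ≃ Fin 3 := (Finite.equivFinOfCardEq hn)
  obtain ⟨π, hK⟩ : ∃ π : L →* Equiv.Perm (Fin 3), ∀ g : L, π g = 1 → ∀ S : Sylow 2 L, g • S = S := by
    refine ⟨e.permCongrHom.toMonoidHom.comp (MulAction.toPermHom L (Sylow 2 L)), fun g hg S => ?_⟩
    have h := congrArg (fun q : Equiv.Perm (Fin 3) => e.symm (q (e S))) hg
    simpa [Equiv.permCongrHom, Equiv.permCongr_apply] using h
  refine ⟨⟨hz, hC, π, ?_⟩⟩
  -- the image is transitive, and not of order three
  have htr : 3 ∣ Nat.card π.range := by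
    obtain ⟨S, hS⟩ : ∃ S : Sylow 2 L, S ≠ P := by
      by_contra h
      push Not at h
      haveI : Subsingleton (Sylow 2 L) := ⟨fun a b => (h a).trans (h b).symm⟩
      have := Finite.card_le_one_iff_subsingleton.2 (inferInstance : Subsingleton (Sylow 2 L))
      omega
    have horb : MulAction.orbit L P = Set.univ := MulAction.orbit_eq_univ L P
    have h1 : (MulAction.stabilizer L P).index = 3 := by
      rw [MulAction.index_stabilizer, horb, Set.ncard_univ, hn]
    have h2 : π.ker ≤ MulAction.stabilizer L P := fun g hg => hK g hg P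
    rw [← Subgroup.index_ker]
    have h4 := Subgroup.index_dvd_of_le h2
    rwa [h1] at h4
  have hd6 : Nat.card π.range ∣ 6 := by
    have h := Subgroup.card_subgroup_dvd_card π.range
    rwa [Nat.card_perm, Nat.card_fin] at h
  have hne3 : Nat.card π.range ≠ 3 := by
    intro h3
    have hmul := Subgroup.card_mul_index π.ker
    rw [Subgroup.index_ker, h3, hC] at hmul
    refine hyp.not_normal_sylow hz hC (π.ker.map L.subtype) (Subgroup.map_subtype_le _) ?_
      (by rw [Subgroup.card_map_of_injective L.subtype_injective]; omega)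
    rintro g hg _ ⟨a, ha, rfl⟩
    exact ⟨⟨g, hg⟩ * a * ⟨g, hg⟩⁻¹, Subgroup.Normal.conj_mem (MonoidHom.normal_ker π) a ha _, rfl⟩
  have h6 : Nat.card π.range = 6 := by
    have := Nat.le_of_dvd (by norm_num) hd6
    interval_cases h : Nat.card π.range <;> omega
  exact MonoidHom.range_eq_top.1 (Subgroup.eq_top_of_card_eq _ (by rw [h6, Nat.card_perm, Nat.card_fin]; rfl))

end LocalHyp

namespace Core

variable {z : G} (K : Core z)

/-- the two-core -/
def Q : Subgroup G := K.π.ker.map (Subgroup.centralizer ({z} : Set G)).subtype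

omit [Finite G] in
theorem mem_Q {q : G} : q ∈ K.Q ↔ ∃ h : q ∈ Subgroup.centralizer ({z} : Set G), K.π ⟨q, h⟩ = 1 :=
  ⟨by rintro ⟨a, ha, rfl⟩; exact ⟨a.2, ha⟩, fun ⟨h, hq⟩ => ⟨⟨q, h⟩, hq, rfl⟩⟩

omit [Finite G] in
theorem Q_le : K.Q ≤ Subgroup.centralizer ({z} : Set G) := Subgroup.map_subtype_le _

theorem card_ker : Nat.card K.π.ker = 32 := by
  have h := Subgroup.card_mul_index K.π.ker
  rw [Subgroup.index_ker, K.card_cent, MonoidHom.range_eq_top.2 K.surj, Subgroup.card_top, Nat.card_perm,
    Nat.card_fin, show Nat.factorial 3 = 6 from rfl] at h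
  omega

theorem card_Q : Nat.card K.Q = 32 := by
  rw [Q, Subgroup.card_map_of_injective (Subgroup.subtype_injective _)]; exact K.card_ker

omit [Finite G] in
theorem comm_z {q : G} (hq : q ∈ K.Q) : q * z = z * q :=
  Subgroup.mem_centralizer_singleton_iff.1 (K.Q_le hq)

omit [Finite G] in
theorem z_mem : z ∈ K.Q := by
  refine K.mem_Q.2 ⟨Subgroup.mem_centralizer_singleton_iff.2 rfl, perm_three_central _ fun b => ?_⟩
  obtain ⟨g, rfl⟩ := K.surj b
  rw [← map_mul, ← map_mul]
  exact congrArg _ (Subtype.ext (Subgroup.mem_centralizer_singleton_iff.1 g.2).symm)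

omit [Finite G] in
theorem conj_mem {g : G} (hg : g ∈ Subgroup.centralizer ({z} : Set G)) {q : G} (hq : q ∈ K.Q) :
    g * q * g⁻¹ ∈ K.Q := by
  obtain ⟨a, ha, rfl⟩ := hq
  exact ⟨⟨g, hg⟩ * a * ⟨g, hg⟩⁻¹, Subgroup.Normal.conj_mem inferInstance a ha _, rfl⟩

theorem pCore_eq : Cfsg.pCore 2 ↥(Subgroup.centralizer ({z} : Set G)) = K.π.ker := by
  refine le_antisymm (sSup_le ?_) (le_sSup ⟨inferInstance, IsPGroup.of_card (n := 5) (by rw [K.card_ker]; norm_num)⟩)
  rintro N ⟨hN, hp⟩
  intro n hn
  rw [MonoidHom.mem_ker]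
  have hnorm : (N.map K.π).Normal := Subgroup.Normal.map hN _ K.surj
  have hp' : IsPGroup 2 (N.map K.π) := hp.map _
  obtain ⟨k, hk⟩ := hp'.exists_card_eq
  have hd : Nat.card (N.map K.π) ∣ 6 := by
    have h := Subgroup.card_subgroup_dvd_card (N.map K.π)
    rwa [Nat.card_perm, Nat.card_fin] at h
  have hk1 : k ≤ 1 := by
    by_contra h
    have h4 : 4 ∣ Nat.card (N.map K.π) := hk ▸ (show 2 ^ 2 ∣ 2 ^ k from pow_dvd_pow 2 (by omega))
    have := h4.trans hd
    omega
  refine perm_three_central _ fun b => ?_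
  set a := K.π n with ha
  have hmem : a ∈ N.map K.π := Subgroup.mem_map_of_mem _ hn
  have hconj : b * a * b⁻¹ ∈ N.map K.π := hnorm.conj_mem a hmem b
  interval_cases k
  · rw [Subgroup.card_eq_one.1 hk, Subgroup.mem_bot] at hmem
    rw [hmem, one_mul, mul_one]
  · obtain ⟨w, hw, huniq⟩ := (Nat.card_eq_two_iff' (1 : N.map K.π)).1 hk
    by_cases e : a = 1
    · rw [e, one_mul, mul_one]
    · have e' : b * a * b⁻¹ ≠ 1 := fun h => e (by simpa using h)
      have h1 := huniq ⟨a, hmem⟩ (fun h => e (congrArg Subtype.val h))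
      have h2 := huniq ⟨b * a * b⁻¹, hconj⟩ (fun h => e' (congrArg Subtype.val h))
      exact (mul_inv_eq_iff_eq_mul.1 (congrArg Subtype.val (h2.trans h1.symm))).symm

/-- transport along conjugation -/
def conj (g : G) : Core (g * z * g⁻¹) where
  order := by
    rw [← K.order, ← MulAut.conj_apply, ← MulEquiv.coe_toMonoidHom, orderOf_injective _ (MulAut.conj g).injective]
  card_cent := by
    rw [← K.card_cent]
    exact Nat.card_congr
      { toFun := fun x => ⟨g⁻¹ * x * g, Subgroup.mem_centralizer_singleton_iff.2 (by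
          have h := Subgroup.mem_centralizer_singleton_iff.1 x.2
          calc g⁻¹ * (x : G) * g * z = g⁻¹ * ((x : G) * (g * z * g⁻¹)) * g := by group
            _ = g⁻¹ * (g * z * g⁻¹ * x) * g := by rw [h]
            _ = z * (g⁻¹ * x * g) := by group)⟩
        invFun := fun y => ⟨g * y * g⁻¹, Subgroup.mem_centralizer_singleton_iff.2 (by
          calc g * (y : G) * g⁻¹ * (g * z * g⁻¹) = g * ((y : G) * z) * g⁻¹ := by group
            _ = g * (z * y) * g⁻¹ := by rw [Subgroup.mem_centralizer_singleton_iff.1 y.2]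
            _ = g * z * g⁻¹ * (g * y * g⁻¹) := by group)⟩
        left_inv := fun x => Subtype.ext (by simp [mul_assoc])
        right_inv := fun y => Subtype.ext (by simp [mul_assoc]) }
  π :=
    { toFun := fun x => K.π ⟨g⁻¹ * x * g, Subgroup.mem_centralizer_singleton_iff.2 (by
          have h := Subgroup.mem_centralizer_singleton_iff.1 x.2
          calc g⁻¹ * (x : G) * g * z = g⁻¹ * ((x : G) * (g * z * g⁻¹)) * g := by group
            _ = g⁻¹ * (g * z * g⁻¹ * x) * g := by rw [h]
            _ = z * (g⁻¹ * x * g) := by group)⟩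
      map_one' := by
        rw [← map_one K.π]
        exact congrArg _ (Subtype.ext (by simp))
      map_mul' := fun a b => by
        rw [← map_mul K.π]
        exact congrArg _ (Subtype.ext (by simp [mul_assoc])) }
  surj := fun b => by
    obtain ⟨y, rfl⟩ := K.surj b
    refine ⟨⟨g * y * g⁻¹, Subgroup.mem_centralizer_singleton_iff.2 (by
      calc g * (y : G) * g⁻¹ * (g * z * g⁻¹) = g * ((y : G) * z) * g⁻¹ := by group
        _ = g * (z * y) * g⁻¹ := by rw [Subgroup.mem_centralizer_singleton_iff.1 y.2]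
        _ = g * z * g⁻¹ * (g * y * g⁻¹) := by group)⟩, congrArg K.π (Subtype.ext (by simp [mul_assoc]))⟩

omit [Finite G] in
theorem mem_conj_Q {g x : G} : x ∈ (K.conj g).Q ↔ g⁻¹ * x * g ∈ K.Q :=
  (K.conj g).mem_Q.trans ⟨fun ⟨_, h⟩ => K.mem_Q.2 ⟨_, h⟩, fun h => by
    obtain ⟨hm, hq⟩ := K.mem_Q.1 h
    refine ⟨Subgroup.mem_centralizer_singleton_iff.2 ?_, hq⟩
    have hc := Subgroup.mem_centralizer_singleton_iff.1 hm
    calc x * (g * z * g⁻¹) = g * (g⁻¹ * x * g * z) * g⁻¹ := by group
      _ = g * (z * (g⁻¹ * x * g)) * g⁻¹ := by rw [hc]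
      _ = g * z * g⁻¹ * x := by group⟩

/-- every element of order three of the centraliser has a centraliser of order six in it -/
def Six (_K : Core z) : Prop := ∀ v : G, orderOf v = 3 → v * z = z * v →
  Nat.card ↥(Subgroup.centralizer ({z} : Set G) ⊓ Subgroup.centralizer ({v} : Set G)) = 6

variable (hyp : K.Six)

include hyp in
/-- an element of order three fixes only two elements of the two-core -/
theorem fix {v : G} (hv : orderOf v = 3) (hvz : v * z = z * v) {q : G} (hq : q ∈ K.Q) (hc : q * v = v * q) :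
    q = 1 ∨ q = z := by
  set C := Subgroup.centralizer ({v} : Set G)
  have h6 : Nat.card ↥(Subgroup.centralizer ({z} : Set G) ⊓ C) = 6 :=
    hyp v hv hvz
  have h2 : Nat.card ↥(K.Q ⊓ C) ∣ 2 := by
    have hd6 := h6 ▸ Subgroup.card_dvd_of_le (inf_le_inf_right C K.Q_le)
    have hd32 := K.card_Q ▸ Subgroup.card_dvd_of_le (inf_le_left : K.Q ⊓ C ≤ K.Q)
    simpa using Nat.dvd_gcd hd6 hd32
  have hzm : z ∈ K.Q ⊓ C := ⟨K.z_mem, Subgroup.mem_centralizer_singleton_iff.2 hvz.symm⟩
  have hz1 : z ≠ 1 := fun e => by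
    have := K.order
    rw [e, orderOf_one] at this
    omega
  rcases (Nat.dvd_prime Nat.prime_two).1 h2 with h | h
  · rw [Subgroup.card_eq_one.1 h, Subgroup.mem_bot] at hzm
    exact absurd hzm hz1
  · by_contra hcon
    rw [not_or] at hcon
    obtain ⟨w, -, huniq⟩ := (Nat.card_eq_two_iff' (1 : ↥(K.Q ⊓ C))).1 h
    exact hcon.2 (congrArg Subtype.val ((huniq ⟨q, hq, Subgroup.mem_centralizer_singleton_iff.2 hc⟩
      fun e => hcon.1 (congrArg Subtype.val e)).trans
      (huniq ⟨z, hzm⟩ fun e => hz1 (congrArg Subtype.val e)).symm))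

/-- Elements inverting an element of order three. -/
structure Pair (K : Core z) (v t : G) : Prop where
  order : orderOf v = 3
  v_mem : v ∈ Subgroup.centralizer ({z} : Set G)
  t_mem : t ∈ Subgroup.centralizer ({z} : Set G)
  pow : t ^ 64 = 1
  not_mem : t ∉ K.Q
  inv : t * v * t⁻¹ = v⁻¹

include hyp in
theorem v_not_mem {v : G} (hv : orderOf v = 3) : v ∉ K.Q := fun h => by
  have h3 := K.Q.orderOf_dvd_natCard h
  rw [K.card_Q, hv] at h3
  omega

include hyp in
theorem exists_pair : ∃ v t : G, K.Pair v t := by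
  classical
  haveI : Fact (Nat.Prime 3) := ⟨Nat.prime_three⟩
  set L := Subgroup.centralizer ({z} : Set G) with hLdef
  obtain ⟨v, hv⟩ := exists_prime_orderOf_dvd_card' (G := L) 3 (by rw [K.card_cent]; norm_num)
  have hvG : orderOf (v : G) = 3 := by rw [Subgroup.orderOf_coe, hv]
  have hpc : Nat.card (Subgroup.zpowers v) = 3 := by rw [Nat.card_zpowers, hv]
  have hfac : (Nat.card L).factorization 3 = 1 := by
    rw [K.card_cent, show (192 : ℕ) = 64 * 3 from rfl, Nat.factorization_mul (by norm_num) (by norm_num),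
      Finsupp.add_apply, Nat.prime_three.factorization_self,
      Nat.factorization_eq_zero_of_not_dvd (by norm_num : ¬ 3 ∣ 64)]
  obtain ⟨T, hT⟩ := (IsPGroup.of_card (n := 1) (by rw [hpc, pow_one]) : IsPGroup 3 (Subgroup.zpowers v)).exists_le_sylow
  have hTeq : Subgroup.zpowers v = (T : Subgroup L) := Subgroup.eq_of_le_of_card_ge hT
    (by rw [T.card_eq_multiplicity, hfac, pow_one, hpc])
  set N := Subgroup.normalizer ((T : Subgroup L) : Set L)
  obtain ⟨m, hmN, hmv⟩ : ∃ m ∈ N, m * v ≠ v * m := by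
    by_contra h
    push Not at h
    have hNC : N ≤ Subgroup.centralizer ({v} : Set L) := fun m hm =>
      Subgroup.mem_centralizer_singleton_iff.2 (h m hm)
    have hCd : Nat.card (Subgroup.centralizer ({v} : Set L)) ∣ 6 := by
      have e : Nat.card ↥((Subgroup.centralizer ({v} : Set L)).map L.subtype) =
          Nat.card (Subgroup.centralizer ({v} : Set L)) := Subgroup.card_map_of_injective L.subtype_injective
      rw [← hyp v hvG (Subgroup.mem_centralizer_singleton_iff.1 v.2), ← e]
      refine Subgroup.card_dvd_of_le ?_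
      rintro _ ⟨a, ha, rfl⟩
      exact ⟨a.2, Subgroup.mem_centralizer_singleton_iff.2
        (congrArg Subtype.val (Subgroup.mem_centralizer_singleton_iff.1 ha))⟩
    have hzL : z ∈ L := Subgroup.mem_centralizer_singleton_iff.2 rfl
    have hzN : (⟨z, hzL⟩ : L) ∈ N := Subgroup.centralizer_le_normalizer _ (Subgroup.mem_centralizer_iff.2
      fun a _ => Subtype.ext (Subgroup.mem_centralizer_singleton_iff.1 a.2))
    have h2 : 2 ∣ Nat.card N := by
      have := N.orderOf_dvd_natCard hzN
      rwa [Subgroup.orderOf_mk, K.order] at this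
    have h3 : 3 ∣ Nat.card N := by
      have := N.orderOf_dvd_natCard (Subgroup.le_normalizer (hT (Subgroup.mem_zpowers v)))
      rwa [hv] at this
    have hN6 : Nat.card N = 6 := by
      have hd := (Subgroup.card_dvd_of_le hNC).trans hCd
      have := Nat.le_of_dvd (by norm_num) hd
      interval_cases h : Nat.card N <;> omega
    have hmul := Subgroup.card_mul_index N
    rw [hN6, K.card_cent] at hmul
    have hcs : Nat.card (Sylow 3 L) = N.index := T.card_eq_index_normalizer
    have hmod := card_sylow_modEq_one 3 L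
    rw [show Nat.card (Sylow 3 L) = 32 by omega] at hmod
    exact absurd hmod (by decide)
  have hconj : m * v * m⁻¹ = v⁻¹ := by
    have hmem : m * v * m⁻¹ ∈ Subgroup.zpowers v := by
      rw [hTeq]
      exact (Subgroup.mem_normalizer_iff.1 hmN v).1 (hT (Subgroup.mem_zpowers v))
    obtain ⟨k, hk, hk'⟩ : ∃ k < 3, v ^ k = m * v * m⁻¹ := by
      obtain ⟨k, hk⟩ := (isOfFinOrder_of_finite v).mem_powers_iff_mem_zpowers.2 hmem
      exact ⟨k % 3, Nat.mod_lt _ (by norm_num), by rw [← hv, pow_mod_orderOf]; exact hk⟩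
    interval_cases k
    · rw [pow_zero, eq_comm, mul_inv_eq_one, mul_eq_left] at hk'
      rw [hk', orderOf_one] at hv
      omega
    · rw [pow_one] at hk'
      exact absurd (mul_inv_eq_iff_eq_mul.1 hk'.symm) hmv
    · rw [← hk']
      refine eq_inv_of_mul_eq_one_left ?_
      rw [← pow_succ]
      show v ^ 3 = 1
      exact hv ▸ pow_orderOf_eq_one v
  have h3 : m ^ 3 * v * (m ^ 3)⁻¹ = v⁻¹ := by
    have e : m * v⁻¹ * m⁻¹ = v := by
      calc m * v⁻¹ * m⁻¹ = (m * v * m⁻¹)⁻¹ := by group
        _ = v := by rw [hconj, inv_inv]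
    calc m ^ 3 * v * (m ^ 3)⁻¹ = m * (m * (m * v * m⁻¹) * m⁻¹) * m⁻¹ := by
          simp [pow_succ, mul_assoc]
      _ = v⁻¹ := by rw [hconj, e, hconj]
  refine ⟨v, ((m ^ 3 : L) : G), hvG, v.2, (m ^ 3).2, ?_, fun hQ => ?_, by exact_mod_cast congrArg Subtype.val h3⟩
  · have h192 : m ^ 192 = 1 := K.card_cent ▸ pow_card_eq_one'
    exact_mod_cast congrArg Subtype.val (pow_three_mod m h192)
  · -- otherwise the element of order three lies in the two-core
    have e : (v : G) = (m ^ 3 : L) * ((v : G) * ((m ^ 3 : L) : G)⁻¹ * (v : G)⁻¹) := by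
      have h := congrArg Subtype.val h3
      push_cast at h ⊢
      calc (v : G) = ((v : G)⁻¹) * (v : G)⁻¹ := by
            rw [← mul_inv_rev, eq_inv_iff_mul_eq_one, ← mul_assoc, ← pow_three', ← hvG, pow_orderOf_eq_one]
        _ = (m : G) ^ 3 * v * ((m : G) ^ 3)⁻¹ * (v : G)⁻¹ := by rw [h]
        _ = _ := by simp [mul_assoc]
    exact K.v_not_mem hyp hvG (e ▸ mul_mem hQ (K.conj_mem v.2 (inv_mem hQ)))

theorem six_of_local {G : Type u} [Group G] [Finite G] {z : G} (K : Core z) (h : LocalHyp G) : K.Six :=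
  fun v hv hc => h.h3 z v K.order K.card_cent hv hc.symm

end Core

end Cfsg.Agent.MTwelve.OrderFront
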