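import Cfsg.Agent.Lib.Spor.MTwelve.OrderFront.Block
import Cfsg.Agent.Lib.Char.OrderJankoBase

/-!
A simple group of the order of the Mathieu group of degree twelve has a self-centralising Sylow subgroup of order
eleven, with automiser of order five.
-/

set_option autoImplicit false
set_option linter.style.haveILetI false

namespace Cfsg.Agent.MTwelve.OrderFront

open Cfsg Cfsg.Agent.Char Cfsg.Agent.Small.Order459648 Cfsg.Agent.Char.PrimeSylowCount Cfsg.Agent.Char.OrderJanko

universe u

variable {G : Type u} [Group G]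

section Finite

variable [Finite G]

local instance fact_eleven : Fact (Nat.Prime 11) := ⟨by norm_num⟩

theorem cent_twelve [IsSimpleGroup G] (P : Sylow 11 G) (hP : Nat.card P = 11)
    (hn : Nat.card (Sylow 11 G) = 12) : centCard 11 P ≤ 11 := by
  classical
  haveI := Fintype.ofFinite (Sylow 11 G)
  have hne : ∃ Q : Sylow 11 G, Q ≠ P := by
    by_contra hcon
    push Not at hcon
    haveI : Subsingleton (Sylow 11 G) := ⟨fun a b => (hcon a).trans (hcon b).symm⟩
    have := Finite.card_le_one_iff_subsingleton.2 (inferInstance : Subsingleton (Sylow 11 G))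
    omega
  obtain ⟨Q, hQ⟩ := hne
  have hker : (MulAction.toPermHom G (Sylow 11 G)).ker = ⊥ := by
    refine (IsSimpleGroup.eq_bot_or_eq_top_of_normal _ inferInstance).resolve_right fun h => hQ ?_
    obtain ⟨g, hg⟩ := MulAction.exists_smul_eq G P Q
    have h1 : (MulAction.toPermHom G (Sylow 11 G)) g = 1 :=
      MonoidHom.mem_ker.1 (h ▸ Subgroup.mem_top g)
    have h2 : g • P = P := Equiv.congr_fun h1 P
    rw [h2] at hg
    exact hg.symm
  -- the orbit of `Q` under `P` is everything but `P`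
  have horb : ∀ R : Sylow 11 G, R ≠ P → ∃ y ∈ (P : Subgroup G), y • Q = R := by
    have hmove : ∀ y : G, y ∈ (P : Subgroup G) → y • Q = Q → y = 1 := by
      intro y hy hyQ
      by_contra hy1
      have ho : orderOf y = 11 := by
        have h := (P : Subgroup G).orderOf_dvd_natCard hy
        rw [show Nat.card (P : Subgroup G) = 11 from hP] at h
        rcases (Nat.dvd_prime (by norm_num)).1 h with h' | h'
        · exact absurd (orderOf_eq_one_iff.1 h') hy1
        · exact h'
      have hyQ' := mem_of_normalizes Q (k := 1) (by rw [ho, pow_one])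
        (Sylow.smul_eq_iff_mem_normalizer.1 hyQ)
      apply hQ
      apply Sylow.ext
      have h1 : Subgroup.zpowers y = (P : Subgroup G) := Subgroup.eq_of_le_of_card_ge
        (Subgroup.zpowers_le.2 hy) (by rw [Nat.card_zpowers, ho]; exact hP.le)
      have h2 : Subgroup.zpowers y = (Q : Subgroup G) := Subgroup.eq_of_le_of_card_ge
        (Subgroup.zpowers_le.2 hyQ') (by
          rw [Nat.card_zpowers, ho, Q.card_eq_multiplicity, ← P.card_eq_multiplicity, hP])
      exact h2.symm.trans h1
    let f : ↥(P : Subgroup G) → {R : Sylow 11 G // R ≠ P} := fun y => ⟨(y : G) • Q, fun h => by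
      apply hQ
      have h3 : Q = (y : G)⁻¹ • P :=
        (inv_smul_smul (y : G) Q).symm.trans (congrArg ((y : G)⁻¹ • ·) h)
      rw [h3]
      exact Sylow.smul_eq_iff_mem_normalizer.2 (Subgroup.le_normalizer ((P : Subgroup G).inv_mem y.2))⟩
    have hinj : Function.Injective f := by
      intro a b hab
      have h : ((b : G)⁻¹ * a) • Q = Q := by
        have hab' : (a : G) • Q = (b : G) • Q := congrArg Subtype.val hab
        rw [mul_smul, hab', inv_smul_smul]
      exact Subtype.ext (inv_mul_eq_one.1 (hmove _ ((P : Subgroup G).mul_mem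
        ((P : Subgroup G).inv_mem b.2) a.2) h)).symm
    have hsurj : Function.Surjective f := by
      refine (Nat.bijective_iff_injective_and_card f).2 ⟨hinj, ?_⟩ |>.2
      rw [show Nat.card (P : Subgroup G) = 11 from hP, Nat.card_eq_fintype_card,
        Fintype.card_subtype_compl, Fintype.card_subtype_eq, ← Nat.card_eq_fintype_card, hn]
    intro R hR
    obtain ⟨y, hy⟩ := hsurj ⟨R, hR⟩
    exact ⟨y, y.2, congrArg Subtype.val hy⟩
  let g : Subgroup.centralizer ((P : Subgroup G) : Set G) → {R : Sylow 11 G // R ≠ P} :=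
    fun c => ⟨(c : G) • Q, fun h => hQ (by
      have h3 : Q = (c : G)⁻¹ • P :=
        (inv_smul_smul (c : G) Q).symm.trans (congrArg ((c : G)⁻¹ • ·) h)
      rw [h3]
      exact Sylow.smul_eq_iff_mem_normalizer.2 (Subgroup.centralizer_le_normalizer _
        ((Subgroup.centralizer _).inv_mem c.2)))⟩
  have hg : Function.Injective g := by
    intro a b hab
    set d := (b : G)⁻¹ * a with hd
    have hdC : d ∈ Subgroup.centralizer ((P : Subgroup G) : Set G) :=
      mul_mem (inv_mem b.2) a.2
    have hab' : (a : G) • Q = (b : G) • Q := congrArg Subtype.val hab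
    have hdQ : d • Q = Q := by rw [hd, mul_smul, hab', inv_smul_smul]
    have hd1 : d = 1 := by
      rw [← Subgroup.mem_bot, ← hker, MonoidHom.mem_ker]
      refine Equiv.ext fun R => ?_
      show d • R = R
      by_cases hR : R = P
      · rw [hR]; exact Sylow.smul_eq_iff_mem_normalizer.2 (Subgroup.centralizer_le_normalizer _ hdC)
      · obtain ⟨y, hy, rfl⟩ := horb R hR
        rw [← mul_smul, ← Subgroup.mem_centralizer_iff.1 hdC y hy, mul_smul, hdQ]
    exact Subtype.ext (inv_mul_eq_one.1 hd1).symm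
  have := Nat.card_le_card_of_injective g hg
  rw [Nat.card_eq_fintype_card (α := {R : Sylow 11 G // R ≠ P}),
    Fintype.card_subtype_compl, Fintype.card_subtype_eq, ← Nat.card_eq_fintype_card, hn] at this
  exact this

theorem exists_invol (C : Subgroup G) (h : 2 ∣ Nat.card C) : ∃ v ∈ C, orderOf v = 2 := by
  have : Fact (Nat.Prime 2) := ⟨Nat.prime_two⟩
  obtain ⟨v, hv⟩ := exists_prime_orderOf_dvd_card' (G := C) 2 h
  exact ⟨v, v.2, by rw [Subgroup.orderOf_coe, hv]⟩

/-- An element of order five of the normaliser centralises an involution of the centraliser. -/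
theorem exists_commuting (P : Sylow 11 G) {e k : ℕ}
    (hk : Nat.card (Subgroup.centralizer ((P : Subgroup G) : Set G)) = 11 * k)
    (he : (Subgroup.centralizer ((P : Subgroup G) : Set G)).relIndex
      (Subgroup.normalizer ((P : Subgroup G) : Set G)) = e) (h5e : 5 ∣ e) (h2 : 2 ∣ k) (h8 : ¬ 8 ∣ k)
    (hk0 : k ≠ 0) :
    ∃ v f : G, orderOf v = 2 ∧ orderOf f = 5 ∧ v ∈ Subgroup.centralizer ((P : Subgroup G) : Set G) ∧
      f * v = v * f := by
  classical
  have : Fact (Nat.Prime 2) := ⟨Nat.prime_two⟩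
  have : Fact (Nat.Prime 5) := ⟨by norm_num⟩
  set C := Subgroup.centralizer ((P : Subgroup G) : Set G)
  set N := Subgroup.normalizer ((P : Subgroup G) : Set G)
  haveI : (C.subgroupOf N).Normal := Subgroup.normal_subgroupOf_centralizer_normalizer _
  set C' := C.subgroupOf N
  obtain ⟨T⟩ := (Sylow.nonempty : Nonempty (Sylow 2 C'))
  set T' : Subgroup N := (T : Subgroup C').map C'.subtype
  set H := Subgroup.normalizer (T' : Set N)
  have hsup : H ⊔ C' = ⊤ := Sylow.normalizer_sup_eq_top T
  have h5 : 5 ∣ Nat.card H := by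
    let ψ : H →* N ⧸ C' := (QuotientGroup.mk' C').comp H.subtype
    have hsur : Function.Surjective ψ := by
      intro x
      obtain ⟨n, rfl⟩ := QuotientGroup.mk'_surjective C' x
      have hn : n ∈ ((H ⊔ C' : Subgroup N) : Set N) := by rw [hsup]; exact Subgroup.mem_top n
      rw [Subgroup.mul_normal] at hn
      obtain ⟨a, ha, c, hc, rfl⟩ := Set.mem_mul.1 hn
      refine ⟨⟨a, ha⟩, (QuotientGroup.eq.2 ?_ : _)⟩
      simp only [Subgroup.subtype_apply, ← mul_assoc, inv_mul_cancel, one_mul, SetLike.mem_coe] at hc ⊢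
      exact hc
    have h := Subgroup.card_dvd_of_surjective ψ hsur
    rw [← Subgroup.index_eq_card, show C'.index = e from he] at h
    exact h5e.trans h
  obtain ⟨f, hf⟩ := exists_prime_orderOf_dvd_card' (G := H) 5 h5
  have hT : Nat.card T' = 2 ^ (Nat.card C').factorization 2 := by
    rw [Subgroup.card_map_of_injective C'.subtype_injective]; exact T.card_eq_multiplicity
  have hC' : Nat.card C' = 11 * k := by
    rw [Solv.card_subgroupOf (Subgroup.centralizer_le_normalizer _), hk]
  have hfac : (Nat.card C').factorization 2 = 1 ∨ (Nat.card C').factorization 2 = 2 := by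
    rw [hC', Nat.factorization_mul (by norm_num) hk0, Finsupp.add_apply,
      Nat.factorization_eq_zero_of_not_dvd (by norm_num : ¬ 2 ∣ 11), zero_add]
    have h1 : 1 ≤ k.factorization 2 := (Nat.prime_two.pow_dvd_iff_le_factorization hk0).1 (by simpa using h2)
    have h3 : ¬ 3 ≤ k.factorization 2 := fun h => h8 ((Nat.prime_two.pow_dvd_iff_le_factorization hk0).2 h)
    omega
  let σ : Equiv.Perm T' :=
    { toFun := fun x => ⟨(f : N) * x * (f : N)⁻¹, (Subgroup.mem_normalizer_iff.1 f.2 x).1 x.2⟩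
      invFun := fun x => ⟨(f : N)⁻¹ * x * (f : N), by
        refine (Subgroup.mem_normalizer_iff.1 f.2 _).2 ?_
        simp [mul_assoc]⟩
      left_inv := fun x => Subtype.ext (by simp [mul_assoc])
      right_inv := fun x => Subtype.ext (by simp [mul_assoc]) }
  have hf5 : (f : N) ^ 5 = 1 := by
    rw [← Subgroup.coe_pow, ← hf, pow_orderOf_eq_one, Subgroup.coe_one]
  have hpow : ∀ (j : ℕ) (x : T'), ((σ ^ j) x : N) = (f : N) ^ j * x * ((f : N) ^ j)⁻¹ := by
    intro j
    induction j with
    | zero => intro x; simp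
    | succ j ih =>
      intro x
      rw [pow_succ', Equiv.Perm.mul_apply]
      show (f : N) * ((σ ^ j) x : N) * (f : N)⁻¹ = _
      rw [ih, pow_succ']
      group
  have hσ5 : σ ^ 5 = 1 := Equiv.ext fun x => Subtype.ext (by rw [hpow, hf5]; simp)
  have hσ : σ = 1 := by
    have h1 : orderOf σ ∣ 5 := orderOf_dvd_of_pow_eq_one hσ5
    have h2' : orderOf σ ∣ Nat.factorial (Nat.card T') := by
      rw [← Nat.card_perm]; exact orderOf_dvd_natCard σ
    have h24 : Nat.factorial (Nat.card T') ∣ 24 := by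
      rcases hfac with h | h <;> rw [hT, h] <;> decide
    have h3 := Nat.eq_one_of_dvd_coprimes (by norm_num : Nat.Coprime 5 24) h1 (h2'.trans h24)
    exact orderOf_eq_one_iff.1 h3
  have h2T : 2 ∣ Nat.card T' := by rw [hT]; exact dvd_pow_self _ (by omega)
  obtain ⟨v, hv⟩ := exists_prime_orderOf_dvd_card' (G := T') 2 h2T
  refine ⟨((v : N) : G), ((f : N) : G), by rw [Subgroup.orderOf_coe, Subgroup.orderOf_coe, hv],
    by rw [Subgroup.orderOf_coe, Subgroup.orderOf_coe, hf], ?_, ?_⟩
  · obtain ⟨c, -, hc⟩ := v.2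
    rw [← hc]
    exact c.2
  · have h : (f : N) * v * (f : N)⁻¹ = v := congrArg (fun π : Equiv.Perm T' => ((π v : T') : N)) hσ
    rw [mul_inv_eq_iff_eq_mul] at h
    exact congrArg Subtype.val h

theorem card_cent_le [IsSimpleGroup G] (hG : Nat.card G = 95040) {v : G} (hv : orderOf v = 2)
    (h11 : 11 ∣ Nat.card (Subgroup.centralizer ({v} : Set G))) :
    Nat.card (Subgroup.centralizer ({v} : Set G)) ≤ 7920 := by
  haveI := Fintype.ofFinite G
  set H := Subgroup.centralizer ({v} : Set G)
  have hmul := Subgroup.card_mul_index H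
  rw [hG] at hmul
  by_contra hbig
  have hidx : H.index ≤ 11 := by
    by_contra h12
    have : 7921 * 12 ≤ Nat.card H * H.index := Nat.mul_le_mul (by omega) (by omega)
    omega
  have hne : H ≠ ⊤ := by
    intro h
    have hz : v ∈ Subgroup.center G := Subgroup.mem_center_iff.2 fun g =>
      Subgroup.mem_centralizer_singleton_iff.1 (h ▸ Subgroup.mem_top g : g ∈ H)
    rw [Small.SmallOrders.center_eq_bot (na hG), Subgroup.mem_bot] at hz
    rw [hz, orderOf_one] at hv
    omega
  have h11' : ¬ 11 ∣ H.index := fun h => by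
    have := Nat.mul_dvd_mul h11 h
    rw [hmul] at this
    norm_num at this
  have hinj : Function.Injective (MulAction.toPermHom G (G ⧸ H)) := by
    rw [← MonoidHom.ker_eq_bot_iff]
    refine (MonoidHom.normal_ker _).eq_bot_or_eq_top.resolve_right fun h => hne (eq_top_iff.2 fun g _ => ?_)
    have hg : MulAction.toPermHom G (G ⧸ H) g = 1 := MonoidHom.mem_ker.1 (h ▸ Subgroup.mem_top g)
    have := Equiv.ext_iff.1 hg ((1 : G) : G ⧸ H)
    simpa [QuotientGroup.eq] using this
  have h := Subgroup.card_dvd_of_injective _ hinj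
  rw [Nat.card_perm, ← Subgroup.index_eq_card, hG] at h
  have h2 : 11 ∣ Nat.factorial H.index := (by norm_num : 11 ∣ 95040).trans h
  have h3 := ((by norm_num : Nat.Prime 11).dvd_factorial).1 h2
  exact h11' (by rw [show H.index = 11 by omega])

/-- The Sylow subgroup of order eleven. -/
theorem exists_eleven [IsSimpleGroup G] (hG : Nat.card G = 95040) :
    ∃ P : Sylow 11 G, Nat.card P = 11 ∧ Nat.card (Subgroup.centralizer ((P : Subgroup G) : Set G)) = 11 ∧
      (Subgroup.centralizer ((P : Subgroup G) : Set G)).relIndex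
        (Subgroup.normalizer ((P : Subgroup G) : Set G)) = 5 := by
  classical
  haveI := Fintype.ofFinite G
  obtain ⟨P, n, e, k, hP, hn, hk, hnek, hn1, hne1, he10, he1, he⟩ :=
    data (G := G) (p := 11) (m := 8640) (by rw [hG]) (by norm_num) (by norm_num)
  have hC : Nat.card (Subgroup.centralizer ((P : Subgroup G) : Set G)) = 11 * k := hk
  have hk0 : k ≠ 0 := by rintro rfl; simp at hnek
  have hne0 : n * e ≠ 0 := by rintro h; rw [h, zero_mul] at hnek; omega
  obtain ⟨i, hi⟩ : ∃ i, n = 11 * i + 1 := ⟨n / 11, by omega⟩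
  have hdvd : n * e ∣ 8640 := Dvd.intro k hnek
  have hn8640 : n ≤ 8640 := Nat.le_of_dvd (by norm_num) ((dvd_mul_right n e).trans hdvd)
  have hel : e ∈ [2, 5, 10] := by
    have : e ≤ 10 := Nat.le_of_dvd (by norm_num) he10
    interval_cases e <;> simp_all
  have hkq : k = 8640 / (n * e) := by
    rw [← hnek, Nat.mul_div_cancel_left _ (Nat.pos_of_ne_zero hne0)]
  have hy : ∃ y ∈ (P : Subgroup G), y ≠ (1 : G) := by
    obtain ⟨y, hy⟩ := SmallOrderGraph.nonOne_nonempty P hP
    exact ⟨y, y.2, mem_nonOne.1 hy⟩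
  rcases sylow_options i (by omega) e hel (hi ▸ hdvd) (by omega) with ⟨rfl, rfl⟩ | rfl | ⟨rfl, h2⟩ | ⟨rfl, he'⟩
  · subst hi
    exact ⟨P, hP, by rw [hC]; omega, he⟩
  · exfalso
    have h := cent_twelve P hP (by rw [hn, hi])
    rw [show centCard 11 P = 11 * k from hk] at h
    have hk1 : k = 1 := by omega
    have he' : e ≤ 10 := Nat.le_of_dvd (by norm_num) he10
    subst hk1 hi
    omega
  · exfalso
    rw [← hi, ← hkq] at h2
    obtain ⟨M, X, Y, a, δ, B, hXc, hYc⟩ := exists_blk hG P hP (t := 5) he le_rfl (by norm_num) (by norm_num)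
    obtain ⟨χ, hχ⟩ : ∃ χ, χ ∈ X.erase oneChar := by
      refine Finset.card_pos.1 ?_
      rw [Finset.card_erase_of_mem B.one_mem, hXc]; norm_num
    have hsing : X.erase oneChar = {χ} := Finset.eq_singleton_iff_unique_mem.2 ⟨hχ, fun ψ hψ => by
      refine Finset.card_le_one.1 ?_ ψ hψ χ hχ
      rw [Finset.card_erase_of_mem B.one_mem, hXc]⟩
    obtain ⟨hne, hχX⟩ := Finset.mem_erase.1 hχ
    obtain ⟨θ, hθ⟩ := B.Ynonempty
    have hrel := B.deg_rel hθ
    rw [hsing, Finset.sum_singleton] at hrel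
    have hd : charDegree (χ : G → ℂ) = 10 := by
      refine two_degree _ (B.degX χ hχX hne) _ (B.degY θ hθ) (a χ) ?_ δ ?_ ?_ ?_ hrel
      · rcases B.pp.a_sign χ hχX with h | h <;> simp [h]
      · rcases B.pp.sign with h | h <;> simp [h]
      · exact Int.emod_eq_zero_of_dvd (Int.modEq_iff_dvd.1 (B.pp.a_congr χ hχX).symm)
      · exact Int.emod_eq_zero_of_dvd (Int.modEq_iff_dvd.1 (B.pp.congrY θ hθ).symm)
    obtain ⟨v, hvC, hv⟩ := exists_invol _ (hC ▸ dvd_mul_of_dvd_right h2 11)
    obtain ⟨z, hz, h4, hlt⟩ := SmallOrderGraph.invol_value (na hG) hne hv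
    obtain ⟨y, hy, hy1⟩ := hy
    have h22 := B.split hP (Or.inl hχX) hy hy1 (v := v) (by rw [← hv]; exact pow_orderOf_eq_one v)
      ((Subgroup.mem_centralizer_iff.1 hvC y hy).symm) hz
    rw [hd] at h4 h22 hlt
    omega
  · exfalso
    subst hi
    have hk6 : (e = 5 ∧ k = 12) ∨ (e = 10 ∧ k = 6) := by
      rcases he' with rfl | rfl <;> [left; right] <;> exact ⟨rfl, by omega⟩
    obtain ⟨v, f, hv, hf, hvC, hfv⟩ := exists_commuting P hC he (by omega) (by omega) (by omega) hk0
    obtain ⟨y, hy, hy1⟩ := hy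
    have hvy : v * y = y * v := (Subgroup.mem_centralizer_iff.1 hvC y hy).symm
    have hoy : orderOf y = 11 := by
      have h := (P : Subgroup G).orderOf_dvd_natCard hy
      rw [show Nat.card (P : Subgroup G) = 11 from hP] at h
      exact ((Nat.dvd_prime (by norm_num)).1 h).resolve_left fun h => hy1 (orderOf_eq_one_iff.1 h)
    set H := Subgroup.centralizer ({v} : Set G) with hH
    have m1 : ∀ x : G, x * v = v * x → orderOf x ∣ Nat.card H := fun x hx =>
      H.orderOf_dvd_natCard (Subgroup.mem_centralizer_singleton_iff.2 hx)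
    have h11 : 11 ∣ Nat.card H := hoy ▸ m1 y hvy.symm
    have h110 : 110 ∣ Nat.card H := by
      have a2 : 2 ∣ Nat.card H := hv ▸ m1 v rfl
      have a5 : 5 ∣ Nat.card H := hf ▸ m1 f hfv
      omega
    have hCl : Nat.card H ∈ cList := mem_cList (hG ▸ Subgroup.card_subgroup_dvd_card H) h110
      (card_cent_le hG hv h11)
    obtain ⟨t, ht, het⟩ : ∃ t, 0 < t ∧ e * t + 1 = 11 := by
      rcases he' with rfl | rfl
      · exact ⟨2, by norm_num⟩
      · exact ⟨1, by norm_num⟩
    obtain ⟨M, X, Y, a, δ, B, hXc, hYc⟩ := exists_blk hG P hP he (by omega) ht het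
    have hadm : ∀ χ : IrrCharacter G, χ ≠ oneChar → (χ ∈ X ∨ χ ∈ Y) → ∃ z : ℤ, (χ : G → ℂ) v = z ∧
        z.natAbs < charDegree (χ : G → ℂ) ∧ Adm (Nat.card H) (charDegree (χ : G → ℂ)) z := by
      intro χ hne hmem
      obtain ⟨z, hz, h4, hlt⟩ := SmallOrderGraph.invol_value (na hG) hne hv
      refine ⟨z, hz, hlt, h4, B.split hP hmem hy hy1 (by rw [← hv]; exact pow_orderOf_eq_one v) hvy hz, ?_,
        class_dvd χ hz rfl hG⟩
      have := one_add_sq_le hne hz
      rw [← hH] at this
      omega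
    have hXeven : ∀ χ ∈ X.erase oneChar, (2 : ℤ) ∣ a χ * charDegree (χ : G → ℂ) := by
      intro χ hχ
      obtain ⟨hne, hχX⟩ := Finset.mem_erase.1 hχ
      obtain ⟨z, -, hlt, hA⟩ := hadm χ hne (Or.inl hχX)
      have := signed_deg (B.pp.a_sign χ hχX) (B.pp.a_congr χ hχX)
      exact Dvd.dvd.mul_left (Int.natCast_dvd_natCast.2
        (adm_X _ hCl _ (B.degX χ hχX hne) (by omega) z (mem_intRange hlt) hA)) _
    obtain ⟨θ, hθ⟩ := B.Ynonempty
    obtain ⟨gz, hgz, hglt, hgA⟩ := hadm θ (B.Yne θ hθ) (Or.inr hθ)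
    have hrel := B.deg_rel hθ
    have hodd : ¬ 2 ∣ charDegree (θ : G → ℂ) := fun h => by
      have h1 : (2 : ℤ) ∣ δ * (charDegree (θ : G → ℂ) : ℤ) := Dvd.dvd.mul_left (Int.natCast_dvd_natCast.2 h) _
      have h2 := Finset.dvd_sum hXeven
      omega
    have hcg := (B.pp.congrY θ hθ).eq
    rcases he' with rfl | rfl
    · have h5 : charDegree (θ : G → ℂ) % 11 = 5 ∨ charDegree (θ : G → ℂ) % 11 = 6 := by
        rcases B.pp.sign with h | h <;> rw [h] at hcg <;> omega
      obtain ⟨hg27, rfl⟩ := (adm_Y _ hCl _ (B.degY θ hθ) h5 gz (mem_intRange hglt) hgA).resolve_left hodd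
      have hδ : δ = 1 := by
        rcases B.pp.sign with h | h
        · exact h
        · rw [h, hg27] at hcg; norm_num at hcg
      rw [hg27, hδ] at hrel
      choose! zf hzv hzlt hzA using fun χ (hχ : χ ∈ X.erase oneChar) =>
        hadm χ (Finset.mem_erase.1 hχ).1 (Or.inl (Finset.mem_erase.1 hχ).2)
      have hval : (-17 : ℤ) = 1 + ∑ χ ∈ X.erase oneChar, a χ * zf χ := by
        have h2 := B.pp.rel θ hθ v (by rw [hv]; norm_num)
        rw [← Finset.add_sum_erase X _ B.one_mem, B.one_sign, hgz, hδ,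
          Finset.sum_congr rfl (g := fun χ : IrrCharacter G => (a χ : ℂ) * (zf χ : ℂ)) fun χ hχ => by rw [hzv χ hχ]] at h2
        simp only [oneChar] at h2 ⊢
        have h3 : ((-17 : ℤ) : ℂ) = ((1 + ∑ χ ∈ X.erase oneChar, a χ * zf χ : ℤ) : ℂ) := by
          push_cast at h2 ⊢
          simpa [oneChar] using h2
        exact_mod_cast h3
      have hmem : ∀ χ ∈ X.erase oneChar, (a χ * (charDegree (χ : G → ℂ) : ℤ), a χ * zf χ) ∈ xRow (Nat.card H) :=
        fun χ hχ => mem_xRow (B.degX χ (Finset.mem_erase.1 hχ).2 (Finset.mem_erase.1 hχ).1)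
          (signed_deg (B.pp.a_sign χ (Finset.mem_erase.1 hχ).2) (B.pp.a_congr χ (Finset.mem_erase.1 hχ).2))
          (hzlt χ hχ) (hzA χ hχ)
      have hc4 : (X.erase oneChar).card = 4 := by rw [Finset.card_erase_of_mem B.one_mem, hXc]
      obtain ⟨w, x, y', z', n1, n2, n3, n4, n5, n6, hs⟩ := Finset.card_eq_four.1 hc4
      rw [hs] at hval hrel
      rw [Finset.sum_insert (by simp [n1, n2, n3]), Finset.sum_insert (by simp [n4, n5]),
        Finset.sum_pair n6] at hval hrel
      refine no_quad _ hCl _ (hmem w (by simp [hs])) _ (hmem x (by simp [hs])) _ (hmem y' (by simp [hs])) _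
        (hmem z' (by simp [hs])) ?_ ?_ <;> simp only <;> omega
    · have h10 : charDegree (θ : G → ℂ) % 11 = 1 ∨ charDegree (θ : G → ℂ) % 11 = 10 := by
        rcases B.pp.sign with h | h <;> rw [h] at hcg <;> omega
      exact hodd (adm_X _ hCl _ (B.degY θ hθ) h10 gz (mem_intRange hglt) hgA)

end Finite

end Cfsg.Agent.MTwelve.OrderFront
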