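import Cfsg.Agent.Lib.Spor.MTwelve.OrderFront.TwoCore
import Cfsg.Agent.Lib.Solv.Extraspecial

/-!
The two-core of the centraliser of the central involution is extraspecial and contains another conjugate of the
involution.
-/

set_option autoImplicit false

namespace Cfsg.Agent.MTwelve.OrderFront

open scoped commutatorElement

universe u

variable {G : Type u} [Group G] [Finite G]

namespace Core

variable {z : G} (K : Core z) (hyp : LocalHyp G) {v t : G} (hp : K.Pair v t)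

include hp in
theorem sigma_three (x : G) : v * (v * x * v⁻¹) * v⁻¹ = v⁻¹ * x * v := by
  calc v * (v * x * v⁻¹) * v⁻¹ = v * v * x * (v * v)⁻¹ := by group
    _ = v⁻¹ * x * (v⁻¹)⁻¹ := by rw [K.v_sq hp]
    _ = v⁻¹ * x * v := by rw [inv_inv]

include hp in
theorem vE {x : G} (hx : x ∈ K.E) : v * x * v⁻¹ ∈ K.E := by
  obtain ⟨hxQ, hxc⟩ := K.mem_E.1 hx
  refine K.mem_E.2 ⟨K.vQ hp hxQ, fun q hq => ?_⟩
  calc q * (v * x * v⁻¹) = v * (v⁻¹ * q * v * x) * v⁻¹ := by group
    _ = v * (x * (v⁻¹ * q * v)) * v⁻¹ := by rw [hxc _ (K.vQ' hp hq)]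
    _ = v * x * v⁻¹ * q := by group

include hp in
theorem vE' {x : G} (hx : x ∈ K.E) : v⁻¹ * x * v ∈ K.E := by
  rw [← K.sigma_three hp]
  exact K.vE hp (K.vE hp hx)

omit [Finite G] in
theorem E_comm {x y : G} (hx : x ∈ K.E) (hy : y ∈ K.E) : x * y = y * x :=
  (K.mem_E.1 hy).2 x (K.mem_E.1 hx).1

theorem pow_two_of_mem {x : G} (hx : x ∈ K.Q) : x ^ 2 ^ 5 = 1 := by
  have h := congrArg Subtype.val (pow_card_eq_one' (x := (⟨x, hx⟩ : K.Q)))
  rw [K.card_Q] at h
  simpa using h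

include hyp hp in
theorem exists_invol_E {x : G} (hx : x ∈ K.E) (hx1 : x ≠ 1) (hxz : x ≠ z) :
    ∃ e ∈ K.E, e ≠ 1 ∧ e ≠ z ∧ e * e = 1 := by
  suffices h : ∀ k, ∀ x ∈ K.E, x ≠ 1 → x ≠ z → x ^ 2 ^ k = 1 → ∃ e ∈ K.E, e ≠ 1 ∧ e ≠ z ∧ e * e = 1 from
    h 5 x hx hx1 hxz (K.pow_two_of_mem (K.mem_E.1 hx).1)
  intro k
  induction k with
  | zero => intro x _ h1 _ hp0; exact absurd (by simpa using hp0) h1
  | succ k ih =>
    intro x hx h1 h2 hpow
    by_cases e1 : x * x = 1
    · exact ⟨x, hx, h1, h2, e1⟩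
    by_cases e2 : x * x = z
    · set y := v * x * v⁻¹ with hy
      have hyE : y ∈ K.E := K.vE hp hx
      have hy2 : y * y = z := by
        rw [hy, show v * x * v⁻¹ * (v * x * v⁻¹) = v * (x * x) * v⁻¹ by group, e2, K.v_comm hp,
          mul_inv_cancel_right]
      refine ⟨x⁻¹ * y, mul_mem (inv_mem hx) hyE, fun h => ?_, fun h => ?_, ?_⟩
      · rcases (K.mod_z (K.six_of_local hyp) hp).1 x (K.mem_E.1 hx).1 (by rw [← hy, h]; exact one_mem _) with h' | h'
        exacts [h1 h', h2 h']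
      · rcases (K.mod_z (K.six_of_local hyp) hp).1 x (K.mem_E.1 hx).1 (by rw [← hy, h]; exact Subgroup.mem_zpowers z) with h' | h'
        exacts [h1 h', h2 h']
      · have hc : Commute x⁻¹ y := (show Commute x y from K.E_comm hx hyE).inv_left
        rw [hc.symm.mul_mul_mul_comm, ← mul_inv_rev, e2, hy2, K.z_inv, K.zz]
    · refine ih (x * x) (mul_mem hx hx) e1 e2 ?_
      rw [← pow_two, ← pow_mul, ← pow_succ']
      exact hpow

/-- the norm-trivial part of the elementary centre -/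
def W : Subgroup G where
  carrier := {x | x ∈ K.E ∧ x * x = 1 ∧ x * (v * x * v⁻¹) * (v⁻¹ * x * v) = 1 ∧ v * x * v⁻¹ ∈ K.E ∧ v⁻¹ * x * v ∈ K.E}
  one_mem' := ⟨one_mem _, by simp, by simp, by simp, by simp⟩
  mul_mem' := by
    rintro a b ⟨ha, ha2, ha3, ha4, ha5⟩ ⟨hb, hb2, hb3, hb4, hb5⟩
    refine ⟨mul_mem ha hb, ?_, ?_, ?_, ?_⟩
    · rw [(show Commute b a from K.E_comm hb ha).mul_mul_mul_comm, ha2, hb2, mul_one]
    · have e1 : v * (a * b) * v⁻¹ = v * a * v⁻¹ * (v * b * v⁻¹) := by group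
      have e2 : v⁻¹ * (a * b) * v = v⁻¹ * a * v * (v⁻¹ * b * v) := by group
      rw [e1, e2, (show Commute b (v * a * v⁻¹) from K.E_comm hb ha4).mul_mul_mul_comm,
        (show Commute (b * (v * b * v⁻¹)) (v⁻¹ * a * v) from K.E_comm (mul_mem hb hb4) ha5).mul_mul_mul_comm,
        ha3, hb3, mul_one]
    · rw [show v * (a * b) * v⁻¹ = v * a * v⁻¹ * (v * b * v⁻¹) by group]; exact mul_mem ha4 hb4
    · rw [show v⁻¹ * (a * b) * v = v⁻¹ * a * v * (v⁻¹ * b * v) by group]; exact mul_mem ha5 hb5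
  inv_mem' := by
    rintro a ⟨ha, ha2, h⟩
    rw [inv_eq_of_mul_eq_one_right ha2]
    exact ⟨ha, ha2, h⟩

include hyp hp in
/-- An involution of the centre, other than the given one, commuting with a two-element outside. -/
theorem exists_W {x : G} (hx : x ∈ K.E) (hx1 : x ≠ 1) (hxz : x ≠ z) :
    ∃ w ∈ K.E, w ≠ z ∧ orderOf w = 2 ∧ t * w = w * t := by
  classical
  haveI : Fact (Nat.Prime 2) := ⟨Nat.prime_two⟩
  obtain ⟨e, he, he1, hez, he2⟩ := K.exists_invol_E hyp hp hx hx1 hxz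
  set W := K.W (v := v)
  have hmem : ∀ a, a ∈ W ↔ (a ∈ K.E ∧ a * a = 1 ∧ a * (v * a * v⁻¹) * (v⁻¹ * a * v) = 1 ∧
      v * a * v⁻¹ ∈ K.E ∧ v⁻¹ * a * v ∈ K.E) := fun a => Iff.rfl
  set w0 := e⁻¹ * (v * e * v⁻¹) with hw0
  have hw0E : w0 ∈ K.E := mul_mem (inv_mem he) (K.vE hp he)
  have hw0W : w0 ∈ W := by
    refine (hmem _).2 ⟨hw0E, ?_, ?_, K.vE hp hw0E, K.vE' hp hw0E⟩
    · rw [hw0, inv_eq_of_mul_eq_one_right he2,
        (show Commute (v * e * v⁻¹) e from K.E_comm (K.vE hp he) he).mul_mul_mul_comm, he2,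
        show v * e * v⁻¹ * (v * e * v⁻¹) = v * (e * e) * v⁻¹ by group, he2]
      group
    · rw [hw0]
      calc e⁻¹ * (v * e * v⁻¹) * (v * (e⁻¹ * (v * e * v⁻¹)) * v⁻¹) * (v⁻¹ * (e⁻¹ * (v * e * v⁻¹)) * v)
          = e⁻¹ * (v * (v * e * v⁻¹) * v⁻¹) * (v⁻¹ * e⁻¹ * v) * e := by group
        _ = 1 := by rw [K.sigma_three hp]; group
  have hw01 : w0 ≠ 1 := fun h => by
    rcases (K.mod_z (K.six_of_local hyp) hp).1 e (K.mem_E.1 he).1 (by rw [← hw0, h]; exact one_mem _) with h' | h'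
    exacts [he1 h', hez h']
  have htW : ∀ a ∈ W, t * a * t⁻¹ ∈ W := by
    intro a ha
    obtain ⟨haE, ha2, ha3, ha4, ha5⟩ := (hmem a).1 ha
    have htE : ∀ b ∈ K.E, t * b * t⁻¹ ∈ K.E := by
      intro b hb
      refine K.mem_E.2 ⟨K.conj_mem hp.t_mem (K.mem_E.1 hb).1, fun q hq => ?_⟩
      have hq' : t⁻¹ * q * t ∈ K.Q := by simpa using K.conj_mem (inv_mem hp.t_mem) hq
      calc q * (t * b * t⁻¹) = t * (t⁻¹ * q * t * b) * t⁻¹ := by group
        _ = t * (b * (t⁻¹ * q * t)) * t⁻¹ := by rw [(K.mem_E.1 hb).2 _ hq']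
        _ = t * b * t⁻¹ * q := by group
    have i1 : v * t = t * v⁻¹ := by
      calc v * t = (t * v * t⁻¹)⁻¹ * t := by rw [hp.inv, inv_inv]
        _ = t * v⁻¹ := by group
    have i1' : v⁻¹ * t = t * v := by rw [← hp.inv, inv_mul_cancel_right]
    have i2 : t⁻¹ * v⁻¹ = v * t⁻¹ := by
      calc t⁻¹ * v⁻¹ = t⁻¹ * (t * v * t⁻¹) := by rw [hp.inv]
        _ = v * t⁻¹ := by group
    have i2' : t⁻¹ * v = v⁻¹ * t⁻¹ := by
      calc t⁻¹ * v = t⁻¹ * ((t * v * t⁻¹)⁻¹) := by rw [hp.inv, inv_inv]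
        _ = v⁻¹ * t⁻¹ := by group
    have e1 : v * (t * a * t⁻¹) * v⁻¹ = t * (v⁻¹ * a * v) * t⁻¹ := by
      calc v * (t * a * t⁻¹) * v⁻¹ = (v * t) * a * (t⁻¹ * v⁻¹) := by group
        _ = t * (v⁻¹ * a * v) * t⁻¹ := by rw [i1, i2]; group
    have e2 : v⁻¹ * (t * a * t⁻¹) * v = t * (v * a * v⁻¹) * t⁻¹ := by
      calc v⁻¹ * (t * a * t⁻¹) * v = (v⁻¹ * t) * a * (t⁻¹ * v) := by group
        _ = t * (v * a * v⁻¹) * t⁻¹ := by rw [i1', i2']; group
    refine (hmem _).2 ⟨htE a haE, ?_, ?_, e1 ▸ htE _ ha5, e2 ▸ htE _ ha4⟩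
    · rw [show t * a * t⁻¹ * (t * a * t⁻¹) = t * (a * a) * t⁻¹ by group, ha2]
      group
    · rw [e1, e2]
      calc t * a * t⁻¹ * (t * (v⁻¹ * a * v) * t⁻¹) * (t * (v * a * v⁻¹) * t⁻¹)
          = t * (a * ((v⁻¹ * a * v) * (v * a * v⁻¹))) * t⁻¹ := by group
        _ = t * (a * ((v * a * v⁻¹) * (v⁻¹ * a * v))) * t⁻¹ := by rw [K.E_comm ha5 ha4]
        _ = t * (a * (v * a * v⁻¹) * (v⁻¹ * a * v)) * t⁻¹ := by group
        _ = 1 := by rw [ha3]; group
  have hle : W ≤ K.Q := fun a ha => (K.mem_E.1 ((hmem a).1 ha).1).1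
  have heven : 2 ∣ Nat.card W := by
    have hd := K.card_Q ▸ Subgroup.card_dvd_of_le hle
    obtain ⟨i, -, hi⟩ := (Nat.dvd_prime_pow Nat.prime_two).1 (show Nat.card W ∣ 2 ^ 5 by simpa using hd)
    rcases i with _ | i
    · have := Subgroup.card_eq_one.1 (hi.trans (pow_zero 2)) ▸ hw0W
      exact absurd (Subgroup.mem_bot.1 this) hw01
    · rw [hi]; exact dvd_pow_self 2 (Nat.succ_ne_zero i)
  have hmod := modEq_cent (p := 2) (k := 6) (x := t) (by simpa using hp.pow) W htW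
  have hne : ∃ w ∈ W ⊓ Subgroup.centralizer ({t} : Set G), w ≠ 1 := by
    by_contra h
    push Not at h
    have : W ⊓ Subgroup.centralizer ({t} : Set G) = ⊥ := (Subgroup.eq_bot_iff_forall _).2 h
    rw [this, Subgroup.card_bot] at hmod
    obtain ⟨c, hc⟩ := heven
    rw [hc, Nat.ModEq] at hmod
    omega
  obtain ⟨w, hw, hw1⟩ := hne
  obtain ⟨hwE, hw2, hw3, -, -⟩ := (hmem w).1 hw.1
  refine ⟨w, hwE, fun h => ?_, orderOf_eq_prime (by rw [sq]; exact hw2) hw1,
    (Subgroup.mem_centralizer_singleton_iff.1 hw.2).symm⟩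
  rw [h, K.v_comm hp, mul_inv_cancel_right, K.zz, one_mul, mul_assoc, ← K.v_comm hp, inv_mul_cancel_left] at hw3
  exact K.z_ne hw3

/-- the subgroup of order sixty-four -/
def S (t : G) (ht : t ∈ Subgroup.centralizer ({z} : Set G)) : Subgroup G :=
  ((Subgroup.zpowers (K.π ⟨t, ht⟩)).comap K.π).map (Subgroup.centralizer ({z} : Set G)).subtype

omit [Finite G] in
theorem mem_S {ht : t ∈ Subgroup.centralizer ({z} : Set G)} {s : G} : s ∈ K.S t ht ↔
    ∃ h : s ∈ Subgroup.centralizer ({z} : Set G), K.π ⟨s, h⟩ ∈ Subgroup.zpowers (K.π ⟨t, ht⟩) :=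
  ⟨by rintro ⟨a, ha, rfl⟩; exact ⟨a.2, ha⟩, fun ⟨h, hs⟩ => ⟨⟨s, h⟩, hs, rfl⟩⟩

include hp in
theorem pi_t : orderOf (K.π ⟨t, hp.t_mem⟩) = 2 := by
  haveI : Fact (Nat.Prime 2) := ⟨Nat.prime_two⟩
  refine orderOf_eq_prime ?_ fun h => hp.not_mem (K.mem_Q.2 ⟨hp.t_mem, h⟩)
  rw [sq]
  refine perm_three_sq _ ?_
  rw [← map_pow, ← map_one K.π]
  exact congrArg _ (Subtype.ext (by simpa using hp.pow))

include hp in
theorem S_facts : Nat.card (K.S t hp.t_mem) = 64 ∧ K.S t hp.t_mem ≤ Subgroup.centralizer ({z} : Set G) ∧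
    K.Q ≤ K.S t hp.t_mem ∧ t ∈ K.S t hp.t_mem ∧ ∀ s ∈ K.S t hp.t_mem, s ∈ K.Q ∨ s * t⁻¹ ∈ K.Q := by
  refine ⟨?_, Subgroup.map_subtype_le _, fun q hq => ?_, K.mem_S.2 ⟨hp.t_mem, Subgroup.mem_zpowers _⟩,
    fun s hs => ?_⟩
  · rw [S, Subgroup.card_map_of_injective (Subgroup.subtype_injective _)]
    set A := Subgroup.zpowers (K.π ⟨t, hp.t_mem⟩)
    have h := Subgroup.card_mul_index (A.comap K.π)
    rw [Subgroup.index_comap_of_surjective _ K.surj, K.card_cent] at h
    have h2 := Subgroup.card_mul_index A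
    rw [Nat.card_zpowers, K.pi_t hp, Nat.card_perm, Nat.card_fin, show Nat.factorial 3 = 6 from rfl] at h2
    rw [show A.index = 3 by omega] at h
    omega
  · obtain ⟨h, h1⟩ := K.mem_Q.1 hq
    exact K.mem_S.2 ⟨h, h1 ▸ one_mem _⟩
  · obtain ⟨h, h1⟩ := K.mem_S.1 hs
    rcases zpowers_two (K.pi_t hp) h1 with h2 | h2
    · exact Or.inl (K.mem_Q.2 ⟨h, h2⟩)
    · refine Or.inr (K.mem_Q.2 ⟨mul_mem h (inv_mem hp.t_mem), ?_⟩)
      rw [show (⟨s * t⁻¹, mul_mem h (inv_mem hp.t_mem)⟩ : Subgroup.centralizer ({z} : Set G)) =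
        ⟨s, h⟩ * ⟨t, hp.t_mem⟩⁻¹ from rfl, map_mul, map_inv, h2, mul_inv_cancel]

/-- A two-subgroup of the centraliser of order sixty-four contains the two-core. -/
theorem Q_le_of_card {T : Subgroup G} (hT : T ≤ Subgroup.centralizer ({z} : Set G)) (hc : Nat.card T = 64) :
    K.Q ≤ T := by
  haveI : Fact (Nat.Prime 2) := ⟨Nat.prime_two⟩
  set L := Subgroup.centralizer ({z} : Set G)
  have hTc : Nat.card (T.subgroupOf L) = 64 := by
    rw [Nat.card_congr (Subgroup.subgroupOfEquivOfLe hT).toEquiv, hc]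
  have hker : IsPGroup 2 K.π.ker := IsPGroup.of_card (n := 5) (by rw [K.card_ker]; norm_num)
  have hTp : IsPGroup 2 (T.subgroupOf L) := IsPGroup.of_card (n := 6) (by rw [hTc]; norm_num)
  obtain ⟨i, hi⟩ := (IsPGroup.to_sup_of_normal_left hker hTp).exists_card_eq
  have h1 := Subgroup.card_dvd_of_le (le_sup_right : T.subgroupOf L ≤ K.π.ker ⊔ T.subgroupOf L)
  have h2 := Subgroup.card_subgroup_dvd_card (K.π.ker ⊔ T.subgroupOf L)
  rw [hTc, hi] at h1
  rw [hi, K.card_cent] at h2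
  have hi6 : i ≤ 6 := by
    by_contra h
    have := (pow_dvd_pow 2 (show 7 ≤ i by omega)).trans h2
    norm_num at this
  have heq : T.subgroupOf L = K.π.ker ⊔ T.subgroupOf L :=
    Subgroup.eq_of_le_of_card_ge le_sup_right (by
      rw [hTc, hi]
      calc 2 ^ i ≤ 2 ^ 6 := Nat.pow_le_pow_right (by norm_num) hi6
        _ = 64 := by norm_num)
  rintro q ⟨a, ha, rfl⟩
  have : a ∈ T.subgroupOf L := heq ▸ Subgroup.mem_sup_left ha
  exact this

omit [Finite G] in
theorem mem_conj_E {g x : G} : x ∈ (K.conj g).E ↔ g⁻¹ * x * g ∈ K.E := by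
  rw [(K.conj g).mem_E, K.mem_E, K.mem_conj_Q]
  refine and_congr_right fun _ => ⟨fun h q hq => ?_, fun h q hq => ?_⟩
  · have h' := h (g * q * g⁻¹) (K.mem_conj_Q.2 (by simpa [mul_assoc] using hq))
    calc q * (g⁻¹ * x * g) = g⁻¹ * (g * q * g⁻¹ * x) * g := by group
      _ = g⁻¹ * (x * (g * q * g⁻¹)) * g := by rw [h']
      _ = g⁻¹ * x * g * q := by group
  · have h' := h _ (K.mem_conj_Q.1 hq)
    calc q * x = g * (g⁻¹ * q * g * (g⁻¹ * x * g)) * g⁻¹ := by group
      _ = g * (g⁻¹ * x * g * (g⁻¹ * q * g)) * g⁻¹ := by rw [h']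
      _ = x * q := by group

include hyp in
/-- The centre of one two-core lies in the other. -/
theorem E_le {w : G} (K' : Core w) {T : Subgroup G} (hT' : T ≤ Subgroup.centralizer ({w} : Set G))
    (hc : Nat.card T = 64) (hQT : K.Q ≤ T) (hQ'T : K'.Q ≤ T) : K.E ≤ K'.Q := by
  intro e he
  by_contra heQ
  obtain ⟨v', t', hp'⟩ := K'.exists_pair (K'.six_of_local hyp)
  obtain ⟨heQ0, hec⟩ := K.mem_E.1 he
  set I := K.Q ⊓ K'.Q
  have hI : 16 ≤ Nat.card I := by
    have : Nat.card K.Q * Nat.card K'.Q ≤ Nat.card I * Nat.card T := card_mul_card_le hQT hQ'T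
    rw [K.card_Q, K'.card_Q, hc] at this
    omega
  let c : G →* G := (MulAut.conj v').toMonoidHom
  have hIc : I.map c ≤ K'.Q := by
    rintro _ ⟨a, ha, rfl⟩
    exact K'.vQ hp' ha.2
  have hA8 : 2 < Nat.card ↥(I ⊓ I.map c) := by
    have : Nat.card I * Nat.card (I.map c) ≤ Nat.card ↥(I ⊓ I.map c) * Nat.card K'.Q :=
      card_mul_card_le (inf_le_right : I ≤ K'.Q) hIc
    rw [Subgroup.card_map_of_injective (MulAut.conj v').injective, K'.card_Q] at this
    have h2 : 16 * 16 ≤ Nat.card I * Nat.card I := Nat.mul_le_mul hI hI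
    omega
  refine K'.no_fix (K'.six_of_local hyp) hp' (hT' (hQT heQ0)) heQ ?_ (A := I ⊓ I.map c) (inf_le_left.trans inf_le_right) hA8
    (fun a ha => (hec a ha.1.1).symm) fun a ha => ?_
  · rw [show 64 = 2 ^ 5 * 2 from rfl, pow_mul, K.pow_two_of_mem heQ0, one_pow]
  · obtain ⟨b, hb, rfl⟩ := ha.2
    rw [show v'⁻¹ * c b * v' = b by simp [c, mul_assoc]]
    exact (hec b hb.1).symm

include hyp hp in
theorem E_card {x : G} (hx : x ∈ K.E) (hx1 : x ≠ 1) (hxz : x ≠ z) (hne : Nat.card K.E ≠ 32) :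
    Nat.card K.E = 8 ∧ ∀ a ∈ K.E, a * a = 1 := by
  haveI : Fact (Nat.Prime 3) := ⟨Nat.prime_three⟩
  have key : ∀ A : Subgroup G, A ≤ K.Q → z ∈ A → (∀ a ∈ A, v * a * v⁻¹ ∈ A) →
      ∀ b ∈ A, b ≠ 1 → b ≠ z → Nat.card A = 8 ∨ Nat.card A = 32 := by
    intro A hA hzA hvA b hb hb1 hbz
    have hmod := modEq_cent (p := 3) (k := 1) (x := v) (by rw [pow_one]; exact K.v_cube hp) A hvA
    have hfix : A ⊓ Subgroup.centralizer ({v} : Set G) = Subgroup.zpowers z := by
      refine le_antisymm (fun a ha => ?_) (Subgroup.zpowers_le.2 ⟨hzA,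
        Subgroup.mem_centralizer_singleton_iff.2 (K.v_comm hp).symm⟩)
      rcases K.fix (K.six_of_local hyp) hp.order (K.v_comm hp) (hA ha.1) (Subgroup.mem_centralizer_singleton_iff.1 ha.2) with rfl | rfl
      exacts [one_mem _, Subgroup.mem_zpowers _]
    rw [hfix, Nat.card_zpowers, K.order] at hmod
    have hd := K.card_Q ▸ Subgroup.card_dvd_of_le hA
    have h2 : Nat.card A ≠ 2 := fun h => by
      have hz : Subgroup.zpowers z = A := Subgroup.eq_of_le_of_card_ge (Subgroup.zpowers_le.2 hzA)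
        (by rw [h, Nat.card_zpowers, K.order])
      rw [← hz] at hb
      rcases zpowers_two K.order hb with e | e
      exacts [hb1 e, hbz e]
    obtain ⟨i, hi, e⟩ := (Nat.dvd_prime_pow Nat.prime_two).1 (show Nat.card A ∣ 2 ^ 5 by simpa using hd)
    rw [e] at hmod h2 ⊢
    interval_cases i <;> simp_all [Nat.ModEq]
  have h8 : Nat.card K.E = 8 :=
    (key K.E inf_le_left K.z_mem_E (fun a ha => K.vE hp ha) x hx hx1 hxz).resolve_right hne
  refine ⟨h8, ?_⟩
  obtain ⟨e, he, he1, hez, he2⟩ := K.exists_invol_E hyp hp hx hx1 hxz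
  let Ω : Subgroup G :=
    { carrier := {a | a ∈ K.E ∧ a * a = 1}
      one_mem' := ⟨one_mem _, mul_one 1⟩
      mul_mem' := fun {a b} ha hb => ⟨mul_mem ha.1 hb.1, by
        rw [(show Commute b a from K.E_comm hb.1 ha.1).mul_mul_mul_comm, ha.2, hb.2, mul_one]⟩
      inv_mem' := fun {a} ha => by rw [inv_eq_of_mul_eq_one_right ha.2]; exact ha }
  have hΩE : Ω ≤ K.E := fun a ha => ha.1
  have hΩ : Ω = K.E := Subgroup.eq_of_le_of_card_ge hΩE (by
    rcases key Ω (hΩE.trans inf_le_left) ⟨K.z_mem_E, K.zz⟩ (fun a ha => ⟨K.vE hp ha.1, by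
      rw [show v * a * v⁻¹ * (v * a * v⁻¹) = v * (a * a) * v⁻¹ by group, ha.2]; group⟩)
      e ⟨he, he2⟩ he1 hez with h | h <;> omega)
  intro a ha
  rw [← hΩ] at ha
  exact ha.2

include hyp hp in
/-- The centre has order two. -/
theorem center_two {x : G} (hx : x ∈ K.E) : x = 1 ∨ x = z := by
  classical
  haveI : Fact (Nat.Prime 3) := ⟨Nat.prime_three⟩
  by_contra hcon
  rw [not_or] at hcon
  obtain ⟨w, hwE, hwz, hw, htw⟩ := K.exists_W hyp hp hx hcon.1 hcon.2
  obtain ⟨hSc, hSL, hQS, htS, hScase⟩ := K.S_facts hp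
  set T := K.S t hp.t_mem
  have hwc : ∀ s ∈ T, s * w = w * s := by
    intro s hs
    have hq : ∀ q ∈ K.Q, q * w = w * q := (K.mem_E.1 hwE).2
    rcases hScase s hs with h | h
    · exact hq s h
    · calc s * w = s * t⁻¹ * (t * w) := by group
        _ = s * t⁻¹ * (w * t) := by rw [htw]
        _ = s * t⁻¹ * w * t := by group
        _ = w * (s * t⁻¹) * t := by rw [hq _ h]
        _ = w * s := by group
  have hTw : T ≤ Subgroup.centralizer ({w} : Set G) := fun s hs =>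
    Subgroup.mem_centralizer_singleton_iff.2 (hwc s hs)
  have h32 : 32 ∣ Nat.card (Subgroup.centralizer ({w} : Set G)) :=
    (by norm_num : 32 ∣ 64).trans (hSc ▸ Subgroup.card_dvd_of_le hTw)
  obtain ⟨g, hg⟩ := isConj_iff.1 (hyp.h2 z w K.order hw K.card_cent (hyp.h1 w hw h32))
  subst hg
  set K' := K.conj g
  have hQ'T : K'.Q ≤ T := K'.Q_le_of_card hTw hSc
  by_cases hQQ : K'.Q = K.Q
  · -- the element would normalise the two-core
    have hgN : g ∈ Subgroup.normalizer (K.Q : Set G) := by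
      rw [Subgroup.mem_normalizer_iff]
      intro q
      refine ⟨fun hq => ?_, fun hq => ?_⟩
      · exact hQQ.le (K.mem_conj_Q.2 (by simpa [mul_assoc] using hq))
      · simpa [mul_assoc] using K.mem_conj_Q.1 (hQQ.ge hq)
    set N := Subgroup.normalizer (K.Q : Set G)
    set L := Subgroup.centralizer ({z} : Set G)
    have hLN : L ≤ N := fun a ha => Subgroup.mem_normalizer_iff.2 fun q => ⟨fun hq => K.conj_mem ha hq, fun hq => by
      simpa [mul_assoc] using K.conj_mem (inv_mem ha) hq⟩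
    set M := L.subgroupOf N
    have hM : Nat.card M = 192 := by
      rw [Nat.card_congr (Subgroup.subgroupOfEquivOfLe hLN).toEquiv]; exact K.card_cent
    have hr : Nat.card (N ⧸ M) ∣ 495 := by
      have h := Subgroup.card_mul_index M
      have hd : Nat.card N ∣ 95040 := hyp.card ▸ Subgroup.card_subgroup_dvd_card N
      rw [hM, Subgroup.index_eq_card] at h
      rw [← h, show (95040 : ℕ) = 192 * 495 from rfl] at hd
      exact Nat.dvd_of_mul_dvd_mul_left (by norm_num) hd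
    have hr32 : Nat.card (N ⧸ M) ≤ 32 := by
      rw [← K.card_Q]
      refine Nat.card_le_card_of_injective (fun c : N ⧸ M =>
        (⟨(c.out : G) * z * (c.out : G)⁻¹, (Subgroup.mem_normalizer_iff.1 c.out.2 z).1 K.z_mem⟩ : K.Q))
        fun c d h => ?_
      have h' : (c.out : G) * z * (c.out : G)⁻¹ = (d.out : G) * z * (d.out : G)⁻¹ := congrArg Subtype.val h
      rw [← QuotientGroup.out_eq' c, ← QuotientGroup.out_eq' d, QuotientGroup.eq]
      refine Subgroup.mem_subgroupOf.2 (Subgroup.mem_centralizer_singleton_iff.2 ?_)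
      show (c.out : G)⁻¹ * d.out * z = z * ((c.out : G)⁻¹ * d.out)
      calc (c.out : G)⁻¹ * d.out * z = (c.out : G)⁻¹ * ((d.out : G) * z * (d.out : G)⁻¹) * d.out := by group
        _ = (c.out : G)⁻¹ * ((c.out : G) * z * (c.out : G)⁻¹) * d.out := by rw [h']
        _ = z * ((c.out : G)⁻¹ * d.out) := by group
    have hmod3 : Nat.card (N ⧸ M) ≡ 1 [MOD 3] := by
      set X : Subgroup N := Subgroup.zpowers ⟨v, hLN hp.v_mem⟩
      have hX : IsPGroup 3 X := IsPGroup.of_card (n := 1) (by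
        rw [Nat.card_zpowers, Subgroup.orderOf_mk, hp.order, pow_one])
      have h := hX.card_modEq_card_fixedPoints (α := N ⧸ M)
      have hone : Nat.card (MulAction.fixedPoints X (N ⧸ M)) = 1 := by
        have hfix1 : ∀ c ∈ MulAction.fixedPoints X (N ⧸ M), c = QuotientGroup.mk 1 := by
          intro c hc
          induction c using QuotientGroup.induction_on with
          | _ n =>
            have h1 := hc ⟨_, Subgroup.mem_zpowers _⟩
            change QuotientGroup.mk ((⟨v, hLN hp.v_mem⟩ : N) * n) = (QuotientGroup.mk n : N ⧸ M) at h1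
            rw [eq_comm, QuotientGroup.eq] at h1
            have hnv : ((n : G)⁻¹ * (v * n)) * z = z * ((n : G)⁻¹ * (v * n)) :=
              Subgroup.mem_centralizer_singleton_iff.1 (Subgroup.mem_subgroupOf.1 h1)
            rw [eq_comm, QuotientGroup.eq]
            refine Subgroup.mem_subgroupOf.2 (Subgroup.mem_centralizer_singleton_iff.2 ?_)
            simp only [inv_one, one_mul]
            have hmem : (n : G) * z * (n : G)⁻¹ ∈ K.Q := (Subgroup.mem_normalizer_iff.1 n.2 z).1 K.z_mem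
            rcases K.fix (K.six_of_local hyp) hp.order (K.v_comm hp) hmem (by
              calc (n : G) * z * (n : G)⁻¹ * v = n * (z * ((n : G)⁻¹ * (v * n))) * (n : G)⁻¹ := by group
                _ = n * ((n : G)⁻¹ * (v * n) * z) * (n : G)⁻¹ := by rw [hnv]
                _ = v * (n * z * (n : G)⁻¹) := by group) with h2 | h2
            · exfalso
              apply K.z_ne
              calc z = (n : G)⁻¹ * (n * z * (n : G)⁻¹) * n := by group
                _ = 1 := by rw [h2]; group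
            · calc (n : G) * z = n * z * (n : G)⁻¹ * n := by group
                _ = z * n := by rw [h2]
        refine Nat.card_eq_one_iff_unique.2 ⟨⟨fun a b => Subtype.ext ((hfix1 a a.2).trans (hfix1 b b.2).symm)⟩,
          ⟨⟨QuotientGroup.mk 1, fun x => ?_⟩⟩⟩
        show (QuotientGroup.mk ((x : N) * 1) : N ⧸ M) = _
        rw [QuotientGroup.eq, mul_one, mul_one, inv_mem_iff]
        exact (Subgroup.zpowers_le.2 (show (⟨v, hLN hp.v_mem⟩ : N) ∈ M from
          Subgroup.mem_subgroupOf.2 hp.v_mem)) x.2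
      rwa [hone] at h
    have h1 : Nat.card (N ⧸ M) ≠ 1 := by
      intro h
      rw [← Subgroup.index_eq_card, Subgroup.index_eq_one] at h
      have : (⟨g, hgN⟩ : N) ∈ M := h ▸ Subgroup.mem_top _
      refine hwz ?_
      rw [Subgroup.mem_centralizer_singleton_iff.1 (Subgroup.mem_subgroupOf.1 this), mul_inv_cancel_right]
    have key : ∀ r < 33, r ∣ 495 → r % 3 = 1 → r = 1 := by decide +kernel
    exact h1 (key _ (by omega) hr hmod3)
  · have hEQ' : K.E ≤ K'.Q := K.E_le hyp K' hTw hSc hQS hQ'T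
    have hE'Q : K'.E ≤ K.Q := K'.E_le hyp K hSL hSc hQ'T hQS
    have hne : Nat.card K.E ≠ 32 := fun h => hQQ <| by
      have hEeq : K.E = K.Q := Subgroup.eq_of_le_of_card_ge inf_le_left (by rw [h, K.card_Q])
      exact (Subgroup.eq_of_le_of_card_ge (hEeq ▸ hEQ') (by rw [K.card_Q, K'.card_Q])).symm
    obtain ⟨hE8, hEsq⟩ := K.E_card hyp hp hx hcon.1 hcon.2 hne
    have hE'8 : Nat.card K'.E = 8 := by
      rw [← hE8]
      exact Nat.card_congr
        { toFun := fun a => ⟨g⁻¹ * a * g, K.mem_conj_E.1 a.2⟩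
          invFun := fun a => ⟨g * a * g⁻¹, K.mem_conj_E.2 (by simp [mul_assoc])⟩
          left_inv := fun a => Subtype.ext (by simp [mul_assoc])
          right_inv := fun a => Subtype.ext (by simp [mul_assoc]) }
    obtain ⟨s, hsQ', hsQ⟩ : ∃ s ∈ K'.Q, s ∉ K.Q := by
      by_contra h
      push Not at h
      exact hQQ (Subgroup.eq_of_le_of_card_ge h (by rw [K.card_Q, K'.card_Q]))
    obtain ⟨e, heE', heE⟩ : ∃ e ∈ K'.E, e ∉ K.E := by
      by_contra h
      push Not at h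
      have heq : K'.E = K.E := Subgroup.eq_of_le_of_card_ge h (by rw [hE8, hE'8])
      refine K.no_fix (K.six_of_local hyp) hp (hSL (hQ'T hsQ')) hsQ ?_ (A := K.E) inf_le_left (by omega)
        (fun a ha => (K'.mem_E.1 (heq.ge ha)).2 s hsQ') fun a ha => (K'.mem_E.1 (heq.ge (K.vE' hp ha))).2 s hsQ'
      rw [show 64 = 2 ^ 5 * 2 from rfl, pow_mul, K'.pow_two_of_mem hsQ', one_pow]
    have heQ : e ∈ K.Q := hE'Q heE'
    have he2 : e * e = 1 := by
      have h := hEsq _ (K.mem_conj_E.1 heE')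
      calc e * e = g * (g⁻¹ * e * g * (g⁻¹ * e * g)) * g⁻¹ := by group
        _ = 1 := by rw [h]; group
    have hseQ : v * e * v⁻¹ ∈ K.Q := K.vQ hp heQ
    have hse' : v⁻¹ * e * v ∈ K.Q := K.vQ' hp heQ
    have hprod := (K.mod_z (K.six_of_local hyp) hp).2.1 e heQ
    have hce : e * (v * e * v⁻¹) = v * e * v⁻¹ * e := by
      set a := v * e * v⁻¹ with ha
      have ha2 : a * a = 1 := by
        rw [ha, show v * e * v⁻¹ * (v * e * v⁻¹) = v * (e * e) * v⁻¹ by group, he2]; group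
      set b := v⁻¹ * e * v with hb
      have hb2 : b * b = 1 := by
        rw [hb, show v⁻¹ * e * v * (v⁻¹ * e * v) = v⁻¹ * (e * e) * v by group, he2]; group
      have hsq : e * a * (e * a) = 1 := by
        rcases zpowers_two K.order hprod with h | h
        · rw [eq_inv_of_mul_eq_one_left h, ← mul_inv_rev, hb2, inv_one]
        · have e' : e * a = z * b⁻¹ := by rw [← h, mul_inv_cancel_right]
          have hc : Commute b⁻¹ z := (show Commute b z from K.comm_z hse').inv_left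
          rw [e', hc.mul_mul_mul_comm, K.zz, ← mul_inv_rev, hb2, inv_one, one_mul]
      calc e * a = (e * a)⁻¹ := (inv_eq_of_mul_eq_one_right hsq).symm
        _ = a * e := by rw [mul_inv_rev, inv_eq_of_mul_eq_one_right ha2, inv_eq_of_mul_eq_one_right he2]
    set C := K.Q ⊓ Subgroup.centralizer ({e} : Set G)
    have hEC : K.E ≤ C := fun a ha => ⟨(K.mem_E.1 ha).1,
      Subgroup.mem_centralizer_singleton_iff.2 ((K.mem_E.1 ha).2 e heQ).symm⟩
    have heC : e ∈ C := ⟨heQ, Subgroup.mem_centralizer_singleton_iff.2 rfl⟩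
    have hsC : v * e * v⁻¹ ∈ C := ⟨hseQ, Subgroup.mem_centralizer_singleton_iff.2 hce.symm⟩
    have hne1 : e⁻¹ * (v * e * v⁻¹) ∉ K.E := by
      intro hc
      set c := e⁻¹ * (v * e * v⁻¹) with hc'
      have hσ : v * e * v⁻¹ = e * c := by rw [hc']; group
      have hb : v⁻¹ * e * v = e * c * (v * c * v⁻¹) := by
        calc v⁻¹ * e * v = v * (v * e * v⁻¹) * v⁻¹ := (K.sigma_three hp e).symm
          _ = v * (e * c) * v⁻¹ := by rw [hσ]
          _ = v * e * v⁻¹ * (v * c * v⁻¹) := by group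
          _ = e * c * (v * c * v⁻¹) := by rw [hσ]
      have hfin : e * (v * c * v⁻¹) ∈ Subgroup.zpowers z := by
        rw [hσ, hb] at hprod
        convert hprod using 1
        have hc2 : c * c = 1 := hEsq c hc
        calc e * (v * c * v⁻¹) = (e * e) * (e * (c * c) * (v * c * v⁻¹)) := by rw [he2, hc2, one_mul, mul_one]
          _ = e * (e * e * c) * c * (v * c * v⁻¹) := by group
          _ = e * (e * c * e) * c * (v * c * v⁻¹) := by
            rw [show e * e * c = e * c * e by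
              conv_rhs => rw [mul_assoc, ← (K.mem_E.1 hc).2 e heQ, ← mul_assoc]]
          _ = _ := by group
      refine heE ?_
      have : e = e * (v * c * v⁻¹) * (v * c * v⁻¹)⁻¹ := by group
      rw [this]
      refine mul_mem ?_ (inv_mem (K.vE hp hc))
      rcases zpowers_two K.order hfin with h | h <;> rw [h]
      exacts [one_mem _, K.z_mem_E]
    have hsE : v * e * v⁻¹ ∉ K.E := fun h => heE (by
      have h' := K.vE' hp h
      rwa [show v⁻¹ * (v * e * v⁻¹) * v = e by group] at h')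
    have hcard : 24 ≤ Nat.card C := by
      let f : K.E ⊕ K.E ⊕ K.E → C := Sum.elim (fun a => ⟨a, hEC a.2⟩)
        (Sum.elim (fun a => ⟨e * a, mul_mem heC (hEC a.2)⟩) (fun a => ⟨v * e * v⁻¹ * a, mul_mem hsC (hEC a.2)⟩))
      have hf : Function.Injective f := by
        have q : ∀ {r : G} {y y' : K.E}, r * y = y' → r ∈ K.E := fun {r y y'} e1 => by
          rw [eq_mul_inv_of_mul_eq e1]; exact mul_mem y'.2 (inv_mem y.2)
        rintro (y | y | y) (y' | y' | y') e1 <;>
          have e2 := congrArg Subtype.val e1 <;> simp only [f, Sum.elim_inl, Sum.elim_inr] at e2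
        · rw [Subtype.ext e2]
        · exact absurd (q e2.symm) heE
        · exact absurd (q e2.symm) hsE
        · exact absurd (q e2) heE
        · rw [Subtype.ext (mul_left_cancel e2)]
        · exact absurd (q (r := e⁻¹ * (v * e * v⁻¹)) (y := y') (y' := y)
            (by rw [mul_assoc, ← e2, inv_mul_cancel_left])) hne1
        · exact absurd (q e2) hsE
        · exact absurd (q (r := e⁻¹ * (v * e * v⁻¹)) (y := y) (y' := y')
            (by rw [mul_assoc, e2, inv_mul_cancel_left])) hne1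
        · rw [Subtype.ext (mul_left_cancel e2)]
      have h12 := Nat.card_le_card_of_injective f hf
      simp only [Nat.card_sum, hE8] at h12
      omega
    have hCQ : C = K.Q := by
      refine Subgroup.eq_of_le_of_card_ge inf_le_left ?_
      have hd : Nat.card C ∣ 32 := K.card_Q ▸ Subgroup.card_dvd_of_le inf_le_left
      obtain ⟨i, hi, e'⟩ := (Nat.dvd_prime_pow Nat.prime_two).1 (show Nat.card C ∣ 2 ^ 5 by simpa using hd)
      rw [K.card_Q, e']
      rw [e'] at hcard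
      interval_cases i <;> omega
    exact heE (K.mem_E.2 ⟨heQ, fun q hq => Subgroup.mem_centralizer_singleton_iff.1 (hCQ.ge hq).2⟩)

include hyp hp in
/-- The two-core is extraspecial. -/
theorem extraspecial : Cfsg.IsExtraspecial 2 ↥K.Q := by
  haveI : Fact (Nat.Prime 2) := ⟨Nat.prime_two⟩
  have hE : ∀ x : K.Q, x ∈ Subgroup.center K.Q ↔ (x : G) ∈ K.E := by
    intro x
    rw [Subgroup.mem_center_iff, K.mem_E]
    exact ⟨fun h => ⟨x.2, fun q hq => congrArg Subtype.val (h ⟨q, hq⟩)⟩, fun h g => Subtype.ext (h.2 g g.2)⟩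
  set zQ : K.Q := ⟨z, K.z_mem⟩
  have hcz : ∀ x ∈ Subgroup.center K.Q, x = 1 ∨ x = zQ := fun x hx => by
    rcases K.center_two hyp hp ((hE x).1 hx) with h | h
    exacts [Or.inl (Subtype.ext h), Or.inr (Subtype.ext h)]
  have hzc : zQ ∈ Subgroup.center K.Q := (hE zQ).2 K.z_mem_E
  have hz1 : zQ ≠ 1 := fun h => K.z_ne (congrArg Subtype.val h)
  have hc : Nat.card (Subgroup.center K.Q) = 2 := by
    rw [Nat.card_eq_two_iff]
    refine ⟨1, ⟨zQ, hzc⟩, fun h => hz1 (congrArg Subtype.val h).symm, Set.eq_univ_of_forall fun x => ?_⟩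
    rcases hcz x x.2 with h | h
    exacts [Or.inl (Subtype.ext h), Or.inr (Subtype.ext h)]
  refine Solv.isExtraspecial_of (IsPGroup.of_card (n := 5) (by rw [K.card_Q]; norm_num)) hc
    (le_antisymm ?_ fun x hx => ?_) fun x => (hE _).2 (by rw [sq]; exact K.sq_mem_E (K.six_of_local hyp) hp x.2)
  · rw [commutator_def, Subgroup.commutator_le]
    intro a _ b _
    rw [hE]
    have h : ((⁅a, b⁆ : K.Q) : G) = a * b * (a : G)⁻¹ * (b : G)⁻¹ := by simp [commutatorElement_def]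
    rw [h]
    rcases zpowers_two K.order ((K.mod_z (K.six_of_local hyp) hp).2.2 a a.2 b b.2) with e | e <;> rw [e]
    exacts [one_mem _, K.z_mem_E]
  · rcases hcz x hx with rfl | rfl
    · exact one_mem _
    obtain ⟨a, b, hab⟩ : ∃ a b : K.Q, a * b ≠ b * a := by
      by_contra hcon
      push Not at hcon
      have : Nat.card (Subgroup.center K.Q) = 32 := by
        rw [show Subgroup.center K.Q = ⊤ from eq_top_iff.2 fun g _ => Subgroup.mem_center_iff.2 fun h => hcon h g,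
          Subgroup.card_top, K.card_Q]
      omega
    have h : ⁅a, b⁆ = zQ := by
      have h1 : ((⁅a, b⁆ : K.Q) : G) = a * b * (a : G)⁻¹ * (b : G)⁻¹ := by simp [commutatorElement_def]
      refine Subtype.ext (h1.trans ((zpowers_two K.order ((K.mod_z (K.six_of_local hyp) hp).2.2 a a.2 b b.2)).resolve_left fun e => ?_))
      apply hab
      apply Subtype.ext
      show (a : G) * b = b * a
      calc (a : G) * b = a * b * (a : G)⁻¹ * (b : G)⁻¹ * (b * a) := by group
        _ = b * a := by rw [e, one_mul]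
    rw [← h]
    exact Subgroup.commutator_mem_commutator (Subgroup.mem_top a) (Subgroup.mem_top b)

end Core

end Cfsg.Agent.MTwelve.OrderFront
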