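import Cfsg.Agent.Lib.Spor.MTwelve.OrderFront.Eleven

/-!
The principal block for the prime eleven as a list of four characters and a pair, with the equations it gives.
-/

set_option autoImplicit false
set_option linter.unusedSectionVars false

namespace Cfsg.Agent.MTwelve.OrderFront

open Cfsg Cfsg.Agent.Char Cfsg.Agent.Small.Order459648
open scoped ComplexConjugate

universe u

/-- sign of a non-exceptional character by its degree -/
def sgn (d : ℕ) : ℤ := if d % 11 = 1 then 1 else -1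

/-- sign of the exceptional characters by their degree -/
def sgnY (g : ℕ) : ℤ := if g % 11 = 5 then 1 else -1

/-- the number of solutions of a product equation, from the values of the block -/
def pairsNum (d : Fin 4 → ℕ) (g : ℕ) (v v' : Fin 4 → ℤ) (w w' : ℤ) : ℤ :=
  95040 + ∑ i, sgn (d i) * v i * v' i * ((95040 / d i : ℕ) : ℤ) - sgnY g * w * w' * ((95040 / g : ℕ) : ℤ)

/-- the sum of the squares of the values of the block -/
def sqNum (v : Fin 4 → ℤ) (w : ℤ) : ℤ := 1 + ∑ i, v i * v i + 2 * (w * w)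

variable {G : Type u} [Group G] [Fintype G] [IsSimpleGroup G]

local instance fact_prime_eleven : Fact (Nat.Prime 11) := ⟨by norm_num⟩

/-- The data. -/
structure Front (G : Type u) [Group G] [Fintype G] where
  /-- a Sylow subgroup -/
  P : Sylow 11 G
  /-- a prime over eleven -/
  M : Ideal AlgInt
  /-- the rational part -/
  X : Finset (IrrCharacter G)
  /-- the exceptional part -/
  Y : Finset (IrrCharacter G)
  /-- the signs -/
  a : IrrCharacter G → ℤ
  /-- the exceptional sign -/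
  δ : ℤ
  /-- the four characters -/
  c : Fin 4 → IrrCharacter G
  /-- an exceptional character -/
  θ : IrrCharacter G
  card : Nat.card G = 95040
  cardP : Nat.card P = 11
  cent : Nat.card (Subgroup.centralizer ((P : Subgroup G) : Set G)) = 11
  blk : [IsSimpleGroup G] → Blk P 5 M X Y a δ
  index : (Subgroup.centralizer ((P : Subgroup G) : Set G)).relIndex
    (Subgroup.normalizer ((P : Subgroup G) : Set G)) = 5
  cardY : Y.card = 2
  memY : θ ∈ Y
  sum_X : ∀ F : IrrCharacter G → ℂ, ∑ χ ∈ X.erase oneChar, F χ = ∑ i, F (c i)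
  c_mem : ∀ i, c i ∈ X ∧ c i ≠ oneChar
  c_surj : ∀ χ ∈ X, χ ≠ oneChar → ∃ i, c i = χ
  mono : Monotone fun i => charDegree (c i : G → ℂ)
  vanish : ∀ χ : IrrCharacter G, χ ∉ X → χ ∉ Y → ∀ y ∈ nonOne P, (χ : G → ℂ) (y : G) = 0
  dvd_rest : ∀ χ : IrrCharacter G, χ ∉ X → χ ∉ Y → 11 ∣ charDegree (χ : G → ℂ)

theorem exists_front (hG : Nat.card G = 95040) : Nonempty (Front G) := by
  classical
  obtain ⟨P, hP, hC, he⟩ := exists_eleven hG
  obtain ⟨M, X, Y, a, δ, B, hXc, hYc⟩ := exists_blk hG P hP (t := 2) he (by norm_num) (by norm_num) (by norm_num)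
  obtain ⟨θ, hθ⟩ := B.Ynonempty
  have hC' : Subgroup.centralizer ((P : Subgroup G) : Set G) = (P : Subgroup G) := by
    refine (Subgroup.eq_of_le_of_card_ge ?_ (le_of_eq (hC.trans hP.symm))).symm
    intro g hg
    rw [Subgroup.mem_centralizer_iff]
    intro b hb
    haveI : IsCyclic ↥(P : Subgroup G) := isCyclic_of_prime_card hP
    exact congrArg Subtype.val (IsCyclic.commutative.is_comm.comm
      (⟨b, hb⟩ : ↥(P : Subgroup G)) ⟨g, hg⟩)
  have hvan : ∀ χ : IrrCharacter G, χ ∉ X → χ ∉ Y → ∀ y ∈ nonOne P, (χ : G → ℂ) (y : G) = 0 := by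
    intro χ hX hY y hy
    have hy1 : (y : G) ≠ 1 := mem_nonOne.mp hy
    have hCy : Subgroup.centralizer ({(y : G)} : Set G) = (P : Subgroup G) := by
      rw [← centralizer_zpowers_eq, eq_zpowers_of_prime_sylow hP y.2 hy1, hC']
    have hχ : χ ∉ principalBlock M G := fun h' => by
      rcases (B.pp.mem_iff χ).mp h' with h'' | h''
      · exact hX h''
      · exact hY h''
    have h0 := B.frob.nonprincipal_sum_zero B.modular hχ hy1
    rw [Finset.sum_eq_single (1 : Subgroup.centralizer ({(y : G)} : Set G))] at h0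
    · simpa using h0
    · intro v hv hv1
      exfalso
      have hvP : (v : G) ∈ (P : Subgroup G) := (SetLike.ext_iff.mp hCy _).mp v.2
      have h2 := (P : Subgroup G).orderOf_dvd_natCard hvP
      rw [show Nat.card (P : Subgroup G) = 11 from hP] at h2
      have h3 : orderOf (v : G) = 11 :=
        ((Nat.dvd_prime (by norm_num)).mp h2).resolve_left
          fun h4 => hv1 (Subtype.ext (orderOf_eq_one_iff.mp h4))
      rw [Subgroup.orderOf_coe] at h3
      exact (Finset.mem_filter.mp hv).2 (dvd_of_eq h3.symm)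
    · intro h1
      exact absurd (Finset.mem_filter.mpr ⟨Finset.mem_univ _, by simp⟩) h1
  have hdvd : ∀ χ : IrrCharacter G, χ ∉ X → χ ∉ Y → 11 ∣ charDegree (χ : G → ℂ) := by
    intro χ hX hY
    obtain ⟨n, hn⟩ := exists_sum_on_sylow (P := P) χ
    rw [Finset.sum_eq_single (1 : ↥(P : Subgroup G))] at hn
    · rw [OneMemClass.coe_one, char_one_eq_deg (irr_isCharacter χ.2), hP] at hn
      exact ⟨n, by exact_mod_cast hn⟩
    · exact fun y _ hy => hvan χ hX hY y (mem_nonOne.mpr fun e1 => hy (Subtype.ext e1))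
    · exact fun h1 => absurd (Finset.mem_univ _) h1
  have h4 : Fintype.card ↥(X.erase oneChar) = 4 := by
    rw [Fintype.card_coe, Finset.card_erase_of_mem B.one_mem, hXc]
  let e0 : Fin 4 ≃ ↥(X.erase oneChar) := (Fintype.equivFinOfCardEq h4).symm
  let f : Fin 4 → ℕ := fun i => charDegree ((e0 i : IrrCharacter G) : G → ℂ)
  let e1 : Fin 4 ≃ ↥(X.erase oneChar) := (Tuple.sort f).trans e0
  exact ⟨{
    P := P, M := M, X := X, Y := Y, a := a, δ := δ, c := fun i => (e1 i : IrrCharacter G), θ := θ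
    card := hG, cardP := hP, cent := hC, blk := B, index := he, cardY := hYc, memY := hθ
    sum_X := fun F => by
      rw [← Finset.sum_coe_sort]
      exact (Equiv.sum_comp e1 (fun x => F (x : IrrCharacter G))).symm
    c_mem := fun i => ⟨(Finset.mem_erase.1 (e1 i).2).2, (Finset.mem_erase.1 (e1 i).2).1⟩
    c_surj := fun χ hχ hne => ⟨e1.symm ⟨χ, Finset.mem_erase.2 ⟨hne, hχ⟩⟩, by simp⟩
    mono := Tuple.monotone_sort f
    vanish := hvan
    dvd_rest := hdvd }⟩

namespace Front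

variable (F : Front G)

/-- the four degrees -/
noncomputable def d (i : Fin 4) : ℕ := charDegree (F.c i : G → ℂ)

/-- the exceptional degree -/
noncomputable def g0 : ℕ := charDegree (F.θ : G → ℂ)

theorem d_mem (i : Fin 4) : F.d i ∈ degList := F.blk.degX _ (F.c_mem i).1 (F.c_mem i).2

theorem d_mod (i : Fin 4) : F.d i % 11 = 1 ∨ F.d i % 11 = 10 := by
  rcases signed_deg (F.blk.pp.a_sign _ (F.c_mem i).1) (F.blk.pp.a_congr _ (F.c_mem i).1) with h | h
  · exact Or.inl h.1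
  · exact Or.inr h.1

theorem a_eq (i : Fin 4) : F.a (F.c i) = sgn (F.d i) := by
  rcases signed_deg (F.blk.pp.a_sign _ (F.c_mem i).1) (F.blk.pp.a_congr _ (F.c_mem i).1) with ⟨h, h'⟩ | ⟨h, h'⟩ <;>
    simp [sgn, d, h, h']

theorem g0_mem : F.g0 ∈ degList := F.blk.degY _ F.memY

theorem g0_mod : (F.g0 % 11 = 5 ∨ F.g0 % 11 = 6) ∧ F.δ = sgnY F.g0 := by
  have h := (F.blk.pp.congrY _ F.memY).eq
  rcases F.blk.pp.sign with h' | h' <;> rw [h'] at h <;>
    (have h5 : charDegree (F.θ : G → ℂ) % 11 = 5 ∨ charDegree (F.θ : G → ℂ) % 11 = 6 := by omega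
     refine ⟨h5, ?_⟩
     rcases h5 with h5 | h5 <;> simp [sgnY, g0, h5, h'] <;> omega)

theorem regY {χ : IrrCharacter G} (hχ : χ ∈ F.Y) {g : G} (hg : ¬ 11 ∣ orderOf g) :
    (χ : G → ℂ) g = (F.θ : G → ℂ) g := F.blk.pp.regY _ hχ _ F.memY g hg

/-- values of the four characters and of the exceptional ones -/
def Vals (g : G) (v : Fin 4 → ℤ) (w : ℤ) : Prop :=
  (¬ 11 ∣ orderOf g) ∧ (∀ i, (F.c i : G → ℂ) g = (v i : ℂ)) ∧ (F.θ : G → ℂ) g = (w : ℂ)

theorem vals_one : F.Vals 1 (fun i => (F.d i : ℤ)) (F.g0 : ℤ) :=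
  ⟨by simp, fun i => val_one _, val_one _⟩

theorem linear {g : G} {v : Fin 4 → ℤ} {w : ℤ} (h : F.Vals g v w) :
    sgnY F.g0 * w = 1 + ∑ i, sgn (F.d i) * v i := by
  classical
  have h2 := F.blk.pp.rel F.θ F.memY g h.1
  rw [← Finset.add_sum_erase F.X _ F.blk.one_mem, F.blk.one_sign, h.2.2, F.sum_X, (g0_mod F).2,
    Finset.sum_congr rfl (g := fun i : Fin 4 => ((sgn (F.d i) * v i : ℤ) : ℂ)) fun i _ => by
      rw [a_eq, h.2.1 i]; push_cast; rfl] at h2
  simp only [oneChar, Int.cast_one, mul_one] at h2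
  exact_mod_cast h2

theorem sum_Y_const {g : G} {w : ℤ} (hg : ¬ 11 ∣ orderOf g) (hw : (F.θ : G → ℂ) g = w) {R : Type*}
    [AddCommMonoid R] (f : ℂ → R) : ∑ χ ∈ F.Y, f ((χ : G → ℂ) g) = 2 • f w := by
  rw [Finset.sum_congr rfl fun χ hχ => by rw [F.regY hχ hg, hw], Finset.sum_const, F.cardY]

theorem sum_block {M : Type*} [AddCommMonoid M] (f : IrrCharacter G → M) :
    ∑ χ ∈ F.X ∪ F.Y, f χ = f oneChar + ∑ χ ∈ F.X.erase oneChar, f χ + ∑ χ ∈ F.Y, f χ := by
  classical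
  rw [Finset.sum_union F.blk.pp.disj, Finset.add_sum_erase _ _ F.blk.one_mem]

theorem block_sq {g : G} {v : Fin 4 → ℤ} {w : ℤ} (h : F.Vals g v w) :
    ∑ χ ∈ F.X ∪ F.Y, ‖(χ : G → ℂ) g‖ ^ 2 = (sqNum v w : ℝ) := by
  classical
  have hX := F.sum_X fun χ => ((‖(χ : G → ℂ) g‖ ^ 2 : ℝ) : ℂ)
  rw [← Complex.ofReal_sum, ← Complex.ofReal_sum, Complex.ofReal_inj] at hX
  rw [F.sum_block, hX, F.sum_Y_const h.1 h.2.2 (fun z => ‖z‖ ^ 2)]
  simp only [h.2.1, oneChar, norm_one, one_pow, Complex.norm_intCast, sq_abs, nsmul_eq_mul]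
  simp only [sqNum]
  push_cast
  simp only [sq]

theorem sq_le {g : G} {v : Fin 4 → ℤ} {w : ℤ} (h : F.Vals g v w) :
    sqNum v w ≤ (Nat.card (Subgroup.centralizer ({g} : Set G)) : ℤ) := by
  have h1 := column_le g (F.X ∪ F.Y)
  rw [F.block_sq h] at h1
  exact_mod_cast h1

theorem orth {g k : G} {v v' : Fin 4 → ℤ} {w w' : ℤ} (h : F.Vals g v w) (h' : F.Vals k v' w')
    (hne : ¬ IsConj g k) :
    (1 + ∑ i, v i * v' i + 2 * (w * w')) ^ 2 ≤
      ((Nat.card (Subgroup.centralizer ({g} : Set G)) : ℤ) - sqNum v w) *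
        ((Nat.card (Subgroup.centralizer ({k} : Set G)) : ℤ) - sqNum v' w') := by
  classical
  have h0 := second_orth g k
  rw [if_neg hne, ← Finset.sum_add_sum_compl (F.X ∪ F.Y)] at h0
  set S : ℤ := 1 + ∑ i, v i * v' i + 2 * (w * w')
  have hB : ∑ χ ∈ F.X ∪ F.Y, (χ : G → ℂ) g * conj ((χ : G → ℂ) k) = (S : ℂ) := by
    rw [F.sum_block, F.sum_X fun χ => (χ : G → ℂ) g * conj ((χ : G → ℂ) k)]
    rw [Finset.sum_congr rfl (s₁ := F.Y) (g := fun _ => ((w * w' : ℤ) : ℂ)) fun χ hχ => by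
      rw [F.regY hχ h.1, F.regY hχ h'.1, h.2.2, h'.2.2, map_intCast]; push_cast; rfl,
      Finset.sum_const, F.cardY]
    simp only [h.2.1, h'.2.1, oneChar, map_one, mul_one, map_intCast, nsmul_eq_mul, S]
    push_cast
    rfl
  rw [hB] at h0
  have hR : (∑ χ ∈ (F.X ∪ F.Y)ᶜ, (χ : G → ℂ) g * conj ((χ : G → ℂ) k)) = -(S : ℂ) := by linear_combination h0
  have hn : |(S : ℝ)| ≤ ∑ χ ∈ (F.X ∪ F.Y)ᶜ, ‖(χ : G → ℂ) g‖ * ‖(χ : G → ℂ) k‖ := by
    have := norm_sum_le ((F.X ∪ F.Y)ᶜ) fun χ => (χ : G → ℂ) g * conj ((χ : G → ℂ) k)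
    rw [hR, norm_neg, Complex.norm_intCast] at this
    simpa [norm_mul] using this
  have hcs := Finset.sum_mul_sq_le_sq_mul_sq ((F.X ∪ F.Y)ᶜ) (fun χ => ‖(χ : G → ℂ) g‖) (fun χ => ‖(χ : G → ℂ) k‖)
  have hrest : ∀ x : G, ∀ u : Fin 4 → ℤ, ∀ t : ℤ, F.Vals x u t →
      ∑ χ ∈ (F.X ∪ F.Y)ᶜ, ‖(χ : G → ℂ) x‖ ^ 2 =
        (Nat.card (Subgroup.centralizer ({x} : Set G)) : ℝ) - (sqNum u t : ℝ) := by
    intro x u t hx
    rw [← column_eq x, ← Finset.sum_add_sum_compl (F.X ∪ F.Y), F.block_sq hx]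
    ring
  rw [hrest g v w h, hrest k v' w' h'] at hcs
  have h1 : (S : ℝ) ^ 2 ≤ (∑ χ ∈ (F.X ∪ F.Y)ᶜ, ‖(χ : G → ℂ) g‖ * ‖(χ : G → ℂ) k‖) ^ 2 := by
    rw [← sq_abs]
    exact pow_le_pow_left₀ (abs_nonneg _) hn 2
  exact_mod_cast h1.trans hcs

theorem pairs {g k : G} {v v' : Fin 4 → ℤ} {w w' : ℤ} (h : F.Vals g v w) (h' : F.Vals k v' w') :
    0 ≤ pairsNum F.d F.g0 v v' w w' ∧
    ((Nat.card (Subgroup.centralizer ({g} : Set G)) * Nat.card (Subgroup.centralizer ({k} : Set G)) : ℕ) : ℤ) ∣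
      pairsNum F.d F.g0 v v' w w' ∧
    (orderOf g = 2 → orderOf k = 2 → pairsNum F.d F.g0 v v' w w' = 0) := by
  classical
  obtain ⟨y, hy⟩ := SmallOrderGraph.nonOne_nonempty F.P F.cardP
  set R := ((Finset.univ : Finset (G × G)).filter fun t =>
      t.1 * g * t.1⁻¹ * (t.2 * k * t.2⁻¹) = (y : G)).card with hRdef
  have hp := BrauerTuan.pairs_formula_two g k (y : G)
  rw [← hRdef, ← Finset.sum_add_sum_compl (F.X ∪ F.Y),
    Finset.sum_eq_zero (s := (F.X ∪ F.Y)ᶜ) (fun χ hχ => by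
      rw [Finset.mem_compl, Finset.mem_union, not_or] at hχ
      rw [F.vanish χ hχ.1 hχ.2 y hy, map_zero, zero_mul]), add_zero, F.sum_block,
    F.sum_X fun χ => conj ((χ : G → ℂ) y) * ((χ : G → ℂ) g * (χ : G → ℂ) k / (χ : G → ℂ) 1)] at hp
  rw [Finset.sum_congr rfl (s₁ := F.Y) (g := fun χ : IrrCharacter G => conj ((χ : G → ℂ) y) *
      ((w : ℂ) * (w' : ℂ) / (F.g0 : ℂ))) fun χ hχ => by
      rw [F.regY hχ h.1, F.regY hχ h'.1, F.regY hχ (g := 1) (by simp), h.2.2, h'.2.2, val_one]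
      simp [g0],
    ← Finset.sum_mul, ← map_sum, Solv.BReyn.sum_exc F.blk.modular F.cardP F.blk.pp ⟨F.θ, F.memY⟩ hy] at hp
  have hterm : ∀ i, conj ((F.c i : G → ℂ) y) * ((F.c i : G → ℂ) g * (F.c i : G → ℂ) k / (F.c i : G → ℂ) 1) =
      ((sgn (F.d i) * v i * v' i : ℤ) : ℂ) / (F.d i : ℂ) := by
    intro i
    rw [F.blk.pp.a_val _ (F.c_mem i).1 y hy, h.2.1 i, h'.2.1 i, a_eq, map_intCast, val_one]
    push_cast
    simp only [d, Int.cast_natCast]
    ring
  simp only [hterm, oneChar, map_one, mul_one, div_one, map_neg, map_intCast, (g0_mod F).2, F.card, Nat.cast_ofNat] at hp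
  have hdiv : ∀ n : ℕ, n ∣ 95040 → n ≠ 0 → ((95040 / n : ℕ) : ℂ) = 95040 / (n : ℂ) := fun n hn hn0 => by
    rw [Nat.cast_div hn (Nat.cast_ne_zero.2 hn0)]; norm_num
  have hdd : ∀ i, F.d i ∣ 95040 := fun i => by rw [← F.card]; exact deg_dvd_card (F.c i).2
  have hgd : F.g0 ∣ 95040 := by rw [← F.card]; exact deg_dvd_card F.θ.2
  have hd0 : ∀ i, F.d i ≠ 0 := fun i => (deg_pos (F.c i).2).ne'
  have hg0 : F.g0 ≠ 0 := (deg_pos F.θ.2).ne'
  have hkey : ((pairsNum F.d F.g0 v v' w w' : ℤ) : ℂ) = (R : ℂ) := by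
    rw [hp]
    simp only [pairsNum, Int.cast_add, Int.cast_sub, Int.cast_mul, Int.cast_sum, Int.cast_natCast, Int.cast_ofNat]
    rw [hdiv _ hgd hg0, Finset.sum_congr rfl fun i _ => by rw [hdiv _ (hdd i) (hd0 i)],
      mul_add, mul_add, Finset.mul_sum,
      show ∑ x : Fin 4, (95040 : ℂ) * (((sgn (F.d x) : ℤ) : ℂ) * (v x : ℂ) * (v' x : ℂ) / (F.d x : ℂ)) =
        ∑ x : Fin 4, ((sgn (F.d x) : ℤ) : ℂ) * (v x : ℂ) * (v' x : ℂ) * (95040 / (F.d x : ℂ)) from
        Finset.sum_congr rfl fun x _ => by ring]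
    ring
  have hR : pairsNum F.d F.g0 v v' w w' = (R : ℤ) := by exact_mod_cast hkey
  refine ⟨hR ▸ Int.natCast_nonneg _, ?_, fun hg hk => ?_⟩
  · rw [hR]
    exact Int.natCast_dvd_natCast.2 (BrauerTuan.centralizers_dvd_pairs g k (y : G))
  · rw [hR, Int.natCast_eq_zero, Finset.card_eq_zero, Finset.filter_eq_empty_iff]
    rintro ⟨t1, t2⟩ - he
    set s := t1 * g * t1⁻¹ with hs
    set r := t2 * k * t2⁻¹ with hr
    have hy1 : (y : G) ≠ 1 := mem_nonOne.1 hy
    have hss : s * s = 1 := by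
      rw [hs, show t1 * g * t1⁻¹ * (t1 * g * t1⁻¹) = t1 * g ^ 2 * t1⁻¹ by rw [sq]; group, ← hg, pow_orderOf_eq_one]
      group
    have hrr : r * r = 1 := by
      rw [hr, show t2 * k * t2⁻¹ * (t2 * k * t2⁻¹) = t2 * k ^ 2 * t2⁻¹ by rw [sq]; group, ← hk, pow_orderOf_eq_one]
      group
    have hinv : s * (y : G) * s⁻¹ = (y : G)⁻¹ := by
      rw [inv_eq_of_mul_eq_one_right hss, ← he]
      refine Eq.trans ?_ (mul_inv_rev s r).symm
      rw [inv_eq_of_mul_eq_one_right hss, inv_eq_of_mul_eq_one_right hrr]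
      calc s * (s * r) * s = s * s * r * s := by group
        _ = r * s := by rw [hss, one_mul]
    have hzp := eq_zpowers_of_prime_sylow F.cardP y.2 hy1
    have hsN : s ∈ Subgroup.normalizer ((F.P : Subgroup G) : Set G) := by
      rw [Subgroup.mem_normalizer_iff]
      have hmem : ∀ x ∈ (F.P : Subgroup G), s * x * s⁻¹ ∈ (F.P : Subgroup G) := by
        intro x hx
        rw [← hzp] at hx ⊢
        obtain ⟨j, rfl⟩ := hx
        refine ⟨-j, ?_⟩
        show (y : G) ^ (-j) = _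
        rw [zpow_neg, ← inv_zpow, ← hinv, conj_zpow]
      refine fun x => ⟨hmem x, fun hx => ?_⟩
      have := hmem _ hx
      rw [inv_eq_of_mul_eq_one_right hss] at this
      rwa [show s * (s * x * s) * s = s * s * x * (s * s) by group, hss, one_mul, mul_one] at this
    have hN : Nat.card (Subgroup.normalizer ((F.P : Subgroup G) : Set G)) = 55 := by
      have h := Subgroup.card_mul_index ((Subgroup.centralizer ((F.P : Subgroup G) : Set G)).subgroupOf
        (Subgroup.normalizer ((F.P : Subgroup G) : Set G)))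
      rw [Solv.card_subgroupOf (Subgroup.centralizer_le_normalizer _), F.cent] at h
      rw [← h, show ((Subgroup.centralizer ((F.P : Subgroup G) : Set G)).subgroupOf
        (Subgroup.normalizer ((F.P : Subgroup G) : Set G))).index = 5 from F.index]
    have hos : orderOf s = 2 := by
      rw [hs, ← MulAut.conj_apply, ← MulEquiv.coe_toMonoidHom, orderOf_injective _ (MulAut.conj t1).injective, hg]
    have h55 := Subgroup.orderOf_dvd_natCard _ hsN
    rw [hN, hos] at h55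
    omega

/-- The characters of degree prime to eleven. -/
theorem mem_cases {χ : IrrCharacter G} (hne : χ ≠ oneChar) (h : ¬ 11 ∣ charDegree (χ : G → ℂ)) :
    (∃ i, F.c i = χ) ∨ χ ∈ F.Y := by
  by_contra hcon
  rw [not_or] at hcon
  refine h (F.dvd_rest χ (fun hX => hcon.1 (F.c_surj χ hX hne)) hcon.2)

theorem theta_int (g : G) (hg : ¬ 11 ∣ orderOf g) : ∃ w : ℤ, (F.θ : G → ℂ) g = w := by
  refine int_value F.θ fun k hk => ?_
  have h5 := F.g0_mod.1
  have hdeg : charDegree (SmallOrderGraph.galConj F.θ hk : G → ℂ) = F.g0 := SmallOrderGraph.charDegree_galConj _ hk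
  have hne : SmallOrderGraph.galConj F.θ hk ≠ oneChar := fun e => by
    have := one_lt_degree (na F.card) (F.blk.Yne _ F.memY)
    rw [e] at hdeg
    have h1 : charDegree ((oneChar : IrrCharacter G) : G → ℂ) = 1 := by simp [charDegree, oneChar]
    simp only [g0] at hdeg
    omega
  rcases F.mem_cases hne (by rw [hdeg]; omega) with ⟨i, hi⟩ | hY
  · have := F.d_mod i
    simp only [d, hi, hdeg] at this
    omega
  · rw [← SmallOrderGraph.galConj_apply F.θ hk]
    exact F.regY hY hg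

theorem c_int (i : Fin 4) (huniq : ∀ j, F.d j = F.d i → j = i) (g : G) :
    ∃ v : ℤ, (F.c i : G → ℂ) g = v := by
  refine int_value _ fun k hk => ?_
  have hdeg : charDegree (SmallOrderGraph.galConj (F.c i) hk : G → ℂ) = F.d i :=
    SmallOrderGraph.charDegree_galConj _ hk
  have hi := F.d_mod i
  have hne : SmallOrderGraph.galConj (F.c i) hk ≠ oneChar := fun e => by
    have := one_lt_degree (na F.card) (F.c_mem i).2
    rw [e] at hdeg
    have h1 : charDegree ((oneChar : IrrCharacter G) : G → ℂ) = 1 := by simp [charDegree, oneChar]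
    simp only [d] at hdeg
    omega
  rcases F.mem_cases hne (by rw [hdeg]; omega) with ⟨j, hj⟩ | hY
  · rw [← SmallOrderGraph.galConj_apply (F.c i) hk, ← hj, huniq j (by simp only [d, hj]; exact hdeg)]
  · have h5 := (F.blk.pp.congrY _ hY).eq
    rw [hdeg] at h5
    rcases F.blk.pp.sign with h' | h' <;> rw [h'] at h5 <;> omega

end Front

end Cfsg.Agent.MTwelve.OrderFront
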