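import Mathlib

/-!
Elementary facts on coprime actions, used for the centraliser of the central involution.
-/

set_option autoImplicit false

namespace Cfsg.Agent.MTwelve.OrderFront

universe u

variable {G : Type u} [Group G] [Finite G]

/-- A `p`-element normalising a subgroup has, modulo `p`, as many fixed points in it as it has elements. -/
theorem modEq_cent {p : ℕ} [Fact p.Prime] {x : G} {k : ℕ} (hx : x ^ p ^ k = 1) (A : Subgroup G)
    (hA : ∀ a ∈ A, x * a * x⁻¹ ∈ A) :
    Nat.card A ≡ Nat.card ↥(A ⊓ Subgroup.centralizer ({x} : Set G)) [MOD p] := by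
  classical
  have hP : IsPGroup p (Subgroup.zpowers x) := by
    obtain ⟨j, -, hj⟩ := (Nat.dvd_prime_pow Fact.out).1 (orderOf_dvd_of_pow_eq_one hx)
    exact IsPGroup.of_card (n := j) (by rw [Nat.card_zpowers, hj])
  let f : Equiv.Perm A :=
    { toFun := fun a => ⟨x * a * x⁻¹, hA a a.2⟩
      invFun := fun a => ⟨x⁻¹ * a * x, by
        have hinj : Function.Injective fun a : A => (⟨x * a * x⁻¹, hA a a.2⟩ : A) := fun a b h => by
          have h' : x * (a : G) * x⁻¹ = x * b * x⁻¹ := congrArg Subtype.val h
          exact Subtype.ext (mul_left_cancel (mul_right_cancel h'))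
        obtain ⟨b, hb⟩ := (Finite.injective_iff_surjective.1 hinj) a
        have hb' : (x * b * x⁻¹ : G) = a := congrArg Subtype.val hb
        rw [← hb', show x⁻¹ * (x * b * x⁻¹) * x = (b : G) by group]
        exact b.2⟩
      left_inv := fun a => Subtype.ext (by simp [mul_assoc])
      right_inv := fun a => Subtype.ext (by simp [mul_assoc]) }
  have hmem : ∀ g : Subgroup.zpowers x, ∀ a ∈ A, (g : G) * a * (g : G)⁻¹ ∈ A := by
    intro g
    obtain ⟨n, hn⟩ := (isOfFinOrder_of_finite x).mem_powers_iff_mem_zpowers.2 g.2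
    have hn' : x ^ n = (g : G) := hn
    rw [← hn']
    clear hn hn'
    induction n with
    | zero => intro a ha; simpa using ha
    | succ n ih =>
      intro a ha
      rw [pow_succ', show x * x ^ n * a * (x * x ^ n)⁻¹ = x * (x ^ n * a * (x ^ n)⁻¹) * x⁻¹ by group]
      exact hA _ (ih a ha)
  letI : MulAction (Subgroup.zpowers x) A :=
    { smul := fun g a => ⟨(g : G) * a * (g : G)⁻¹, hmem g a a.2⟩
      one_smul := fun a => Subtype.ext (by
        show ((1 : Subgroup.zpowers x) : G) * (a : G) * ((1 : Subgroup.zpowers x) : G)⁻¹ = a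
        simp)
      mul_smul := fun g h a => Subtype.ext (by
        show ((g * h : Subgroup.zpowers x) : G) * (a : G) * ((g * h : Subgroup.zpowers x) : G)⁻¹ =
          (g : G) * ((h : G) * (a : G) * (h : G)⁻¹) * (g : G)⁻¹
        simp [mul_assoc]) }
  have h := hP.card_modEq_card_fixedPoints (α := A)
  have e : MulAction.fixedPoints (Subgroup.zpowers x) A ≃ ↥(A ⊓ Subgroup.centralizer ({x} : Set G)) :=
    { toFun := fun a => ⟨(a.1 : G), a.1.2, Subgroup.mem_centralizer_singleton_iff.2 (by
        have := congrArg Subtype.val (a.2 ⟨x, Subgroup.mem_zpowers x⟩)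
        exact (mul_inv_eq_iff_eq_mul.1 this).symm)⟩
      invFun := fun a => ⟨⟨(a : G), (Subgroup.mem_inf.1 a.2).1⟩, fun g => Subtype.ext (by
        show (g : G) * a * (g : G)⁻¹ = a
        obtain ⟨n, hn⟩ := Subgroup.mem_zpowers_iff.1 g.2
        have hc : Commute (a : G) x := Subgroup.mem_centralizer_singleton_iff.1 (Subgroup.mem_inf.1 a.2).2
        rw [← hn, (hc.zpow_right n).symm.eq, mul_inv_cancel_right])⟩
      left_inv := fun a => rfl
      right_inv := fun a => rfl }
  rwa [Nat.card_congr e] at h

/-- The three conjugates of an element under a fixed-point-free automorphism of order three multiply to one. -/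
theorem fpf_prod {H : Type u} [Group H] [Finite H] (σ : H →* H) (h3 : ∀ x, σ (σ (σ x)) = x)
    (hfix : ∀ x, σ x = x → x = 1) (x : H) : x * σ x * σ (σ x) = 1 := by
  have hinj : Function.Injective fun y : H => y⁻¹ * σ y := fun a b h => by
    have h' : a⁻¹ * σ a = b⁻¹ * σ b := h
    refine (inv_mul_eq_one.1 (hfix (b⁻¹ * a) ?_) : b = a).symm ▸ rfl
    rw [map_mul, map_inv]
    calc (σ b)⁻¹ * σ a = (σ b)⁻¹ * a * (a⁻¹ * σ a) := by group
      _ = (σ b)⁻¹ * a * (b⁻¹ * σ b) := by rw [h']
      _ = b⁻¹ * a := by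
        have e : a * b⁻¹ = σ a * (σ b)⁻¹ := by
          calc a * b⁻¹ = a * (b⁻¹ * σ b) * (σ b)⁻¹ := by group
            _ = a * (a⁻¹ * σ a) * (σ b)⁻¹ := by rw [h']
            _ = σ a * (σ b)⁻¹ := by group
        have e1 : a * b⁻¹ = 1 := hfix _ (by rw [map_mul, map_inv]; exact e.symm)
        rw [mul_inv_eq_one.1 e1]
        group
  obtain ⟨y, rfl⟩ := (Finite.injective_iff_surjective.1 hinj) x
  simp only [map_mul, map_inv, h3]
  group

/-- A group of order sixteen with such an automorphism is commutative. -/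
theorem fpf_comm {H : Type u} [Group H] [Finite H] (σ : H →* H) (h3 : ∀ x, σ (σ (σ x)) = x)
    (hfix : ∀ x, σ x = x → x = 1) (h16 : Nat.card H = 16) (a b : H) : a * b = b * a := by
  haveI : Fact (Nat.Prime 2) := ⟨Nat.prime_two⟩
  set Z := Subgroup.center H
  -- conjugates commute with each other
  have hcomm : ∀ x : H, Commute x (σ x) := by
    intro x
    have hsq3 : ∀ y, σ (σ (σ (σ (σ (σ y))))) = y := fun y => by rw [h3, h3]
    have h1 := fpf_prod σ h3 hfix x
    have h2 := fpf_prod (σ.comp σ) (fun y => by simp only [MonoidHom.comp_apply]; exact hsq3 y)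
      (fun y hy => hfix y (by
        have hy' : σ (σ y) = y := hy
        calc σ y = σ (σ (σ y)) := by rw [hy']
          _ = y := h3 y)) x
    simp only [MonoidHom.comp_apply, h3] at h2
    have e : Commute (σ x) (σ (σ x)) := by
      show σ x * σ (σ x) = σ (σ x) * σ x
      rw [mul_assoc] at h1 h2
      exact (inv_eq_of_mul_eq_one_right h1).symm.trans (inv_eq_of_mul_eq_one_right h2)
    have h := (e.map σ).map σ
    simp only [h3] at h
    exact h
  have hσZ : ∀ z ∈ Z, σ z ∈ Z := fun z hz => Subgroup.mem_center_iff.2 fun g => by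
    rw [← h3 g, ← map_mul, ← map_mul, Subgroup.mem_center_iff.1 hz]
  by_contra hab
  have hZ : Nat.card Z = 4 := by
    have hP : IsPGroup 2 H := IsPGroup.of_card (n := 4) (by rw [h16]; norm_num)
    haveI : Nontrivial H := Finite.one_lt_card_iff_nontrivial.1 (by rw [h16]; norm_num)
    haveI := hP.center_nontrivial
    have h1 : 1 < Nat.card Z := Finite.one_lt_card_iff_nontrivial.2 inferInstance
    have hd : Nat.card Z ∣ 16 := h16 ▸ Subgroup.card_subgroup_dvd_card Z
    have hne : Nat.card Z ≠ 16 := fun h => hab (Subgroup.mem_center_iff.1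
      (by rw [show Subgroup.center H = ⊤ from Subgroup.eq_top_of_card_eq _ (h.trans h16.symm)]; trivial) a)
    have h2 : Nat.card Z ≠ 2 := fun h => by
      obtain ⟨w, hw, huniq⟩ := (Nat.card_eq_two_iff' (1 : Z)).1 h
      have : σ (w : H) = w := by
        by_cases e : σ (w : H) = 1
        · exact absurd (Subtype.ext (by rw [← h3 (w : H), e, map_one, map_one]; rfl)) hw
        · exact congrArg Subtype.val (huniq ⟨σ w, hσZ _ w.2⟩ fun e' => e (congrArg Subtype.val e'))
      exact hw (Subtype.ext (hfix _ this))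
    have h8 : Nat.card Z ≠ 8 := fun h => by
      refine hab (Subgroup.mem_center_iff.1 ?_ a)
      have hidx : Z.index = 2 := by
        have := Subgroup.card_mul_index Z
        rw [h, h16] at this
        omega
      haveI : IsCyclic (H ⧸ Z) := isCyclic_of_prime_card (p := 2) (by rw [← Subgroup.index_eq_card, hidx])
      exact Subgroup.mem_center_iff.2 fun g =>
        (commutative_of_cyclic_center_quotient (QuotientGroup.mk' Z) (by simp [Z]) g b)
    have : Nat.card Z ≤ 16 := Nat.le_of_dvd (by norm_num) hd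
    interval_cases h : Nat.card Z <;> omega
  obtain ⟨x, hx⟩ : ∃ x, x ∉ Z := by
    by_contra h
    push Not at h
    exact hab (Subgroup.mem_center_iff.1 (h b) a)
  have hσx : σ x ∉ Z := fun h => hx (by have := hσZ _ (hσZ _ h); rwa [h3] at this)
  have hne : x⁻¹ * σ x ∉ Z := by
    intro hc
    have hinj : Function.Injective fun y : Z => (⟨(y : H) * (σ y)⁻¹, mul_mem y.2 (inv_mem (hσZ _ y.2))⟩ : Z) := by
      intro y y' h
      have h' : (y : H) * (σ y)⁻¹ = y' * (σ y')⁻¹ := congrArg Subtype.val h
      refine Subtype.ext (inv_mul_eq_one.1 (hfix ((y' : H)⁻¹ * y) ?_)).symm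
      rw [map_mul, map_inv]
      have e : (y : H) = y' * (σ y')⁻¹ * σ y := by rw [← h', inv_mul_cancel_right]
      conv_rhs => rw [e]
      group
    obtain ⟨d, hd⟩ := (Finite.injective_iff_surjective.1 hinj) ⟨_, hc⟩
    have hd' : (d : H) * (σ d)⁻¹ = x⁻¹ * σ x := congrArg Subtype.val hd
    have hfx : σ (x * d) = x * d := by
      have e : σ x = x * ((d : H) * (σ d)⁻¹) := by rw [hd']; group
      rw [map_mul, e]
      group
    exact hx (by rw [eq_inv_of_mul_eq_one_left (hfix _ hfx)]; exact inv_mem d.2)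
  set C := Subgroup.centralizer ({x} : Set H)
  have hZC : Z ≤ C := Subgroup.center_le_centralizer _
  have hxC : x ∈ C := Subgroup.mem_centralizer_singleton_iff.2 rfl
  have hsC : σ x ∈ C := Subgroup.mem_centralizer_singleton_iff.2 (hcomm x).symm.eq
  have hCtop : C = ⊤ := by
    apply Subgroup.eq_top_of_card_eq
    obtain ⟨k, hk⟩ := Subgroup.card_dvd_of_le hZC
    have hd : Nat.card C ∣ 16 := h16 ▸ Subgroup.card_subgroup_dvd_card C
    have h8 : ¬ Nat.card C ≤ 8 := by
      intro hle
      let f : Z ⊕ Z ⊕ Z → C := Sum.elim (fun z => ⟨z, hZC z.2⟩)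
        (Sum.elim (fun z => ⟨x * z, mul_mem hxC (hZC z.2)⟩) (fun z => ⟨σ x * z, mul_mem hsC (hZC z.2)⟩))
      have hf : Function.Injective f := by
        have q : ∀ {r : H} {y y' : Z}, r * y = y' → r ∈ Z := fun {r y y'} e => by
          rw [eq_mul_inv_of_mul_eq e]; exact mul_mem y'.2 (inv_mem y.2)
        rintro (y | y | y) (y' | y' | y') e <;>
          have e' := congrArg Subtype.val e <;> simp only [f, Sum.elim_inl, Sum.elim_inr] at e'
        · rw [Subtype.ext e']
        · exact absurd (q e'.symm) hx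
        · exact absurd (q e'.symm) hσx
        · exact absurd (q e') hx
        · rw [Subtype.ext (mul_left_cancel e')]
        · exact absurd (q (r := x⁻¹ * σ x) (y := y') (y' := y) (by rw [mul_assoc, ← e', inv_mul_cancel_left])) hne
        · exact absurd (q e') hσx
        · exact absurd (q (r := x⁻¹ * σ x) (y := y) (y' := y') (by rw [mul_assoc, e', inv_mul_cancel_left])) hne
        · rw [Subtype.ext (mul_left_cancel e')]
      have h12 := Nat.card_le_card_of_injective f hf
      simp only [Nat.card_sum, hZ] at h12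
      omega
    obtain ⟨i, hi, e⟩ := (Nat.dvd_prime_pow Nat.prime_two).1 (show Nat.card C ∣ 2 ^ 4 by simpa using hd)
    rw [h16, e]
    rw [e] at h8
    interval_cases i <;> norm_num at h8 <;> norm_num
  exact hx (Subgroup.mem_center_iff.2 fun g =>
    Subgroup.mem_centralizer_singleton_iff.1 (hCtop ▸ Subgroup.mem_top g : g ∈ C))

end Cfsg.Agent.MTwelve.OrderFront
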